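import Mathlib

/-!
# The Jacobian étale algebra `(R[T₁..Tₙ]/(P₁..Pₙ))[1/det J]` (helper8)
-/

universe u
open IsLocalRing Polynomial MvPolynomial Algebra

namespace Groth.Agent.H8.Hens

section Jac
variable {R : Type u} [CommRing R] {n : ℕ} (P : Fin n → MvPolynomial (Fin n) R)

/-- The quotient `R[T₁..Tₙ]/(P₁..Pₙ)`. -/
abbrev JacQuot : Type u := MvPolynomial (Fin n) R ⧸ Ideal.span (Set.range P)

/-- The naive presubmersive presentation of `R[T]/(P)`. -/
noncomputable def jacPre : PreSubmersivePresentation R (JacQuot P) (Fin n) (Fin n) :=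
  PreSubmersivePresentation.naive (v := P) id Function.injective_id

/-- The Jacobian determinant as a polynomial. -/
noncomputable def jacDet : MvPolynomial (Fin n) R :=
  (Matrix.of fun i j => MvPolynomial.pderiv j (P i)).det

theorem jacPre_jacobian : (jacPre P).jacobian = Ideal.Quotient.mk _ (jacDet P) := by
  classical
  rw [PreSubmersivePresentation.jacobian_eq_jacobiMatrix_det]
  have : (jacPre P).jacobiMatrix = (Matrix.of fun i j => MvPolynomial.pderiv j (P i)).transpose := by
    ext i j
    simp [jacPre]
  rw [this, Matrix.det_transpose]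
  rfl

/-- The Jacobian algebra `(R[T]/(P))[1/det J]`. -/
abbrev JacAlg : Type u := Localization.Away (jacPre P).jacobian

noncomputable def jacSub :
    SubmersivePresentation R (JacAlg P) (Unit ⊕ Fin n) (Unit ⊕ Fin n) where
  __ := (PreSubmersivePresentation.localizationAway (JacAlg P) (jacPre P).jacobian).comp (jacPre P)
  jacobian_isUnit := by
    rw [PreSubmersivePresentation.comp_jacobian_eq_jacobian_smul_jacobian, Algebra.smul_def,
      IsUnit.mul_iff, PreSubmersivePresentation.localizationAway_jacobian]
    have := IsLocalization.map_units (JacAlg P)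
      (⟨(jacPre P).jacobian, 1, by simp⟩ : Submonoid.powers (jacPre P).jacobian)
    exact ⟨this, this⟩

instance : Algebra.IsStandardSmoothOfRelativeDimension 0 R (JacAlg P) :=
  (jacSub P).isStandardSmoothOfRelativeDimension (by
    simp [Algebra.Presentation.dimension])

instance : Algebra.Etale R (JacAlg P) := inferInstance

end Jac

end Groth.Agent.H8.Hens
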