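import Groth.Agent.Lib.Helper8.Hens.Construction
import Groth.Prelude.Def_Hensel

open IsLocalRing TensorProduct Polynomial

namespace Groth.Agent.H8.Hens

universe u

namespace H

variable {R : Type u} {K : Type u} [CommRing R] [IsLocalRing R] [Field K] [Algebra R K]
  [IsLocalHom (algebraMap R K)]

instance isLocalHom_algebraMap : IsLocalHom (algebraMap R (H R K)) where
  map_nonunit r hr := by
    rw [isUnit_iff] at hr
    have h1 : pt R K (algebraMap R (H R K) r) = algebraMap R K r := (ptₐ R K).commutes r
    rw [h1] at hr
    exact IsLocalHom.map_nonunit (f := algebraMap R K) r (isUnit_iff_ne_zero.mpr hr)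

theorem map_maximalIdeal :
    (maximalIdeal R).map (algebraMap R (H R K)) = maximalIdeal (H R K) := by
  apply le_antisymm
  · exact ((local_hom_TFAE (algebraMap R (H R K))).out 0 2).mp (isLocalHom_algebraMap (R := R) (K := K))
  · intro z hz
    obtain ⟨i, x, rfl⟩ := exists_of z
    rw [mem_maximalIdeal_iff, pt_of, Loc.pt_eq_zero_iff, ← Loc.map_maximalIdeal i.pt] at hz
    have h1 : of i x ∈ ((maximalIdeal R).map (algebraMap R i.Loc)).map (of i) :=
      Ideal.mem_map_of_mem _ hz
    rw [Ideal.map_map] at h1
    have h2 : (of i).comp (algebraMap R i.Loc) = algebraMap R (H R K) := by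
      ext r; exact (algebraMap_eq i r).symm
    rwa [h2] at h1

instance faithfullyFlat : Module.FaithfullyFlat R (H R K) :=
  Module.FaithfullyFlat.of_flat_of_isLocalHom

omit [IsLocalRing R] [IsLocalHom (algebraMap R K)] in
theorem pt_surjective (hK : Function.Surjective (algebraMap R K)) :
    Function.Surjective (pt R K) := fun θ => by
  obtain ⟨r, rfl⟩ := hK θ
  exact ⟨algebraMap R (H R K) r, (ptₐ R K).commutes r⟩

end H

section Henselization

variable (R : Type u) [CommRing R] [IsLocalRing R]

instance : IsLocalHom (algebraMap R (ResidueField R)) :=
  inferInstanceAs (IsLocalHom (residue R))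

/-- The henselization of a local ring. -/
abbrev Henselization : Type u := H R (ResidueField R)

variable {R}

/-- The residue field map of a local homomorphism, as an `R`-algebra map. -/
noncomputable def residueMapₐ {T : Type u} [CommRing T] [IsLocalRing T] [Algebra R T]
    [IsLocalHom (algebraMap R T)] : ResidueField R →ₐ[R] ResidueField T :=
  { ResidueField.map (algebraMap R T) with
    commutes' := fun r => by
      show ResidueField.map (algebraMap R T) (residue R r) = _
      rw [ResidueField.map_residue]
      rfl }

theorem Henselization.residue_eq {T : Type u} [CommRing T] [IsLocalRing T] [Algebra R T]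
    [IsLocalHom (algebraMap R T)] (g : Henselization R →ₐ[R] T) (z : Henselization R) :
    residue T (g z) = residueMapₐ (H.pt R (ResidueField R) z) := by
  obtain ⟨r, hr⟩ := residue_surjective (H.pt R (ResidueField R) z)
  have h1 : z - algebraMap R (Henselization R) r ∈ maximalIdeal (Henselization R) := by
    rw [H.mem_maximalIdeal_iff, map_sub, sub_eq_zero]
    have : H.pt R (ResidueField R) (algebraMap R _ r) = algebraMap R (ResidueField R) r :=
      (H.ptₐ R (ResidueField R)).commutes r
    rw [this, ← hr]; rfl
  rw [← H.map_maximalIdeal] at h1
  have h2 : g (z - algebraMap R (Henselization R) r) ∈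
      ((maximalIdeal R).map (algebraMap R (Henselization R))).map g.toRingHom :=
    Ideal.mem_map_of_mem _ h1
  rw [Ideal.map_map] at h2
  have h3 : g.toRingHom.comp (algebraMap R (Henselization R)) = algebraMap R T := by
    ext x; exact g.commutes x
  rw [h3] at h2
  have h4 : (maximalIdeal R).map (algebraMap R T) ≤ maximalIdeal T :=
    ((local_hom_TFAE (algebraMap R T)).out 0 2).mp ‹IsLocalHom (algebraMap R T)›
  have h5 := h4 h2
  rw [← residue_eq_zero_iff, map_sub, map_sub, sub_eq_zero, AlgHom.commutes] at h5
  rw [h5, ← hr]
  show _ = ResidueField.map (algebraMap R T) (residue R r)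
  rw [ResidueField.map_residue]

theorem isHenselization : Hensel.IsHenselization R (Henselization R) where
  henselian := inferInstance
  universal T _ _ f hf := by
    let _ := f.toAlgebra
    have : IsLocalHom (algebraMap R T) := hf
    refine ⟨(H.lift (residueMapₐ (R := R) (T := T))).toRingHom, ?_, ?_⟩
    · ext r; exact (H.lift (residueMapₐ (R := R) (T := T))).commutes r
    · intro g hg
      let g' : Henselization R →ₐ[R] T :=
        { g with commutes' := fun r => congrArg (fun w => w r) hg }
      have h1 := H.lift_unique (residueMapₐ (R := R) (T := T)) g'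
        (fun z => Henselization.residue_eq g' z)
      rw [← h1]


/-! ### Uniqueness and transport -/

section Transport

variable (S : Type u) [CommRing S] [IsLocalRing S] [Algebra R S] [IsLocalHom (algebraMap R S)]
  [hS : Hensel.IsHenselization R S]

include hS in
/-- Any henselization is isomorphic to the constructed one. -/
theorem nonempty_algEquiv : Nonempty (Henselization R ≃ₐ[R] S) := by
  have : HenselianLocalRing S := hS.henselian
  have hH := isHenselization (R := R)
  obtain ⟨g, hg, -⟩ := hH.universal S (algebraMap R S) inferInstance
  obtain ⟨g', hg', -⟩ := hS.universal (Henselization R) (algebraMap R (Henselization R))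
    inferInstance
  have h1 : g'.comp g = RingHom.id _ := by
    obtain ⟨u, -, hu⟩ := hH.universal (Henselization R) (algebraMap R (Henselization R))
      inferInstance
    rw [hu (g'.comp g) (by show (g'.comp g).comp _ = _; rw [RingHom.comp_assoc, hg, hg']),
      hu (RingHom.id _) (by simp)]
  have h2 : g.comp g' = RingHom.id _ := by
    obtain ⟨u, -, hu⟩ := hS.universal S (algebraMap R S) inferInstance
    rw [hu (g.comp g') (by show (g.comp g').comp _ = _; rw [RingHom.comp_assoc, hg', hg]),
      hu (RingHom.id _) (by simp)]
  exact ⟨{ RingEquiv.ofRingHom g g' h2 h1 with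
    commutes' := fun r => congrArg (fun w => w r) hg }⟩

/-- A chosen isomorphism from the constructed henselization. -/
noncomputable def algEquiv : Henselization R ≃ₐ[R] S := (nonempty_algEquiv S).some

include hS in
theorem map_maximalIdeal_of_isHenselization :
    (maximalIdeal R).map (algebraMap R S) = maximalIdeal S := by
  let e := algEquiv (R := R) S
  have h1 : algebraMap R S = (e : Henselization R →+* S).comp (algebraMap R _) := by
    ext r; exact (e.commutes r).symm
  rw [h1, ← Ideal.map_map, H.map_maximalIdeal]
  have : IsLocalHom (e : Henselization R →+* S) := by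
    constructor
    intro a ha
    have := ha.map e.symm
    simpa using this
  rw [← IsLocalRing.maximalIdeal_comap (e : Henselization R →+* S)]
  exact Ideal.map_comap_of_surjective (e : Henselization R →+* S) e.surjective _

include hS in
theorem flat_of_isHenselization : Module.Flat R S :=
  Module.Flat.of_linearEquiv (algEquiv (R := R) S).symm.toLinearEquiv

include hS in
theorem faithfullyFlat_of_isHenselization : Module.FaithfullyFlat R S :=
  have := flat_of_isHenselization (R := R) S
  Module.FaithfullyFlat.of_flat_of_isLocalHom

include hS in
theorem residue_surjective_of_isHenselization (s : S) :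
    ∃ r : R, s - algebraMap R S r ∈ maximalIdeal S := by
  let e := algEquiv (R := R) S
  obtain ⟨r, hr⟩ := residue_surjective (H.pt R (ResidueField R) (e.symm s))
  refine ⟨r, ?_⟩
  have h1 : e.symm s - algebraMap R (Henselization R) r ∈ maximalIdeal (Henselization R) := by
    rw [H.mem_maximalIdeal_iff, map_sub, sub_eq_zero]
    have : H.pt R (ResidueField R) (algebraMap R _ r) = algebraMap R (ResidueField R) r :=
      (H.ptₐ R (ResidueField R)).commutes r
    rw [this, ← hr]; rfl
  by_contra hnu
  rw [mem_maximalIdeal, mem_nonunits_iff, not_not] at hnu
  have h2 := hnu.map e.symm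
  rw [map_sub, AlgEquiv.commutes] at h2
  exact h1 h2

include hS in
theorem residueField_map_bijective_of_isHenselization :
    Function.Bijective (ResidueField.map (algebraMap R S)) := by
  refine ⟨(ResidueField.map (algebraMap R S)).injective, fun x => ?_⟩
  obtain ⟨s, rfl⟩ := residue_surjective x
  obtain ⟨r, hr⟩ := residue_surjective_of_isHenselization (R := R) S s
  refine ⟨residue R r, ?_⟩
  rw [ResidueField.map_residue]
  rw [← residue_eq_zero_iff, map_sub, sub_eq_zero] at hr
  exact hr.symm

end Transport

end Henselization

end Groth.Agent.H8.Hens
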