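import Groth.Agent.Lib.Helper8.Hens.Henselization
import Groth.Prelude.Def_Hensel

open IsLocalRing TensorProduct Polynomial

namespace Groth.Agent.H8.Hens

universe u

theorem isSepClosed_of_ringEquiv {k k' : Type*} [Field k] [Field k'] (e : k ≃+* k')
    [IsSepClosed k] : IsSepClosed k' := by
  apply IsSepClosed.of_exists_root
  intro p _ hirr hsep
  have h1 : (p.map (e.symm : k' →+* k)).Separable := hsep.map
  have h2 : (p.map (e.symm : k' →+* k)).degree ≠ 0 := by
    rw [degree_map]
    exact (degree_pos_of_irreducible hirr).ne'
  obtain ⟨x, hx⟩ := IsSepClosed.exists_root _ h2 h1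
  refine ⟨e x, ?_⟩
  have h3 := eval_map_apply (p := p.map (e.symm : k' →+* k)) (e : k →+* k') x
  rw [Polynomial.map_map] at h3
  have h4 : (e : k →+* k').comp (e.symm : k' →+* k) = RingHom.id k' := by ext; simp
  rw [h4, Polynomial.map_id] at h3
  have h5 : eval x (p.map (e.symm : k' →+* k)) = 0 := hx
  rw [h5, map_zero] at h3
  exact h3

section SimpleRoots

variable {R : Type u} {K : Type u} [CommRing R] [Field K] [Algebra R K]

/-- `pt` is surjective when every element of `K` is a simple root of a monic polynomial over
`R`. -/
theorem H.pt_surjective_of_simple_roots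
    (hK : ∀ θ : K, ∃ F : R[X], F.Monic ∧ aeval θ F = 0 ∧ aeval θ (derivative F) ≠ 0) :
    Function.Surjective (H.pt R K) := by
  intro θ
  obtain ⟨F, hF, h0, h1⟩ := hK θ
  let P : StandardEtalePair R := ⟨F, hF, derivative F, ⟨1, 0, 1, by simp⟩⟩
  have hmap : P.HasMap θ := ⟨h0, isUnit_iff_ne_zero.mpr h1⟩
  let σ : P.Ring →ₐ[R] K := P.lift θ hmap
  refine ⟨H.ofAlg P.Ring σ (algebraMap _ _ P.X), ?_⟩
  rw [H.pt_ofAlg, Loc.pt_algebraMap]
  exact P.lift_X θ hmap

variable [IsLocalRing R] [Algebra (ResidueField R) K] [IsScalarTower R (ResidueField R) K]

theorem exists_monic_simple_root [Algebra.IsSeparable (ResidueField R) K] (θ : K) :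
    ∃ F : R[X], F.Monic ∧ aeval θ F = 0 ∧ aeval θ (derivative F) ≠ 0 := by
  have hsep : (minpoly (ResidueField R) θ).Separable := Algebra.IsSeparable.isSeparable _ θ
  have hint : IsIntegral (ResidueField R) θ := (Algebra.IsSeparable.isSeparable _ θ).isIntegral
  have hmon : (minpoly (ResidueField R) θ).Monic := minpoly.monic hint
  have hlift : minpoly (ResidueField R) θ ∈ Polynomial.lifts (algebraMap R (ResidueField R)) := by
    rw [Polynomial.lifts_iff_coeff_lifts]
    intro n
    exact residue_surjective _
  obtain ⟨F, hF, -, hFmon⟩ := Polynomial.lifts_and_degree_eq_and_monic hlift hmon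
  refine ⟨F, hFmon, ?_, ?_⟩
  · rw [← aeval_map_algebraMap (ResidueField R), hF, minpoly.aeval]
  · rw [← aeval_map_algebraMap (ResidueField R), ← derivative_map, hF]
    exact hsep.aeval_derivative_ne_zero (minpoly.aeval _ θ)

end SimpleRoots

section ResidueField

variable {R : Type u} {K : Type u} [CommRing R] [Field K] [Algebra R K]

/-- The residue field of `H R K` maps to `K`. -/
noncomputable def H.resPt : ResidueField (H R K) →+* K :=
  Ideal.Quotient.lift (maximalIdeal (H R K)) (H.pt R K)
    (fun z hz => (H.mem_maximalIdeal_iff z).mp hz)

@[simp]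
theorem H.resPt_residue (z : H R K) : H.resPt (residue _ z) = H.pt R K z := rfl

theorem H.resPt_bijective (hsurj : Function.Surjective (H.pt R K)) :
    Function.Bijective (H.resPt (R := R) (K := K)) := by
  refine ⟨RingHom.injective _, fun θ => ?_⟩
  obtain ⟨z, rfl⟩ := hsurj θ
  exact ⟨residue _ z, rfl⟩

variable [IsLocalRing R] [IsLocalHom (algebraMap R K)]
  [Algebra (ResidueField R) K] [IsScalarTower R (ResidueField R) K]

/-- The residue field of `H R K` is `K`, as an algebra over the residue field of `R`. -/
noncomputable def H.resEquiv (hsurj : Function.Surjective (H.pt R K)) :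
    ResidueField (H R K) ≃ₐ[ResidueField R] K :=
  { RingEquiv.ofBijective H.resPt (H.resPt_bijective hsurj) with
    commutes' := fun x => by
      obtain ⟨r, rfl⟩ := residue_surjective x
      show H.resPt (ResidueField.map (algebraMap R (H R K)) (residue R r)) = _
      rw [ResidueField.map_residue, H.resPt_residue]
      have h1 : H.pt R K (algebraMap R (H R K) r) = algebraMap R K r := (H.ptₐ R K).commutes r
      rw [h1, IsScalarTower.algebraMap_apply R (ResidueField R) K]
      rfl }

@[simp]
theorem H.resEquiv_residue (hsurj : Function.Surjective (H.pt R K)) (z : H R K) :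
    H.resEquiv hsurj (residue _ z) = H.pt R K z := rfl

end ResidueField

section StrictHenselization

variable (R : Type u) [CommRing R] [IsLocalRing R]

/-- The chosen separable closure of the residue field. -/
abbrev SepK : Type u := SeparableClosure (ResidueField R)

instance : IsLocalHom (algebraMap R (SepK R)) where
  map_nonunit r hr := by
    rw [IsScalarTower.algebraMap_apply R (ResidueField R) (SepK R)] at hr
    have h1 : algebraMap R (ResidueField R) r ≠ 0 := fun h => by
      rw [h, map_zero] at hr; exact not_isUnit_zero hr
    by_contra hnu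
    exact h1 ((residue_eq_zero_iff r).mpr hnu)

/-- The strict henselization of a local ring. -/
abbrev StrictHenselization : Type u := H R (SepK R)

variable {R}

theorem StrictHenselization.pt_surjective : Function.Surjective (H.pt R (SepK R)) :=
  H.pt_surjective_of_simple_roots (fun θ => exists_monic_simple_root θ)

theorem isStrictHenselization : Hensel.IsStrictHenselization R (StrictHenselization R) where
  henselian := inferInstance
  isSepClosure := by
    let e := H.resEquiv (R := R) (K := SepK R) StrictHenselization.pt_surjective
    refine ⟨isSepClosed_of_ringEquiv e.symm.toRingEquiv, ?_⟩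
    exact AlgEquiv.Algebra.isSeparable e.symm
  universal T _ _ f _ τ hτ := by
    let _ := f.toAlgebra
    let e := H.resEquiv (R := R) (K := SepK R) StrictHenselization.pt_surjective
    let τ' : SepK R →ₐ[R] ResidueField T :=
      { τ.comp (e.symm : SepK R →+* ResidueField (StrictHenselization R)) with
        commutes' := fun r => by
          show τ (e.symm (algebraMap R (SepK R) r)) = _
          have h1 : e.symm (algebraMap R (SepK R) r) =
              ResidueField.map (algebraMap R (StrictHenselization R)) (residue R r) := by
            rw [AlgEquiv.symm_apply_eq, ResidueField.map_residue, H.resEquiv_residue]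
            exact ((H.ptₐ R (SepK R)).commutes r).symm
          rw [h1]
          have h2 := congrArg (fun w => w (residue R r)) hτ
          simp only [RingHom.comp_apply] at h2
          rw [h2, ResidueField.map_residue]
          rfl }
    have hτ' : ∀ z : StrictHenselization R, τ' (H.pt R (SepK R) z) = τ (residue _ z) := by
      intro z
      show τ (e.symm (H.pt R (SepK R) z)) = _
      rw [← H.resEquiv_residue StrictHenselization.pt_surjective z, AlgEquiv.symm_apply_apply]
    refine ⟨(H.lift τ').toRingHom, ⟨?_, ?_⟩, ?_⟩
    · ext r; exact (H.lift τ').commutes r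
    · intro x
      show residue T (H.lift τ' x) = _
      rw [H.residue_lift, hτ']
    · rintro g ⟨hg1, hg2⟩
      let g' : StrictHenselization R →ₐ[R] T :=
        { g with commutes' := fun r => congrArg (fun w => w r) hg1 }
      have h1 := H.lift_unique τ' g' (fun z => by
        show residue T (g z) = _
        rw [hg2, hτ'])
      rw [← h1]

end StrictHenselization

section StrictTransport

variable {R : Type u} [CommRing R] [IsLocalRing R]
variable (S : Type u) [CommRing S] [IsLocalRing S] [Algebra R S] [IsLocalHom (algebraMap R S)]
  [hS : Hensel.IsStrictHenselization R S]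

include hS in
/-- Any strict henselization is isomorphic to the constructed one. -/
theorem nonempty_algEquiv_strict : Nonempty (StrictHenselization R ≃ₐ[R] S) := by
  have : HenselianLocalRing S := hS.henselian
  have : IsSepClosure (ResidueField R) (ResidueField S) := hS.isSepClosure
  have hH := isStrictHenselization (R := R)
  have : IsSepClosure (ResidueField R) (ResidueField (StrictHenselization R)) := hH.isSepClosure
  let ρ : ResidueField (StrictHenselization R) ≃ₐ[ResidueField R] ResidueField S :=
    IsSepClosure.equiv (ResidueField R) _ _
  obtain ⟨g, ⟨hg1, hg2⟩, -⟩ := hH.universal S (algebraMap R S)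
    (ρ : ResidueField (StrictHenselization R) →+* ResidueField S) (by
      ext x; exact ρ.commutes x)
  obtain ⟨g', ⟨hg'1, hg'2⟩, -⟩ := hS.universal (StrictHenselization R)
    (algebraMap R (StrictHenselization R))
    (ρ.symm : ResidueField S →+* ResidueField (StrictHenselization R)) (by
      ext x; exact ρ.symm.commutes x)
  have h1 : g'.comp g = RingHom.id _ := by
    obtain ⟨u, -, hu⟩ := hH.universal (StrictHenselization R)
      (algebraMap R (StrictHenselization R)) (RingHom.id _) (by ext x; rfl)
    rw [hu (g'.comp g) ⟨by rw [RingHom.comp_assoc, hg1, hg'1], fun x => by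
        simp only [RingHom.comp_apply, RingHom.id_apply]
        rw [hg'2, hg2]; exact ρ.symm_apply_apply _⟩,
      hu (RingHom.id _) ⟨by simp, fun x => rfl⟩]
  have h2 : g.comp g' = RingHom.id _ := by
    obtain ⟨u, -, hu⟩ := hS.universal S (algebraMap R S) (RingHom.id _) (by ext x; rfl)
    rw [hu (g.comp g') ⟨by rw [RingHom.comp_assoc, hg'1, hg1], fun x => by
        simp only [RingHom.comp_apply, RingHom.id_apply]
        rw [hg2, hg'2]; exact ρ.apply_symm_apply _⟩,
      hu (RingHom.id _) ⟨by simp, fun x => rfl⟩]
  exact ⟨{ RingEquiv.ofRingHom g g' h2 h1 with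
    commutes' := fun r => congrArg (fun w => w r) hg1 }⟩

/-- A chosen isomorphism from the constructed strict henselization. -/
noncomputable def algEquivStrict : StrictHenselization R ≃ₐ[R] S :=
  (nonempty_algEquiv_strict S).some

include hS in
theorem map_maximalIdeal_of_isStrictHenselization :
    (maximalIdeal R).map (algebraMap R S) = maximalIdeal S := by
  let e := algEquivStrict (R := R) S
  have h1 : algebraMap R S = (e : StrictHenselization R →+* S).comp (algebraMap R _) := by
    ext r; exact (e.commutes r).symm
  rw [h1, ← Ideal.map_map, H.map_maximalIdeal]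
  have : IsLocalHom (e : StrictHenselization R →+* S) := by
    constructor
    intro a ha
    have := ha.map e.symm
    simpa using this
  rw [← IsLocalRing.maximalIdeal_comap (e : StrictHenselization R →+* S)]
  exact Ideal.map_comap_of_surjective (e : StrictHenselization R →+* S) e.surjective _

include hS in
theorem flat_of_isStrictHenselization : Module.Flat R S :=
  Module.Flat.of_linearEquiv (algEquivStrict (R := R) S).symm.toLinearEquiv

include hS in
theorem faithfullyFlat_of_isStrictHenselization : Module.FaithfullyFlat R S :=
  have := flat_of_isStrictHenselization (R := R) S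
  Module.FaithfullyFlat.of_flat_of_isLocalHom

end StrictTransport

end Groth.Agent.H8.Hens
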