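import Mathlib

open Polynomial TensorProduct

namespace Groth.Agent.H8.Hens

/-- Over a domain, a polynomial which is integral over the base is constant. -/
theorem eq_C_of_isIntegral_of_isDomain {D : Type*} [CommRing D] [IsDomain D] {p : D[X]}
    (hp : IsIntegral D p) : p = C (p.coeff 0) := by
  obtain ⟨q, hq, hq0⟩ := hp
  have h1 : q.comp p = 0 := hq0
  rcases Polynomial.comp_eq_zero_iff.mp h1 with h | ⟨-, h⟩
  · exact absurd h hq.ne_zero
  · exact h

/-- Over a reduced ring, a polynomial which is integral over the base is constant. -/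
theorem eq_C_of_isIntegral_of_isReduced {A : Type*} [CommRing A] [IsReduced A] {p : A[X]}
    (hp : IsIntegral A p) : p = C (p.coeff 0) := by
  ext n
  rcases n with _ | n
  · simp
  · rw [coeff_C_succ]
    have h1 : p.coeff (n + 1) ∈ nilradical A := by
      rw [nilradical_eq_sInf, Ideal.mem_sInf]
      intro 𝔭 h𝔭
      have : 𝔭.IsPrime := h𝔭
      have h2 : IsIntegral (A ⧸ 𝔭) (p.map (Ideal.Quotient.mk 𝔭)) := by
        have h5 := (hp.map (Polynomial.mapAlgHom (Ideal.Quotient.mkₐ A 𝔭))).tower_top (A := A ⧸ 𝔭)
        exact h5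
      have h3 := eq_C_of_isIntegral_of_isDomain h2
      have h4 := congrArg (fun r => r.coeff (n + 1)) h3
      simp only [coeff_map, coeff_C_succ] at h4
      exact Ideal.Quotient.eq_zero_iff_mem.mp h4
    rw [nilradical_eq_zero] at h1
    exact h1

/-- A smooth algebra over a reduced ring is reduced. -/
theorem isReduced_of_smooth (A E : Type*) [CommRing A] [CommRing E] [Algebra A E]
    [IsReduced A] [Algebra.Smooth A E] : IsReduced E := by
  constructor
  intro e he
  -- the element `e ⊗ X` is nilpotent, hence integral over `E`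
  let z : E ⊗[A] A[X] := e ⊗ₜ X
  have hz : IsNilpotent z := by
    obtain ⟨n, hn⟩ := he
    exact ⟨n, by simp [z, Algebra.TensorProduct.tmul_pow, hn]⟩
  have hzint : IsIntegral E z := by
    obtain ⟨n, hn⟩ := hz
    exact ⟨X ^ n, monic_X_pow n, by simp [hn]⟩
  obtain ⟨t, ht⟩ := (TensorProduct.toIntegralClosure_bijective_of_smooth
    (R := A) (S := E) (B := A[X])).2 ⟨z, hzint⟩
  -- the linear map "coefficient of X"
  let c : E ⊗[A] A[X] →ₗ[A] E :=
    (TensorProduct.rid A E).toLinearMap ∘ₗ LinearMap.lTensor E (Polynomial.lcoeff A 1)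
  have hcz : c z = e := by simp [c, z]
  have hct : ∀ t : E ⊗[A] integralClosure A A[X],
      c ((TensorProduct.toIntegralClosure A E A[X] t : integralClosure E (E ⊗[A] A[X])) :
        E ⊗[A] A[X]) = 0 := by
    intro t
    induction t with
    | zero => simp
    | add x y hx hy => simp only [map_add, Subalgebra.coe_add, hx, hy, add_zero]
    | tmul x y =>
      have hy : (y : A[X]) = C ((y : A[X]).coeff 0) := eq_C_of_isIntegral_of_isReduced y.2
      simp only [TensorProduct.toIntegralClosure, AlgHom.coe_codRestrict,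
        Algebra.TensorProduct.map_tmul, AlgHom.coe_id, id_eq, Subalgebra.coe_val, c,
        LinearMap.coe_comp, LinearEquiv.coe_coe, Function.comp_apply, LinearMap.lTensor_tmul,
        Polynomial.lcoeff_apply, TensorProduct.rid_tmul]
      rw [hy, coeff_C_succ, zero_smul]
  have := hct t
  rw [ht] at this
  rw [← hcz]; exact this

end Groth.Agent.H8.Hens
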