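import Groth.Agent.Lib.Helper8.Hens.Strict
import Groth.Agent.Lib.Helper8.Hens.SmoothReduced

open IsLocalRing

namespace Groth.Agent.H8.Hens

universe u

section

variable {R : Type u} {K : Type u} [CommRing R] [Field K] [Algebra R K]

instance H.isReduced [IsReduced R] : IsReduced (H R K) := by
  constructor
  intro z hz
  obtain ⟨n, hn⟩ := hz
  obtain ⟨i, x, rfl⟩ := H.exists_of z
  rw [← map_pow] at hn
  obtain ⟨j, hij, hj⟩ := H.of_eq_zero hn
  have : IsReduced j.Ring := isReduced_of_smooth R j.Ring
  have h1 : EtPt.trans hij x = 0 := by
    apply IsReduced.eq_zero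
    exact ⟨n, by rw [← map_pow, hj]⟩
  rw [← H.of_trans hij, h1, map_zero]

end

section

variable {R : Type u} [CommRing R] [IsLocalRing R]
variable (S : Type u) [CommRing S] [IsLocalRing S] [Algebra R S] [IsLocalHom (algebraMap R S)]

theorem isReduced_iff_of_isHenselization [Hensel.IsHenselization R S] :
    IsReduced R ↔ IsReduced S := by
  constructor
  · intro h
    exact isReduced_of_injective (algEquiv (R := R) S).symm.toRingEquiv
      (algEquiv (R := R) S).symm.injective
  · intro h
    have := faithfullyFlat_of_isHenselization (R := R) S
    exact isReduced_of_injective (algebraMap R S) (FaithfulSMul.algebraMap_injective R S)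

theorem isReduced_iff_of_isStrictHenselization [Hensel.IsStrictHenselization R S] :
    IsReduced R ↔ IsReduced S := by
  constructor
  · intro h
    exact isReduced_of_injective (algEquivStrict (R := R) S).symm.toRingEquiv
      (algEquivStrict (R := R) S).symm.injective
  · intro h
    have := faithfullyFlat_of_isStrictHenselization (R := R) S
    exact isReduced_of_injective (algebraMap R S) (FaithfulSMul.algebraMap_injective R S)

end

end Groth.Agent.H8.Hens
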