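import Mathlib
import Groth.Agent.Lib.Helper8.Hens.Reduced

universe u
open TensorProduct IsLocalRing Polynomial

namespace Groth.Agent.H8.Hens

/-- von Neumann regularity of integral elements in reduced algebras over a field. -/
theorem exists_eq_sq_mul_of_isIntegral {L B : Type*} [Field L] [CommRing B] [Algebra L B]
    [IsReduced B] (x : B) (hx : IsIntegral L x) : ∃ y, x = x ^ 2 * y := by
  obtain ⟨p, hpm, hp⟩ := hx
  have hp0 : p ≠ 0 := hpm.ne_zero
  obtain ⟨q, hq, hnd⟩ := Polynomial.exists_eq_pow_rootMultiplicity_mul_and_not_dvd p hp0 0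
  set n := p.rootMultiplicity 0
  rw [C_0, sub_zero] at hq hnd
  have hq0 : q.coeff 0 ≠ 0 := by
    intro h
    exact hnd (Polynomial.X_dvd_iff.mpr h)
  have h1 : x ^ n * aeval x q = 0 := by
    have := hp
    rw [← aeval_def, hq, map_mul, map_pow, aeval_X] at this
    exact this
  have h2 : x * aeval x q = 0 := by
    apply IsReduced.eq_zero
    refine ⟨n + 1, ?_⟩
    have : (x * aeval x q) ^ (n + 1) = (x ^ n * aeval x q) * (x * aeval x q ^ n) := by ring
    rw [this, h1, zero_mul]
  have h3 : aeval x q = aeval x q.divX * x + algebraMap L B (q.coeff 0) := by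
    conv_lhs => rw [← Polynomial.divX_mul_X_add q]
    simp
  rw [h3, mul_add] at h2
  refine ⟨-(algebraMap L B (q.coeff 0)⁻¹ * aeval x q.divX), ?_⟩
  have h4 : algebraMap L B (q.coeff 0)⁻¹ * algebraMap L B (q.coeff 0) = 1 := by
    rw [← map_mul, inv_mul_cancel₀ hq0, map_one]
  have h5 : x * algebraMap L B (q.coeff 0) = -(x * (aeval x q.divX * x)) := by
    rw [eq_neg_iff_add_eq_zero, add_comm]; exact h2
  calc x = x * algebraMap L B (q.coeff 0) * algebraMap L B (q.coeff 0)⁻¹ := by
        rw [mul_assoc, mul_comm (algebraMap L B (q.coeff 0)), h4, mul_one]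
    _ = _ := by rw [h5]; ring

theorem isField_of_forall_exists_eq_sq_mul {B : Type*} [CommRing B] [Nontrivial B]
    (hvn : ∀ x : B, ∃ y, x = x ^ 2 * y) (hid : ∀ e : B, IsIdempotentElem e → e = 0 ∨ e = 1) :
    IsField B := by
  refine ⟨exists_pair_ne B, mul_comm, fun {x} hx => ?_⟩
  obtain ⟨y, hy⟩ := hvn x
  have he : IsIdempotentElem (x * y) := by
    unfold IsIdempotentElem
    calc x * y * (x * y) = (x ^ 2 * y) * y := by ring
      _ = x * y := by rw [← hy]
  rcases hid _ he with h | h
  · exfalso
    apply hx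
    calc x = x ^ 2 * y := hy
      _ = x * (x * y) := by ring
      _ = 0 := by rw [h, mul_zero]
  · exact ⟨y, h⟩

theorem eq_zero_or_one_of_isIdempotentElem {T : Type*} [CommRing T] [IsLocalRing T]
    (e : T) (he : IsIdempotentElem e) : e = 0 ∨ e = 1 := by
  have h0 : e * (1 - e) = 0 := by rw [mul_sub, mul_one, he.eq, sub_self]
  rcases IsLocalRing.isUnit_or_isUnit_one_sub_self e with h | h
  · right
    have := h.mul_right_eq_zero.mp h0
    exact (sub_eq_zero.mp this).symm
  · left
    exact h.mul_left_eq_zero.mp h0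

/-- If base change to `T` preserves integral closure and `P` is integrally closed in `L`,
integral elements of `T ⊗ L` come from `T`. -/
theorem exists_algebraMap_eq_of_isIntegral (P T L : Type*) [CommRing P] [CommRing T] [Algebra P T]
    [CommRing L] [Algebra P L]
    (hP : ∀ l : L, IsIntegral P l → ∃ p : P, algebraMap P L p = l)
    (hbij : Function.Bijective (TensorProduct.toIntegralClosure P T L))
    (x : T ⊗[P] L) (hx : IsIntegral T x) : ∃ y : T, algebraMap T (T ⊗[P] L) y = x := by
  obtain ⟨z, hz⟩ := hbij.2 ⟨x, hx⟩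
  have key : ∀ z : T ⊗[P] integralClosure P L,
      ∃ y, algebraMap T (T ⊗[P] L) y = (TensorProduct.toIntegralClosure P T L z : T ⊗[P] L) := by
    intro z
    induction z with
    | zero => exact ⟨0, by simp⟩
    | add a b ha hb =>
      obtain ⟨ya, hya⟩ := ha
      obtain ⟨yb, hyb⟩ := hb
      exact ⟨ya + yb, by rw [map_add, map_add, hya, hyb]; rfl⟩
    | tmul t l =>
      obtain ⟨l, hl⟩ := l
      obtain ⟨p, rfl⟩ := hP l hl
      refine ⟨p • t, ?_⟩
      simp [TensorProduct.toIntegralClosure]
      rw [Algebra.algebraMap_eq_smul_one, ← TensorProduct.smul_tmul]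
  obtain ⟨y, hy⟩ := key z
  exact ⟨y, by rw [hy, hz]⟩

/-- A reduced local ring `T`, flat, essentially of finite type and unramified over a normal
domain `P`, such that base change to `T` preserves integral closure in `Frac P`, is a normal
domain. -/
theorem isDomain_and_isIntegrallyClosed_of_isLocalRing (P T : Type u) [CommRing P] [IsDomain P]
    [IsIntegrallyClosed P] [CommRing T] [IsLocalRing T] [IsReduced T] [Algebra P T]
    [Module.Flat P T] [Algebra.EssFiniteType P T] [Algebra.FormallyUnramified P T]
    (hbij : Function.Bijective (TensorProduct.toIntegralClosure P T (FractionRing P))) :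
    IsDomain T ∧ IsIntegrallyClosed T := by
  classical
  let L := FractionRing P
  let TL := T ⊗[P] L
  have hloc : IsLocalization (Algebra.algebraMapSubmonoid T (nonZeroDivisors P)) TL :=
    inferInstance
  have hle : Algebra.algebraMapSubmonoid T (nonZeroDivisors P) ≤ nonZeroDivisors T := by
    rintro _ ⟨p, hp, rfl⟩
    rw [mem_nonZeroDivisors_iff_right]
    intro t ht
    have hreg : IsSMulRegular T p :=
      Module.Flat.isSMulRegular_of_isRegular (isRegular_iff_mem_nonZeroDivisors.mpr hp)
    apply hreg
    show p • t = p • 0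
    rw [smul_zero, Algebra.smul_def, mul_comm]
    exact ht
  have hTinj : Function.Injective (algebraMap T TL) := IsLocalization.injective TL hle
  have hred : IsReduced TL := by
    have e := IsLocalization.algEquiv (Algebra.algebraMapSubmonoid T (nonZeroDivisors P))
      (Localization (Algebra.algebraMapSubmonoid T (nonZeroDivisors P))) TL
    exact isReduced_of_injective e.symm.toRingHom e.symm.injective
  have hfin : Module.Finite L (L ⊗[P] T) := Algebra.FormallyUnramified.finite_of_free L (L ⊗[P] T)
  have hred' : IsReduced (L ⊗[P] T) :=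
    isReduced_of_injective (Algebra.TensorProduct.comm P L T).toRingHom
      (Algebra.TensorProduct.comm P L T).injective
  have hvn : ∀ x : TL, ∃ y, x = x ^ 2 * y := by
    intro x
    obtain ⟨y, hy⟩ := exists_eq_sq_mul_of_isIntegral (L := L)
      ((Algebra.TensorProduct.comm P T L) x) (Algebra.IsIntegral.isIntegral _)
    refine ⟨(Algebra.TensorProduct.comm P T L).symm y, ?_⟩
    apply (Algebra.TensorProduct.comm P T L).injective
    rw [hy]
    simp
  have hPint : ∀ l : L, IsIntegral P l → ∃ p : P, algebraMap P L p = l := fun l hl =>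
    IsIntegrallyClosed.isIntegral_iff.mp hl
  have hid : ∀ e : TL, IsIdempotentElem e → e = 0 ∨ e = 1 := by
    intro e he
    have hint : IsIntegral T e := by
      refine ⟨X ^ 2 - X, monic_X_pow_sub (by simp), ?_⟩
      simp [pow_two, he.eq]
    obtain ⟨t, rfl⟩ := exists_algebraMap_eq_of_isIntegral P T L hPint hbij e hint
    have ht : IsIdempotentElem t := by
      apply hTinj
      rw [map_mul]; exact he
    rcases eq_zero_or_one_of_isIdempotentElem t ht with h | h
    · left; rw [h, map_zero]
    · right; rw [h, map_one]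
  have hnt : Nontrivial TL := hTinj.nontrivial
  have hfield : IsField TL := isField_of_forall_exists_eq_sq_mul hvn hid
  have hdomTL : IsDomain TL := hfield.isDomain
  have hdom : IsDomain T := hTinj.isDomain (algebraMap T TL)
  refine ⟨hdom, ?_⟩
  have hfrac : IsFractionRing T TL := by
    refine IsLocalization.of_le (Algebra.algebraMapSubmonoid T (nonZeroDivisors P)) _ hle ?_
    intro r hr
    have : algebraMap T TL r ≠ 0 := by
      rw [Ne, map_eq_zero_iff _ hTinj]; exact nonZeroDivisors.ne_zero hr
    obtain ⟨b, hb⟩ := hfield.mul_inv_cancel this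
    exact IsUnit.of_mul_eq_one _ hb
  rw [isIntegrallyClosed_iff TL]
  intro x hx
  exact exists_algebraMap_eq_of_isIntegral P T L hPint hbij x hx


section Stage

variable {R : Type u} {K : Type u} [CommRing R] [Field K] [Algebra R K]

/-- The stages of the henselization of a normal domain are normal domains. -/
theorem EtPt.normal [IsDomain R] [IsIntegrallyClosed R] (i : EtPt R K) :
    IsDomain i.Loc ∧ IsIntegrallyClosed i.Loc := by
  haveI : IsReduced i.Ring := isReduced_of_smooth R i.Ring
  haveI : Module.Flat R i.Loc := Module.Flat.trans R i.Ring i.Loc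
  refine isDomain_and_isIntegrallyClosed_of_isLocalRing R i.Loc ?_
  exact TensorProduct.toIntegralClosure_bijective_of_tower (S := i.Ring) (T := i.Loc)
    TensorProduct.toIntegralClosure_bijective_of_smooth
    (TensorProduct.toIntegralClosure_bijective_of_isLocalization
      (ptIdeal i.pt).primeCompl)

end Stage

/-- In an integrally closed domain, a root `a` of `scaleRoots p b` (`p` monic) is divisible by
`b`. -/
theorem dvd_of_eval_scaleRoots_eq_zero {A : Type*} [CommRing A] [IsDomain A] [IsIntegrallyClosed A]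
    {p : A[X]} (hp : p.Monic) {a b : A} (hb : b ≠ 0) (h : eval a (scaleRoots p b) = 0) :
    b ∣ a := by
  let F := FractionRing A
  let f := algebraMap A F
  have hinj : Function.Injective f := IsFractionRing.injective A F
  have hfb : f b ≠ 0 := by rwa [Ne, map_eq_zero_iff _ hinj]
  have h1 := scaleRoots_eval₂_mul (p := p) f (f a / f b) b
  rw [mul_div_cancel₀ _ hfb, eval₂_at_apply, h, map_zero] at h1
  have h2 : eval₂ f (f a / f b) p = 0 := by
    rcases mul_eq_zero.mp h1.symm with h | h
    · exact absurd (eq_zero_of_pow_eq_zero h) hfb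
    · exact h
  have hint : IsIntegral A (f a / f b) := ⟨p, hp, h2⟩
  obtain ⟨d, hd⟩ := IsIntegrallyClosed.isIntegral_iff.mp hint
  refine ⟨d, hinj ?_⟩
  rw [map_mul, hd, mul_div_cancel₀ _ hfb]

namespace H

variable {R K : Type u} [CommRing R] [Field K] [Algebra R K]

theorem exists_of_monic (f : (H R K)[X]) (hf : f.Monic) (a b : H R K) :
    ∃ (k : EtPt R K) (q : k.Loc[X]) (a' b' : k.Loc),
      q.Monic ∧ q.map (of k) = f ∧ of k a' = a ∧ of k b' = b := by
  obtain ⟨i, p, hp⟩ := Ring.DirectLimit.Polynomial.exists_of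
    (f' := fun i j h => transR R K i j h) f
  have hlift : f ∈ Polynomial.lifts (of i) := (Polynomial.mem_lifts _).mpr ⟨p, hp⟩
  obtain ⟨q, hq, -, hqmon⟩ := Polynomial.lifts_and_degree_eq_and_monic hlift hf
  obtain ⟨j, a₀, b₀, ha₀, hb₀⟩ := exists_of₂ a b
  obtain ⟨k, hik, hjk⟩ := exists_ge_ge i j
  refine ⟨k, q.map (EtPt.trans hik).toRingHom, EtPt.trans hjk a₀, EtPt.trans hjk b₀,
    hqmon.map _, ?_, by rw [of_trans, ha₀], by rw [of_trans, hb₀]⟩
  rw [Polynomial.map_map, ← hq]
  congr 1
  ext x
  exact of_trans hik x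

theorem isDomain_of_stages (h : ∀ i : EtPt R K, IsDomain i.Loc) : IsDomain (H R K) := by
  haveI : NoZeroDivisors (H R K) := by
    refine ⟨fun {x y} hxy => ?_⟩
    obtain ⟨i, x', y', rfl, rfl⟩ := exists_of₂ x y
    rw [← map_mul] at hxy
    obtain ⟨j, hij, hj⟩ := of_eq_zero hxy
    rw [map_mul] at hj
    haveI := h j
    rcases mul_eq_zero.mp hj with h0 | h0
    · left; rw [← of_trans hij, h0, map_zero]
    · right; rw [← of_trans hij, h0, map_zero]
  exact NoZeroDivisors.to_isDomain _

theorem isIntegrallyClosed_of_stages (hd : ∀ i : EtPt R K, IsDomain i.Loc)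
    (hn : ∀ i : EtPt R K, IsIntegrallyClosed i.Loc) : IsIntegrallyClosed (H R K) := by
  haveI := isDomain_of_stages hd
  let F := FractionRing (H R K)
  have hinj : Function.Injective (algebraMap (H R K) F) := IsFractionRing.injective _ _
  rw [isIntegrallyClosed_iff F]
  intro x hx
  obtain ⟨p, hpm, hp⟩ := hx
  obtain ⟨a, b, hb, rfl⟩ := IsFractionRing.div_surjective (A := H R K) x
  have hb0 : b ≠ 0 := nonZeroDivisors.ne_zero hb
  have h1 : eval a (scaleRoots p b) = 0 := by
    apply hinj
    rw [map_zero, ← eval₂_at_apply]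
    exact scaleRoots_eval₂_eq_zero_of_eval₂_div_eq_zero hinj hp hb
  obtain ⟨k, q, a', b', hqm, rfl, rfl, rfl⟩ := exists_of_monic p hpm a b
  rw [← map_scaleRoots _ _ _ (by rw [hqm.leadingCoeff, map_one]; exact one_ne_zero),
    eval_map_apply] at h1
  obtain ⟨j, hkj, hj⟩ := of_eq_zero h1
  haveI := hd j
  haveI := hn j
  have h2 : eval (EtPt.trans hkj a') (scaleRoots (q.map (EtPt.trans hkj).toRingHom)
      (EtPt.trans hkj b')) = 0 := by
    have := map_scaleRoots q b' (EtPt.trans hkj).toRingHom
      (by rw [hqm.leadingCoeff, map_one]; exact one_ne_zero)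
    have h3 : eval ((EtPt.trans hkj).toRingHom a')
        ((Polynomial.map (EtPt.trans hkj).toRingHom q).scaleRoots ((EtPt.trans hkj).toRingHom b'))
        = 0 := by
      rw [← this, eval_map_apply]
      exact hj
    exact h3
  have hb' : EtPt.trans hkj b' ≠ 0 := by
    intro h0
    apply hb0
    rw [← of_trans hkj, h0, map_zero]
  obtain ⟨d, hd'⟩ := dvd_of_eval_scaleRoots_eq_zero (hqm.map _) hb' h2
  refine ⟨of j d, ?_⟩
  rw [eq_div_iff (by rwa [Ne, map_eq_zero_iff _ hinj]), ← map_mul, ← of_trans hkj a', hd',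
    map_mul (of j), of_trans, mul_comm]

end H


section Descent

/-- Normality descends along faithfully flat ring maps. -/
theorem normal_of_faithfullyFlat (R S : Type*) [CommRing R] [CommRing S] [Algebra R S]
    [Module.FaithfullyFlat R S] [IsDomain S] [IsIntegrallyClosed S] :
    IsDomain R ∧ IsIntegrallyClosed R := by
  have hRS : Function.Injective (algebraMap R S) := FaithfulSMul.algebraMap_injective R S
  have hdom : IsDomain R := hRS.isDomain (algebraMap R S)
  refine ⟨hdom, ?_⟩
  let F := FractionRing R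
  have hinj : Function.Injective (algebraMap R F) := IsFractionRing.injective _ _
  rw [isIntegrallyClosed_iff F]
  intro x hx
  obtain ⟨p, hpm, hp⟩ := hx
  obtain ⟨a, b, hb, rfl⟩ := IsFractionRing.div_surjective (A := R) x
  have hb0 : b ≠ 0 := nonZeroDivisors.ne_zero hb
  have h1 : eval a (scaleRoots p b) = 0 := by
    apply hinj
    rw [map_zero, ← eval₂_at_apply]
    exact scaleRoots_eval₂_eq_zero_of_eval₂_div_eq_zero hinj hp hb
  have h2 : eval (algebraMap R S a) (scaleRoots (p.map (algebraMap R S)) (algebraMap R S b)) = 0 := by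
    rw [← map_scaleRoots _ _ _ (by rw [hpm.leadingCoeff, map_one]; exact one_ne_zero),
      eval_map_apply, h1, map_zero]
  have hb' : algebraMap R S b ≠ 0 := by rwa [Ne, map_eq_zero_iff _ hRS]
  have h3 := dvd_of_eval_scaleRoots_eq_zero (hpm.map _) hb' h2
  have h4 : a ∈ (Ideal.span {b} : Ideal R) := by
    rw [← Ideal.comap_map_eq_self_of_faithfullyFlat (B := S) (Ideal.span {b}), Ideal.mem_comap,
      Ideal.map_span, Set.image_singleton, Ideal.mem_span_singleton]
    exact h3
  obtain ⟨d, hd⟩ := Ideal.mem_span_singleton.mp h4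
  refine ⟨d, ?_⟩
  rw [eq_div_iff (by rwa [Ne, map_eq_zero_iff _ hinj]), ← map_mul, hd, mul_comm]

end Descent

section Main

variable {R : Type u} [CommRing R] [IsLocalRing R]

theorem H.normal {K : Type u} [Field K] [Algebra R K] [IsDomain R] [IsIntegrallyClosed R] :
    IsDomain (H R K) ∧ IsIntegrallyClosed (H R K) :=
  ⟨H.isDomain_of_stages fun i => i.normal.1,
    H.isIntegrallyClosed_of_stages (fun i => i.normal.1) fun i => i.normal.2⟩

variable (S : Type u) [CommRing S] [IsLocalRing S] [Algebra R S] [IsLocalHom (algebraMap R S)]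

theorem normal_iff_of_isHenselization [Hensel.IsHenselization R S] :
    (IsDomain R ∧ IsIntegrallyClosed R) ↔ (IsDomain S ∧ IsIntegrallyClosed S) := by
  constructor
  · rintro ⟨h1, h2⟩
    obtain ⟨h3, h4⟩ := H.normal (R := R) (K := ResidueField R)
    have e := (algEquiv (R := R) S)
    exact ⟨e.symm.injective.isDomain e.symm.toRingHom,
      IsIntegrallyClosed.of_equiv e.toRingEquiv⟩
  · rintro ⟨h1, h2⟩
    haveI := faithfullyFlat_of_isHenselization (R := R) S
    exact normal_of_faithfullyFlat R S

theorem normal_iff_of_isStrictHenselization [Hensel.IsStrictHenselization R S] :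
    (IsDomain R ∧ IsIntegrallyClosed R) ↔ (IsDomain S ∧ IsIntegrallyClosed S) := by
  constructor
  · rintro ⟨h1, h2⟩
    obtain ⟨h3, h4⟩ := H.normal (R := R) (K := SepK R)
    have e := (algEquivStrict (R := R) S)
    exact ⟨e.symm.injective.isDomain e.symm.toRingHom,
      IsIntegrallyClosed.of_equiv e.toRingEquiv⟩
  · rintro ⟨h1, h2⟩
    haveI := faithfullyFlat_of_isStrictHenselization (R := R) S
    exact normal_of_faithfullyFlat R S

end Main

end Groth.Agent.H8.Hens
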