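import Mathlib
import Groth.Agent.Lib.Helper8.Hens.Strict
import Groth.Agent.H4.IndEtCrit
import Groth.Agent.H4.IndEtTrans

universe u
open IsLocalRing TensorProduct Polynomial

namespace Groth.Agent.H8.Hens

/-- Key unramifiedness lemma: let `L` be a local ring which is a localization of `R`, `D` an
unramified `R`-algebra (essentially of finite type) with an `R`-algebra map `m : D → L` killing
`d`. Then `d` is killed by some `w ∈ D` with `m w` a unit. -/
theorem exists_mul_eq_zero_of_unramified {R L D : Type*} [CommRing R] [CommRing L] [Algebra R L]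
    (M : Submonoid R) [IsLocalization M L] [IsLocalRing L] [CommRing D] [Algebra R D]
    [Algebra.FormallyUnramified R D] [Algebra.EssFiniteType R D] (m : D →ₐ[R] L) (d : D)
    (hd : m d = 0) : ∃ w : D, IsUnit (m w) ∧ w * d = 0 := by
  let 𝔮 : Ideal D := (maximalIdeal L).comap m.toRingHom
  haveI : 𝔮.IsPrime := Ideal.comap_isPrime _ _
  have hmem : ∀ x : D, x ∈ 𝔮 ↔ ¬ IsUnit (m x) := fun x => Iff.rfl
  let T := Localization.AtPrime 𝔮
  have hMunit : ∀ y : M, IsUnit (algebraMap R T y) := by
    intro y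
    rw [IsScalarTower.algebraMap_apply R D T]
    apply IsLocalization.map_units T (⟨algebraMap R D y, ?_⟩ : 𝔮.primeCompl)
    show algebraMap R D y ∉ 𝔮
    rw [hmem, not_not, m.commutes]
    exact IsLocalization.map_units L y
  let ι : L →ₐ[R] T := IsLocalization.liftAlgHom (M := M) (f := Algebra.ofId R T) hMunit
  let mT : T →ₐ[R] L := IsLocalization.liftAlgHom (M := 𝔮.primeCompl) (f := m)
    (fun x => by
      have := x.2
      rw [Ideal.mem_primeCompl_iff, hmem, not_not] at this
      exact this)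
  have hmT : ∀ x : D, mT (algebraMap D T x) = m x := fun x => by
    simp [mT]
  have hmTι : ∀ l : L, mT (ι l) = l := by
    intro l
    have : (mT.comp ι).toRingHom = RingHom.id L := by
      apply IsLocalization.ringHom_ext M
      ext r
      simp
    exact congrArg (fun f => f l) this
  obtain ⟨t, ht1, ht2⟩ :=
    Algebra.FormallyUnramified.iff_exists_tensorProduct.mp ‹Algebra.FormallyUnramified R D›
  let Ξ : D ⊗[R] D →ₐ[R] T :=
    Algebra.TensorProduct.productMap (IsScalarTower.toAlgHom R D T) (ι.comp m)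
  have hΞ : ∀ x y : D, Ξ (x ⊗ₜ y) = algebraMap D T x * ι (m y) := fun x y => by
    simp [Ξ]
  have hmTΞ : mT (Ξ t) = 1 := by
    have : mT.comp Ξ = m.comp (Algebra.TensorProduct.lmul' R) := by
      apply Algebra.TensorProduct.ext'
      intro x y
      show mT (Ξ (x ⊗ₜ y)) = m (Algebra.TensorProduct.lmul' R (x ⊗ₜ y))
      rw [hΞ, map_mul, hmT, hmTι, Algebra.TensorProduct.lmul'_apply_tmul, map_mul]
    have h1 := congrArg (fun f => f t) this
    simp only [AlgHom.comp_apply] at h1
    rw [h1, ht2, map_one]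
  have hunit : IsUnit (Ξ t) := by
    obtain ⟨x, s, hxs⟩ := IsLocalization.exists_mk'_eq 𝔮.primeCompl (Ξ t)
    rw [← hxs]
    by_contra hnu
    have h1 : IsLocalization.mk' T x s ∈ maximalIdeal T := (mem_maximalIdeal _).mpr hnu
    rw [IsLocalization.AtPrime.mk'_mem_maximal_iff T 𝔮 x s, hmem] at h1
    apply h1
    have h2 : mT (IsLocalization.mk' T x s) * m s = m x := by
      rw [← hmT x, ← hmT (s : D), ← map_mul, IsLocalization.mk'_spec]
    rw [hxs, hmTΞ, one_mul] at h2
    rw [← h2]
    have := s.2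
    rw [Ideal.mem_primeCompl_iff, hmem, not_not] at this
    exact this
  have h3 := congrArg Ξ (ht1 d)
  simp only [map_mul, map_sub, hΞ, map_one, one_mul, mul_one, hd, map_zero, zero_sub] at h3
  have h4 : algebraMap D T d = 0 := by
    have := hunit.mul_left_eq_zero.mp h3
    rwa [neg_eq_zero] at this
  obtain ⟨w, hw⟩ := (IsLocalization.map_eq_zero_iff 𝔮.primeCompl T d).mp h4
  refine ⟨w, ?_, hw⟩
  have := w.2
  rw [Ideal.mem_primeCompl_iff, hmem, not_not] at this
  exact this


/-- Killing an element of an étale algebra in an étale neighbourhood, given that it dies in a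
local ring of another étale algebra. -/
theorem exists_etale_kill {R E' C L Hh : Type u} [CommRing R] [CommRing E'] [CommRing C]
    [CommRing L] [CommRing Hh] [Algebra R E'] [Algebra R C] [Algebra.Etale R E']
    [Algebra.Etale R C] [Algebra E' L] [Algebra R L] [IsScalarTower R E' L] (M : Submonoid E')
    [IsLocalization M L] [IsLocalRing L] [Algebra R Hh] (o : L →ₐ[R] Hh) (φ : C →ₐ[R] L) (c : C)
    (hφc : φ c = 0) :
    ∃ (C' : Type u) (_ : CommRing C') (_ : Algebra R C') (_ : Algebra.Etale R C')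
      (h : C →ₐ[R] C') (g' : C' →ₐ[R] Hh), g'.comp h = o.comp φ ∧ h c = 0 := by
  let m : E' ⊗[R] C →ₐ[E'] L :=
    Algebra.TensorProduct.lift (Algebra.ofId E' L) φ (fun _ _ => Commute.all _ _)
  have hm : ∀ (e : E') (x : C), m (e ⊗ₜ x) = algebraMap E' L e * φ x := fun e x => by
    show Algebra.TensorProduct.lift _ _ _ _ = _
    rw [Algebra.TensorProduct.lift_tmul]
    rfl
  have hmd : m (1 ⊗ₜ c) = 0 := by rw [hm, hφc, mul_zero]
  obtain ⟨w, hwu, hw⟩ := exists_mul_eq_zero_of_unramified M m ((1 : E') ⊗ₜ[R] c) hmd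
  haveI : Algebra.Etale R (E' ⊗[R] C) := Algebra.Etale.comp R E' _
  haveI : Algebra.Etale R (Localization.Away w) := Algebra.Etale.comp R (E' ⊗[R] C) _
  let h : C →ₐ[R] Localization.Away w :=
    (IsScalarTower.toAlgHom R (E' ⊗[R] C) (Localization.Away w)).comp
      Algebra.TensorProduct.includeRight
  let g₀ : E' ⊗[R] C →ₐ[R] Hh := o.comp (m.restrictScalars R)
  let g' : Localization.Away w →ₐ[R] Hh :=
    IsLocalization.liftAlgHom (M := Submonoid.powers w) (f := g₀) (by
      rintro ⟨_, n, rfl⟩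
      rw [map_pow]
      exact (hwu.map o).pow n)
  refine ⟨Localization.Away w, inferInstance, inferInstance, inferInstance, h, g', ?_, ?_⟩
  · ext x
    show g' (algebraMap (E' ⊗[R] C) (Localization.Away w) (1 ⊗ₜ x)) = o (φ x)
    have : g' (algebraMap (E' ⊗[R] C) (Localization.Away w) (1 ⊗ₜ x)) = g₀ (1 ⊗ₜ x) := by
      simp [g']
    rw [this]
    show o (m (1 ⊗ₜ x)) = o (φ x)
    rw [hm, map_one, one_mul]
  · show algebraMap (E' ⊗[R] C) (Localization.Away w) (1 ⊗ₜ c) = 0
    rw [IsLocalization.map_eq_zero_iff (Submonoid.powers w) (Localization.Away w)]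
    exact ⟨⟨w, 1, pow_one w⟩, hw⟩

variable {R : Type u} {K : Type u} [CommRing R] [Field K] [Algebra R K]

open Groth.Agent.H4.IndEtCrit in
/-- The `K`-henselization `H R K` satisfies the elementwise criterion for ind-étaleness. -/
theorem crit_H : Crit R (H R K) := by
  constructor
  · intro z
    obtain ⟨i, x, rfl⟩ := H.exists_of z
    obtain ⟨t, ht, hb⟩ := exists_away_descent i.pt {x}
    obtain ⟨b, hb⟩ := hb x (Finset.mem_singleton_self x)
    haveI : Algebra.Etale R (Localization.Away t) := Algebra.Etale.comp R i.Ring _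
    refine ⟨Localization.Away t, inferInstance, inferInstance, inferInstance,
      (H.ofₐ i).comp (awayToLoc i.pt t ht), b, ?_⟩
    rw [AlgHom.comp_apply, hb, H.ofₐ_apply]
  · intro C _ _ _ g c hc
    let σ : C →ₐ[R] K := (H.ptₐ R K).comp g
    let j := EtPt.of C σ
    have hg : g = (H.ofAlg C σ).comp (IsScalarTower.toAlgHom R C (Loc σ)) := by
      apply algHom_ext_of_sub_mem_maximalIdeal
      intro x
      rw [H.mem_maximalIdeal_iff, map_sub, sub_eq_zero, AlgHom.comp_apply, H.pt_ofAlg]
      simp [σ]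
    have h0 : H.of j (EtPt.toOf C σ (algebraMap C (Loc σ) c)) = 0 := by
      have h1 : g c = (H.ofAlg C σ) (algebraMap C (Loc σ) c) := by
        conv_lhs => rw [hg]
        rfl
      rw [hc] at h1
      exact h1.symm
    obtain ⟨j', hjj', hj'⟩ := H.of_eq_zero h0
    let φ : C →ₐ[R] j'.Loc :=
      ((EtPt.trans hjj').comp (EtPt.toOf C σ)).comp (IsScalarTower.toAlgHom R C (Loc σ))
    have hφc : φ c = 0 := hj'
    have hφg : ∀ x, H.of j' (φ x) = g x := by
      intro x
      show H.of j' (EtPt.trans hjj' (EtPt.toOf C σ (algebraMap C (Loc σ) x))) = g x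
      rw [H.of_trans, hg]
      rfl
    obtain ⟨C', _, _, _, h, g', hg', hh⟩ :=
      exists_etale_kill (E' := j'.Ring) (L := j'.Loc) (ptIdeal j'.pt).primeCompl (H.ofₐ j') φ c hφc
    refine ⟨C', inferInstance, inferInstance, inferInstance, h, g', ?_, hh⟩
    rw [hg']
    ext x
    exact hφg x

open Groth.Agent.H4.IndEtCrit in
theorem isIndEtale_H : EtPBC.IsIndEtale R (H R K) := isIndEtale_of_crit crit_H

end Groth.Agent.H8.Hens
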