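/-
Helper8 library: the henselization of `R_p` as a colimit of étale `R`-algebras.
-/
import Mathlib
import Groth.Agent.Lib.Helper8.Hens.IndEtale
import Groth.Agent.S0734

universe u
open IsLocalRing TensorProduct Polynomial

namespace Groth.Agent.H8.Hens


open Groth.Agent.H4.IndEtCrit in
/-- A localization at a prime is ind-étale (elementwise criterion). -/
theorem crit_localization_atPrime (R : Type u) [CommRing R] (p : Ideal R) [p.IsPrime] :
    Crit R (Localization.AtPrime p) := by
  constructor
  · intro z
    obtain ⟨r, u, rfl⟩ := IsLocalization.exists_mk'_eq p.primeCompl z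
    let g : Localization.Away (u : R) →ₐ[R] Localization.AtPrime p :=
      IsLocalization.liftAlgHom (M := Submonoid.powers (u : R))
        (f := Algebra.ofId R (Localization.AtPrime p)) (by
          rintro ⟨_, n, rfl⟩
          rw [map_pow]
          exact (IsLocalization.map_units _ u).pow n)
    refine ⟨Localization.Away (u : R), inferInstance, inferInstance, inferInstance, g,
      IsLocalization.mk' _ r (⟨u, 1, pow_one _⟩ : Submonoid.powers (u : R)), ?_⟩
    rw [IsLocalization.eq_mk'_iff_mul_eq]
    have h1 : g (algebraMap R _ (u : R)) = algebraMap R _ (u : R) := g.commutes _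
    rw [← h1, ← map_mul, IsLocalization.mk'_spec, g.commutes]
  · intro C _ _ _ g c hc
    obtain ⟨C', _, _, _, h, g', hg', hh⟩ :=
      exists_etale_kill (E' := R) (L := Localization.AtPrime p) p.primeCompl
        (AlgHom.id R _) g c hc
    exact ⟨C', inferInstance, inferInstance, inferInstance, h, g', by rw [hg']; rfl, hh⟩

open Groth.Agent.H4.IndEtCrit in
/-- The henselization of `R_p` is ind-étale over `R`. -/
theorem crit_henselization_atPrime (R : Type u) [CommRing R] (p : Ideal R) [p.IsPrime]
    (Rh : Type u) [CommRing Rh] [IsLocalRing Rh]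
    [Algebra (Localization.AtPrime p) Rh] [IsLocalHom (algebraMap (Localization.AtPrime p) Rh)]
    [Hensel.IsHenselization (Localization.AtPrime p) Rh] [Algebra R Rh]
    [IsScalarTower R (Localization.AtPrime p) Rh] : Crit R Rh := by
  have h1 : Crit (Localization.AtPrime p) (Henselization (Localization.AtPrime p)) := crit_H
  have h2 := Groth.Agent.H4.IndEtTrans.Crit.of_algEquiv h1
    (algEquiv (R := Localization.AtPrime p) Rh)
  exact crit_of_isIndEtale (Groth.Agent.S0734.result R (Localization.AtPrime p) Rh
    (isIndEtale_of_crit (crit_localization_atPrime R p)) (isIndEtale_of_crit h2))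



section RF

variable {R : Type*} [CommRing R] (p : Ideal R) [p.IsPrime]
  {T : Type*} [CommRing T] [IsLocalRing T] [Algebra (Localization.AtPrime p) T]
  [IsLocalHom (algebraMap (Localization.AtPrime p) T)] [Algebra R T]
  [IsScalarTower R (Localization.AtPrime p) T]

omit [IsLocalRing T] [IsLocalHom (algebraMap (Localization.AtPrime p) T)] in
theorem isUnit_algebraMap_of_notMem {u : R} (hu : u ∉ p) : IsUnit (algebraMap R T u) := by
  rw [IsScalarTower.algebraMap_apply R (Localization.AtPrime p) T]
  exact (IsLocalization.map_units (Localization.AtPrime p) (⟨u, hu⟩ : p.primeCompl)).map _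

theorem comap_maximalIdeal_eq : (maximalIdeal T).comap (algebraMap R T) = p := by
  have h1 : (maximalIdeal T).comap (algebraMap (Localization.AtPrime p) T) =
      maximalIdeal (Localization.AtPrime p) := by
    ext a
    rw [Ideal.mem_comap, mem_maximalIdeal, mem_maximalIdeal, mem_nonunits_iff, mem_nonunits_iff,
      isUnit_map_iff]
  rw [IsScalarTower.algebraMap_eq R (Localization.AtPrime p) T, ← Ideal.comap_comap, h1]
  exact IsLocalization.AtPrime.under_maximalIdeal (Localization.AtPrime p) p

variable {C : Type*} [CommRing C] [Algebra R C] (g : C →ₐ[R] T)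

theorem comap_comap_eq : p = ((maximalIdeal T).comap g.toRingHom).comap (algebraMap R C) := by
  rw [Ideal.comap_comap]
  have : g.toRingHom.comp (algebraMap R C) = algebraMap R T := g.comp_algebraMap
  rw [this, comap_maximalIdeal_eq p]

/-- If the residue field of `T` is that of `R_p`, then every prime pulled back from the maximal
ideal of `T` along an `R`-algebra map has trivial residue field extension over `p`. -/
theorem residueField_map_bijective_of_comap
    (hres : ∀ z : T, ∃ a : Localization.AtPrime p, z - algebraMap _ T a ∈ maximalIdeal T)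
    (q : Ideal C) [q.IsPrime] (hq' : q = (maximalIdeal T).comap g.toRingHom)
    (hq : p = q.comap (algebraMap R C)) :
    Function.Bijective (Ideal.ResidueField.map p q (algebraMap R C) hq) := by
  refine ⟨RingHom.injective _, ?_⟩
  have hmemq : ∀ c : C, c ∈ q ↔ g c ∈ maximalIdeal T := fun c => by
    conv_lhs => rw [hq']
    rfl
  -- the extension of `g` to the local ring at `q`
  have hunit : ∀ s : q.primeCompl, IsUnit (g s) := by
    intro s
    have h1 : (s : C) ∉ q := s.2
    by_contra hnu
    apply h1
    rw [hmemq]
    exact (mem_maximalIdeal _).mpr hnu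
  let gq : Localization.AtPrime q →+* T := IsLocalization.lift (M := q.primeCompl) (g := g.toRingHom) hunit
  have hgq : ∀ c : C, gq (algebraMap C _ c) = g c := fun c => IsLocalization.lift_eq _ _
  have hgqA : ∀ a : Localization.AtPrime p,
      gq (Localization.localRingHom p q (algebraMap R C) hq a) = algebraMap _ T a := by
    intro a
    have : (gq.comp (Localization.localRingHom p q (algebraMap R C) hq)) =
        algebraMap (Localization.AtPrime p) T := by
      apply IsLocalization.ringHom_ext p.primeCompl
      ext r
      simp only [RingHom.comp_apply, Localization.localRingHom_to_map, hgq, AlgHom.commutes]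
      exact IsScalarTower.algebraMap_apply R (Localization.AtPrime p) T r
    exact congrArg (fun f => f a) this
  have hgqmem : ∀ l : Localization.AtPrime q, gq l ∈ maximalIdeal T →
      l ∈ maximalIdeal (Localization.AtPrime q) := by
    intro l hl
    obtain ⟨c, s, rfl⟩ := IsLocalization.exists_mk'_eq q.primeCompl l
    rw [IsLocalization.AtPrime.mk'_mem_maximal_iff (Localization.AtPrime q) q c s, hmemq]
    have h1 : gq (IsLocalization.mk' _ c s) * g s = g c := by
      rw [← hgq c, ← hgq (s : C), ← map_mul, IsLocalization.mk'_spec]
    rw [← h1]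
    exact Ideal.mul_mem_right _ _ hl
  intro y
  obtain ⟨l, rfl⟩ := IsLocalRing.residue_surjective y
  obtain ⟨a, ha⟩ := hres (gq l)
  refine ⟨IsLocalRing.residue _ a, ?_⟩
  rw [IsLocalRing.ResidueField.map_residue]
  symm
  rw [← sub_eq_zero, ← map_sub, IsLocalRing.residue_eq_zero_iff]
  apply hgqmem
  rw [map_sub, hgqA]
  exact ha

end RF



section A

variable {R : Type u} [CommRing R] (p : Ideal R) [p.IsPrime]
  {T : Type u} [CommRing T] [HenselianLocalRing T] [Algebra (Localization.AtPrime p) T]
  [IsLocalHom (algebraMap (Localization.AtPrime p) T)] [Algebra R T]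
  [IsScalarTower R (Localization.AtPrime p) T]
  (S : Type u) [CommRing S] [Algebra R S] [Algebra.Etale R S] (q : Ideal S) [q.IsPrime]
  (hq : p = q.comap (algebraMap R S))
  (hbij : Function.Bijective (Ideal.ResidueField.map p q (algebraMap R S) hq))

include hbij in
theorem exists_algHom_comap_eq :
    ∃ f : S →ₐ[R] T, (maximalIdeal T).comap f.toRingHom = q := by
  let σ : S →ₐ[R] q.ResidueField := IsScalarTower.toAlgHom R S q.ResidueField
  have hq' : p = q.comap (Algebra.ofId R S).toRingHom := hq
  let e₁ : p.ResidueField ≃ₐ[R] q.ResidueField :=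
    AlgEquiv.ofBijective (Ideal.ResidueField.mapₐ p q (Algebra.ofId R S) hq') hbij
  let τ₂ : p.ResidueField →ₐ[R] ResidueField T :=
    { IsLocalRing.ResidueField.map (algebraMap (Localization.AtPrime p) T) with
      commutes' := fun r => by
        show IsLocalRing.ResidueField.map (algebraMap (Localization.AtPrime p) T)
          (IsLocalRing.residue _ (algebraMap R (Localization.AtPrime p) r)) = _
        rw [IsLocalRing.ResidueField.map_residue, ← IsScalarTower.algebraMap_apply]
        rfl }
  let τ : q.ResidueField →ₐ[R] ResidueField T := τ₂.comp (e₁.symm : q.ResidueField →ₐ[R] _)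
  obtain ⟨g, hg⟩ := exists_algHom_of_henselian σ τ
  refine ⟨g, ?_⟩
  ext x
  rw [Ideal.mem_comap]
  show g x ∈ maximalIdeal T ↔ _
  rw [← IsLocalRing.residue_eq_zero_iff, hg, map_eq_zero_iff τ τ.toRingHom.injective]
  exact Ideal.algebraMap_residueField_eq_zero

include hbij in
theorem algHom_unique_of_comap_eq (f f' : S →ₐ[R] T)
    (hf : (maximalIdeal T).comap f.toRingHom = q) (hf' : (maximalIdeal T).comap f'.toRingHom = q) :
    f = f' := by
  apply algHom_ext_of_sub_mem_maximalIdeal
  intro x
  -- find `r, u` with `u ∉ p` and `x * u - r ∈ q`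
  obtain ⟨y, hy⟩ := hbij.2 (algebraMap S q.ResidueField x)
  obtain ⟨a, rfl⟩ := IsLocalRing.residue_surjective y
  obtain ⟨r, u, rfl⟩ := IsLocalization.exists_mk'_eq p.primeCompl a
  have h1 : x * algebraMap R S u - algebraMap R S r ∈ q := by
    rw [← Ideal.algebraMap_residueField_eq_zero, map_sub, map_mul, ← hy, sub_eq_zero]
    have e1 : algebraMap S q.ResidueField (algebraMap R S (u : R)) =
        Ideal.ResidueField.map p q (algebraMap R S) hq (algebraMap R p.ResidueField (u : R)) :=
      (Ideal.ResidueField.map_algebraMap p q (algebraMap R S) hq (u : R)).symm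
    have e2 : algebraMap S q.ResidueField (algebraMap R S r) =
        Ideal.ResidueField.map p q (algebraMap R S) hq (algebraMap R p.ResidueField r) :=
      (Ideal.ResidueField.map_algebraMap p q (algebraMap R S) hq r).symm
    rw [e1, e2, ← map_mul]
    congr 1
    rw [IsScalarTower.algebraMap_apply R (Localization.AtPrime p) p.ResidueField,
      IsScalarTower.algebraMap_apply R (Localization.AtPrime p) p.ResidueField]
    show IsLocalRing.residue _ _ * IsLocalRing.residue _ _ = IsLocalRing.residue _ _
    rw [← map_mul, IsLocalization.mk'_spec]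
  have h2 : f (x * algebraMap R S u - algebraMap R S r) ∈ maximalIdeal T := by
    have : x * algebraMap R S u - algebraMap R S r ∈ (maximalIdeal T).comap f.toRingHom := by
      rw [hf]; exact h1
    exact this
  have h3 : f' (x * algebraMap R S u - algebraMap R S r) ∈ maximalIdeal T := by
    have : x * algebraMap R S u - algebraMap R S r ∈ (maximalIdeal T).comap f'.toRingHom := by
      rw [hf']; exact h1
    exact this
  have h4 : (f x - f' x) * algebraMap R T u ∈ maximalIdeal T := by
    have := Ideal.sub_mem _ h2 h3
    simp only [map_sub, map_mul, AlgHom.commutes] at this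
    have e : (f x - f' x) * algebraMap R T u =
        f x * algebraMap R T u - algebraMap R T r - (f' x * algebraMap R T u - algebraMap R T r) := by
      ring
    rw [e]; exact this
  have hu : IsUnit (algebraMap R T (u : R)) := by
    rw [IsScalarTower.algebraMap_apply R (Localization.AtPrime p) T]
    exact (IsLocalization.map_units (Localization.AtPrime p) u).map _
  rcases (Ideal.IsPrime.mem_or_mem inferInstance h4) with h5 | h5
  · exact h5
  · exact absurd hu ((mem_maximalIdeal _).mp h5)

end A

end Groth.Agent.H8.Hens
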