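import Mathlib

open IsLocalRing TensorProduct

namespace Groth.Agent.H8.Hens.PI

section

variable (K C B : Type*) [CommRing K] [IsLocalRing K]
  [CommRing C] [IsLocalRing C] [Algebra K C] [IsLocalHom (algebraMap K C)]
  [CommRing B] [IsLocalRing B] [Algebra K B] [IsLocalHom (algebraMap K B)]

theorem residue_smul_eq (a : K) (m : ResidueField C) : residue K a • m = a • m := by
  rw [← ResidueField.algebraMap_eq, algebraMap_smul]

instance compat :
    TensorProduct.CompatibleSMul K (ResidueField K) (ResidueField C) (ResidueField B) := by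
  constructor
  intro r m n
  obtain ⟨a, rfl⟩ := residue_surjective r
  rw [residue_smul_eq, residue_smul_eq, TensorProduct.smul_tmul]

theorem exists_pow_eq_tmul_one [IsPurelyInseparable (ResidueField K) (ResidueField B)]
    (x : ResidueField C ⊗[K] ResidueField B) :
    ∃ n > 0, ∃ c : ResidueField C, x ^ n = c ⊗ₜ[K] (1 : ResidueField B) := by
  obtain ⟨y, rfl⟩ := Algebra.TensorProduct.mapOfCompatibleSMul_surjective K (ResidueField K)
    (ResidueField C) (ResidueField C) (ResidueField B) x
  obtain ⟨n, hn, c, hc⟩ := IsPurelyInseparable.exists_pow_mem_range_tensorProduct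
    (k := ResidueField K) (K := ResidueField B) (R := ResidueField C) y
  refine ⟨n, hn, c, ?_⟩
  rw [← map_pow, ← hc, Algebra.TensorProduct.algebraMap_apply]
  simp

/-- The reduction map `C ⊗_K B → κ(C) ⊗_K κ(B)`. -/
noncomputable abbrev piMap : C ⊗[K] B →ₐ[K] ResidueField C ⊗[K] ResidueField B :=
  Algebra.TensorProduct.map (IsScalarTower.toAlgHom K C (ResidueField C))
    (IsScalarTower.toAlgHom K B (ResidueField B))

omit [IsLocalRing K] in
theorem ker_toAlgHom_residue (R : Type*) [CommRing R] [IsLocalRing R] [Algebra K R] :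
    RingHom.ker (IsScalarTower.toAlgHom K R (ResidueField R)) = maximalIdeal R := by
  ext x
  rw [RingHom.mem_ker, IsScalarTower.coe_toAlgHom', ResidueField.algebraMap_eq,
    residue_eq_zero_iff]

omit [IsLocalHom (algebraMap K C)] [IsLocalHom (algebraMap K B)] in
theorem ker_piMap : RingHom.ker (piMap K C B) =
    (maximalIdeal C).map (Algebra.TensorProduct.includeLeft : C →ₐ[K] C ⊗[K] B) ⊔
      (maximalIdeal B).map (Algebra.TensorProduct.includeRight : B →ₐ[K] C ⊗[K] B) := by
  have hf : Function.Surjective (IsScalarTower.toAlgHom K C (ResidueField C)) := by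
    intro x; obtain ⟨c, rfl⟩ := residue_surjective x; exact ⟨c, rfl⟩
  have hg : Function.Surjective (IsScalarTower.toAlgHom K B (ResidueField B)) := by
    intro x; obtain ⟨c, rfl⟩ := residue_surjective x; exact ⟨c, rfl⟩
  rw [piMap, Algebra.TensorProduct.map_ker _ _ hf hg, ker_toAlgHom_residue, ker_toAlgHom_residue]

variable [Algebra.IsIntegral K B]

theorem ker_piMap_le (n : Ideal (C ⊗[K] B)) [hn : n.IsMaximal] : RingHom.ker (piMap K C B) ≤ n := by
  rw [ker_piMap]
  have h1 : n.comap (algebraMap C (C ⊗[K] B)) = maximalIdeal C := by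
    haveI : (n.comap (algebraMap C (C ⊗[K] B))).IsMaximal :=
      Ideal.isMaximal_comap_of_isIntegral_of_isMaximal n
    exact IsLocalRing.eq_maximalIdeal inferInstance
  have h2 : n.comap (Algebra.TensorProduct.includeRight : B →ₐ[K] C ⊗[K] B) = maximalIdeal B := by
    haveI : (n.comap (Algebra.TensorProduct.includeRight : B →ₐ[K] C ⊗[K] B)).IsPrime :=
      Ideal.comap_isPrime _ _
    have h3 : (n.comap (Algebra.TensorProduct.includeRight : B →ₐ[K] C ⊗[K] B)).comap
        (algebraMap K B) = maximalIdeal K := by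
      have h4 : (n.comap (Algebra.TensorProduct.includeRight : B →ₐ[K] C ⊗[K] B)).comap
          (algebraMap K B) = (n.comap (algebraMap C (C ⊗[K] B))).comap (algebraMap K C) := by
        ext a
        simp only [Ideal.mem_comap, Algebra.TensorProduct.includeRight_apply,
          Algebra.TensorProduct.algebraMap_apply, Algebra.algebraMap_self, RingHom.id_apply]
        rw [Algebra.TensorProduct.tmul_one_eq_one_tmul]
      rw [h4, h1]
      exact ((local_hom_TFAE (algebraMap K C)).out 0 4).mp ‹_›
    haveI : (n.comap (Algebra.TensorProduct.includeRight : B →ₐ[K] C ⊗[K] B)).IsMaximal := by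
      apply Ideal.isMaximal_of_isIntegral_of_isMaximal_comap (R := K)
      rw [h3]; infer_instance
    exact IsLocalRing.eq_maximalIdeal inferInstance
  refine sup_le ?_ ?_
  · rw [Ideal.map_le_iff_le_comap, ← h1]
    exact le_rfl
  · rw [Ideal.map_le_iff_le_comap, ← h2]

/-- Tensor product of a local ring with an integral local algebra with purely inseparable residue
field extension is local (if nontrivial). -/
theorem isLocalRing_tensor [IsPurelyInseparable (ResidueField K) (ResidueField B)]
    [Nontrivial (C ⊗[K] B)] : IsLocalRing (C ⊗[K] B) := by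
  have key : ∀ n₁ n₂ : Ideal (C ⊗[K] B), n₁.IsMaximal → n₂.IsMaximal → n₁ ≤ n₂ := by
    intro n₁ n₂ h₁ h₂ x hx
    obtain ⟨n, hn, c, hc⟩ := exists_pow_eq_tmul_one K C B (piMap K C B x)
    obtain ⟨c₀, rfl⟩ := residue_surjective c
    have hc' : piMap K C B (x ^ n - c₀ ⊗ₜ[K] (1 : B)) = 0 := by
      rw [map_sub, map_pow, hc]
      simp [piMap, ResidueField.algebraMap_eq]
    have h3 : x ^ n - c₀ ⊗ₜ[K] (1 : B) ∈ n₁ := ker_piMap_le K C B n₁ hc'
    have h4 : c₀ ⊗ₜ[K] (1 : B) ∈ n₁ := by
      have := n₁.sub_mem (n₁.pow_mem_of_mem hx n hn) h3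
      rwa [sub_sub_cancel] at this
    have h5 : c₀ ∈ maximalIdeal C := by
      by_contra hnu
      have hu : IsUnit c₀ := by
        by_contra h; exact hnu ((mem_maximalIdeal _).mpr h)
      have : IsUnit (c₀ ⊗ₜ[K] (1 : B)) :=
        hu.map (Algebra.TensorProduct.includeLeft : C →ₐ[K] C ⊗[K] B)
      exact h₁.ne_top (Ideal.eq_top_of_isUnit_mem _ h4 this)
    have h6 : c₀ ⊗ₜ[K] (1 : B) ∈ n₂ := by
      apply ker_piMap_le K C B n₂
      rw [RingHom.mem_ker]
      simp only [piMap, Algebra.TensorProduct.map_tmul, IsScalarTower.coe_toAlgHom',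
        ResidueField.algebraMap_eq, map_one]
      rw [(residue_eq_zero_iff c₀).mpr h5, TensorProduct.zero_tmul]
    have h7 : x ^ n ∈ n₂ := by
      have := n₂.add_mem (ker_piMap_le K C B n₂ hc') h6
      rwa [sub_add_cancel] at this
    exact h₂.isPrime.mem_of_pow_mem n h7
  obtain ⟨m, hm⟩ := Ideal.exists_maximal (C ⊗[K] B)
  exact IsLocalRing.of_unique_max_ideal ⟨m, hm, fun n hn => 
    (hn.eq_of_le hm.ne_top (key n m hn hm))⟩

/-- Flipped version of `isLocalRing_tensor`. -/
theorem isLocalRing_tensor' [IsPurelyInseparable (ResidueField K) (ResidueField B)]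
    [Nontrivial (B ⊗[K] C)] : IsLocalRing (B ⊗[K] C) := by
  haveI : Nontrivial (C ⊗[K] B) := (Algebra.TensorProduct.comm K C B).toEquiv.nontrivial
  haveI := isLocalRing_tensor K C B
  exact (Algebra.TensorProduct.comm K C B).toRingEquiv.isLocalRing

end

end Groth.Agent.H8.Hens.PI
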