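import Mathlib
import Groth.Agent.Lib.Helper8.Hens.PITensor

open IsLocalRing TensorProduct

namespace Groth.Agent.H8.Hens.PI

section

variable (K C B : Type*) [CommRing K] [IsLocalRing K]
  [CommRing C] [IsLocalRing C] [Algebra K C] [IsLocalHom (algebraMap K C)]
  [CommRing B] [IsLocalRing B] [Algebra K B] [IsLocalHom (algebraMap K B)]

theorem nontrivial_residue_tensor : Nontrivial (ResidueField C ⊗[K] ResidueField B) := by
  let e := Algebra.TensorProduct.equivOfCompatibleSMul K (ResidueField K) (ResidueField C)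
    (ResidueField C) (ResidueField B)
  have hinj : Function.Injective
      (algebraMap (ResidueField C) (ResidueField C ⊗[ResidueField K] ResidueField B)) :=
    Algebra.TensorProduct.includeLeft_injective (S := ResidueField C)
      (algebraMap (ResidueField K) (ResidueField B)).injective
  haveI : Nontrivial (ResidueField C ⊗[ResidueField K] ResidueField B) := hinj.nontrivial
  exact e.symm.toEquiv.nontrivial

theorem nontrivial_tensor : Nontrivial (C ⊗[K] B) := by
  haveI := nontrivial_residue_tensor K C B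
  exact RingHom.domain_nontrivial (piMap K C B).toRingHom

theorem exists_pow_expChar_eq_tmul_one [IsPurelyInseparable (ResidueField K) (ResidueField B)]
    (q : ℕ) [ExpChar (ResidueField K) q] (x : ResidueField C ⊗[K] ResidueField B) :
    ∃ n : ℕ, ∃ c : ResidueField C, x ^ q ^ n = c ⊗ₜ[K] (1 : ResidueField B) := by
  obtain ⟨y, rfl⟩ := Algebra.TensorProduct.mapOfCompatibleSMul_surjective K (ResidueField K)
    (ResidueField C) (ResidueField C) (ResidueField B) x
  obtain ⟨n, c, hc⟩ := IsPurelyInseparable.exists_pow_pow_mem_range_tensorProduct_of_expChar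
    (k := ResidueField K) (K := ResidueField B) (R := ResidueField C) q y
  refine ⟨n, c, ?_⟩
  rw [← map_pow, ← hc, Algebra.TensorProduct.algebraMap_apply]
  simp

variable [Algebra.IsIntegral K B]

theorem exists_pow_sub_mem_maximalIdeal [IsPurelyInseparable (ResidueField K) (ResidueField B)]
    [IsLocalRing (C ⊗[K] B)] (q : ℕ) [ExpChar (ResidueField K) q] (x : C ⊗[K] B) :
    ∃ (n : ℕ) (c : C), x ^ q ^ n - c ⊗ₜ[K] (1 : B) ∈ maximalIdeal (C ⊗[K] B) := by
  obtain ⟨n, c, hc⟩ := exists_pow_expChar_eq_tmul_one K C B q (piMap K C B x)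
  obtain ⟨c₀, rfl⟩ := residue_surjective c
  refine ⟨n, c₀, ?_⟩
  apply ker_piMap_le K C B (maximalIdeal (C ⊗[K] B))
  rw [RingHom.mem_ker, map_sub, map_pow, hc]
  simp [piMap, ResidueField.algebraMap_eq]

theorem isLocalHom_includeLeft [IsLocalRing (C ⊗[K] B)] :
    IsLocalHom (algebraMap C (C ⊗[K] B)) := by
  apply ((local_hom_TFAE (algebraMap C (C ⊗[K] B))).out 0 3).mpr
  intro c hc
  rw [Ideal.mem_comap]
  apply ker_piMap_le K C B (maximalIdeal (C ⊗[K] B))
  rw [RingHom.mem_ker, Algebra.TensorProduct.algebraMap_apply, Algebra.algebraMap_self,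
    RingHom.id_apply]
  simp only [piMap, Algebra.TensorProduct.map_tmul, IsScalarTower.coe_toAlgHom',
    ResidueField.algebraMap_eq, map_one]
  rw [(residue_eq_zero_iff c).mpr hc, TensorProduct.zero_tmul]

end

end Groth.Agent.H8.Hens.PI
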