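import Mathlib

/-!
# Pointed étale algebras and their local rings (helper8, henselization build)
-/

open IsLocalRing TensorProduct Polynomial

namespace Groth.Agent.H8.Hens

universe u

/-- Two algebra maps from an unramified algebra into a local ring which agree modulo the maximal
ideal are equal. -/
theorem algHom_ext_of_sub_mem_maximalIdeal {R E B : Type*} [CommRing R] [CommRing E] [Algebra R E]
    [CommRing B] [Algebra R B] [IsLocalRing B] [Algebra.EssFiniteType R E]
    [Algebra.FormallyUnramified R E] (u v : E →ₐ[R] B)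
    (h : ∀ x, u x - v x ∈ maximalIdeal B) : u = v := by
  obtain ⟨t, ht1, ht2⟩ :=
    Algebra.FormallyUnramified.iff_exists_tensorProduct.mp ‹Algebra.FormallyUnramified R E›
  let w : E ⊗[R] E →ₐ[R] B := Algebra.TensorProduct.productMap u v
  have hw : ∀ z : E ⊗[R] E, w z - u (Algebra.TensorProduct.lmul' R z) ∈ maximalIdeal B := by
    intro z
    induction z with
    | zero => simp
    | tmul x y =>
      have : w (x ⊗ₜ y) - u (Algebra.TensorProduct.lmul' R (x ⊗ₜ y)) = - (u x * (u y - v y)) := by
        simp [w]; ring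
      rw [this]; exact neg_mem (Ideal.mul_mem_left _ _ (h y))
    | add x y hx hy =>
      have : w (x + y) - u (Algebra.TensorProduct.lmul' R (x + y)) =
          (w x - u (Algebra.TensorProduct.lmul' R x)) +
            (w y - u (Algebra.TensorProduct.lmul' R y)) := by
        simp only [map_add]; ring
      rw [this]; exact add_mem hx hy
  have hβ : IsUnit (w t) := by
    have h1 := hw t
    rw [ht2, map_one] at h1
    by_contra hnu
    have h2 : w t ∈ maximalIdeal B := (mem_maximalIdeal _).mpr hnu
    have h3 : (1 : B) ∈ maximalIdeal B := by simpa using sub_mem h2 h1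
    exact (Ideal.ne_top_iff_one _).mp (maximalIdeal.isMaximal B).ne_top h3
  ext s
  have h1 : (v s - u s) * w t = 0 := by
    have := congrArg w (ht1 s)
    simpa [w, map_mul, map_sub] using this
  have h2 := hβ.mul_left_eq_zero.mp h1
  exact (sub_eq_zero.mp h2).symm

section Loc

variable {R K : Type*} [CommRing R] [Field K] [Algebra R K]
variable {E : Type*} [CommRing E] [Algebra R E] (σ : E →ₐ[R] K)

/-- The prime ideal of a `K`-point. -/
abbrev ptIdeal : Ideal E := RingHom.ker σ

instance : (ptIdeal σ).IsPrime := RingHom.ker_isPrime _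

/-- The local ring of a `K`-point. -/
abbrev Loc : Type _ := Localization.AtPrime (ptIdeal σ)

/-- The induced `K`-point of the local ring. -/
noncomputable def Loc.pt : Loc σ →ₐ[R] K :=
  IsLocalization.liftAlgHom (M := (ptIdeal σ).primeCompl) (f := σ)
    (fun y => isUnit_iff_ne_zero.mpr (fun h => y.2 (by exact h)))

@[simp]
theorem Loc.pt_algebraMap (x : E) : Loc.pt σ (algebraMap E (Loc σ) x) = σ x := by
  simp [Loc.pt]

theorem Loc.ker_pt : RingHom.ker (Loc.pt σ) = maximalIdeal (Loc σ) := by
  apply le_antisymm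
  · apply IsLocalRing.le_maximalIdeal
    rw [Ne, Ideal.eq_top_iff_one, RingHom.mem_ker, map_one]
    exact one_ne_zero
  · intro x hx
    obtain ⟨a, s, rfl⟩ := IsLocalization.exists_mk'_eq (ptIdeal σ).primeCompl x
    rw [IsLocalization.AtPrime.mk'_mem_maximal_iff (Loc σ) (ptIdeal σ) a s] at hx
    rw [RingHom.mem_ker]
    have h1 : Loc.pt σ (IsLocalization.mk' (Loc σ) a s) * σ s = σ a := by
      rw [← Loc.pt_algebraMap σ a, ← Loc.pt_algebraMap σ (s : E), ← map_mul,
        IsLocalization.mk'_spec]
    have h2 : σ a = 0 := hx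
    rw [h2] at h1
    exact (mul_eq_zero.mp h1).resolve_right (fun h => s.2 h)

theorem Loc.pt_eq_zero_iff (x : Loc σ) : Loc.pt σ x = 0 ↔ x ∈ maximalIdeal (Loc σ) := by
  rw [← Loc.ker_pt, RingHom.mem_ker]

theorem Loc.isUnit_iff (x : Loc σ) : IsUnit x ↔ Loc.pt σ x ≠ 0 := by
  rw [Ne, Loc.pt_eq_zero_iff, mem_maximalIdeal, mem_nonunits_iff, not_not]

/-- Uniqueness of maps out of the local ring of a point of an unramified algebra into a local
ring, with prescribed reduction modulo the maximal ideal. -/
theorem Loc.algHom_ext_of_residue [Algebra.EssFiniteType R E] [Algebra.FormallyUnramified R E]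
    {B : Type*} [CommRing B] [IsLocalRing B] [Algebra R B]
    (u v : Loc σ →ₐ[R] B) (h : ∀ x, residue B (u x) = residue B (v x)) : u = v := by
  apply IsLocalization.algHom_ext (ptIdeal σ).primeCompl
  apply algHom_ext_of_sub_mem_maximalIdeal
  intro x
  rw [← residue_eq_zero_iff, map_sub, sub_eq_zero]
  exact h _

/-- Uniqueness of pointed maps out of the local ring of a point of an unramified algebra. -/
theorem Loc.algHom_ext [Algebra.EssFiniteType R E] [Algebra.FormallyUnramified R E]
    {B : Type*} [CommRing B] [IsLocalRing B] [Algebra R B] (τ : B →ₐ[R] K)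
    (u v : Loc σ →ₐ[R] B) (h : τ.comp u = τ.comp v) : u = v := by
  apply IsLocalization.algHom_ext (ptIdeal σ).primeCompl
  apply algHom_ext_of_sub_mem_maximalIdeal
  intro x
  have hker : RingHom.ker τ ≤ maximalIdeal B := by
    apply IsLocalRing.le_maximalIdeal
    rw [Ne, Ideal.eq_top_iff_one, RingHom.mem_ker, map_one]
    exact one_ne_zero
  apply hker
  rw [RingHom.mem_ker, map_sub, sub_eq_zero]
  exact congrArg (fun w => w (algebraMap E (Loc σ) x)) h

variable {E' : Type*} [CommRing E'] [Algebra R E'] (σ' : E' →ₐ[R] K)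

/-- Functoriality of the local ring of a point. -/
noncomputable def Loc.map (g : E →ₐ[R] E') (h : σ'.comp g = σ) : Loc σ →ₐ[R] Loc σ' :=
  IsLocalization.liftAlgHom (M := (ptIdeal σ).primeCompl)
    (f := (IsScalarTower.toAlgHom R E' (Loc σ')).comp g)
    (fun y => by
      rw [Loc.isUnit_iff]
      simp only [AlgHom.coe_comp, Function.comp_apply, IsScalarTower.coe_toAlgHom',
        Loc.pt_algebraMap]
      have : σ' (g y) = σ y := congrArg (fun w => w (y : E)) h
      rw [this]
      exact fun h => y.2 h)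

@[simp]
theorem Loc.map_algebraMap (g : E →ₐ[R] E') (h : σ'.comp g = σ) (x : E) :
    Loc.map σ σ' g h (algebraMap E (Loc σ) x) = algebraMap E' (Loc σ') (g x) := by
  simp [Loc.map]

theorem Loc.pt_comp_map (g : E →ₐ[R] E') (h : σ'.comp g = σ) :
    (Loc.pt σ').comp (Loc.map σ σ' g h) = Loc.pt σ := by
  apply IsLocalization.algHom_ext (ptIdeal σ).primeCompl
  ext x
  simp only [AlgHom.coe_comp, Function.comp_apply, Algebra.algHom, IsScalarTower.coe_toAlgHom',
    Loc.map_algebraMap, Loc.pt_algebraMap]
  exact congrArg (fun w => w x) h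

theorem Loc.pt_map (g : E →ₐ[R] E') (h : σ'.comp g = σ) (x : Loc σ) :
    Loc.pt σ' (Loc.map σ σ' g h x) = Loc.pt σ x :=
  congrArg (fun w => w x) (Loc.pt_comp_map σ σ' g h)

/-- The canonical map from a principal localization to the local ring. -/
noncomputable def awayToLoc (t : E) (ht : σ t ≠ 0) : Localization.Away t →ₐ[R] Loc σ :=
  IsLocalization.liftAlgHom (M := .powers t) (f := IsScalarTower.toAlgHom R E (Loc σ)) (by
    rintro ⟨y, n, rfl⟩
    rw [map_pow]
    refine IsUnit.pow n ?_
    rw [Loc.isUnit_iff]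
    simpa using ht)

@[simp]
theorem awayToLoc_algebraMap (t : E) (ht : σ t ≠ 0) (x : E) :
    awayToLoc σ t ht (algebraMap E _ x) = algebraMap E (Loc σ) x := by
  simp [awayToLoc]

/-- The induced point of a principal localization. -/
noncomputable def awayPt (t : E) (ht : σ t ≠ 0) : Localization.Away t →ₐ[R] K :=
  IsLocalization.liftAlgHom (M := .powers t) (f := σ) (by
    rintro ⟨y, n, rfl⟩
    rw [map_pow]
    exact (isUnit_iff_ne_zero.mpr ht).pow n)

@[simp]
theorem awayPt_algebraMap (t : E) (ht : σ t ≠ 0) (x : E) :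
    awayPt σ t ht (algebraMap E _ x) = σ x := by
  simp [awayPt]

theorem pt_comp_awayToLoc (t : E) (ht : σ t ≠ 0) :
    (Loc.pt σ).comp (awayToLoc σ t ht) = awayPt σ t ht := by
  apply IsLocalization.algHom_ext (.powers t)
  ext x
  simp [Algebra.algHom]

theorem pt_awayToLoc (t : E) (ht : σ t ≠ 0) (x : Localization.Away t) :
    Loc.pt σ (awayToLoc σ t ht x) = awayPt σ t ht x :=
  congrArg (fun w => w x) (pt_comp_awayToLoc σ t ht)

theorem exists_away_descent (S : Finset (Loc σ)) :
    ∃ (t : E) (ht : σ t ≠ 0), ∀ a ∈ S, ∃ b : Localization.Away t, awayToLoc σ t ht b = a := by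
  obtain ⟨b, hb⟩ := IsLocalization.exist_integer_multiples_of_finset (ptIdeal σ).primeCompl S
  have ht : σ (b : E) ≠ 0 := fun h => b.2 h
  refine ⟨b, ht, fun a ha => ?_⟩
  obtain ⟨x, hx⟩ := hb a ha
  let tb : Submonoid.powers (b : E) := ⟨(b : E), ⟨1, pow_one _⟩⟩
  refine ⟨IsLocalization.mk' (Localization.Away (b : E)) x tb, ?_⟩
  have hu : IsUnit (algebraMap E (Loc σ) (b : E)) := by
    rw [Loc.isUnit_iff]; simpa using ht
  apply hu.mul_left_injective
  show awayToLoc σ b ht (IsLocalization.mk' _ x tb) * algebraMap E (Loc σ) (b : E) = _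
  rw [← awayToLoc_algebraMap σ b ht (b : E), ← map_mul]
  have : IsLocalization.mk' (Localization.Away (b : E)) x tb *
      algebraMap E _ (b : E) = algebraMap E _ x := IsLocalization.mk'_spec _ _ _
  rw [this, awayToLoc_algebraMap, hx, Algebra.smul_def, mul_comm, awayToLoc_algebraMap]

theorem exists_monic_descent (f : (Loc σ)[X]) (hf : f.Monic) (a₀ : Loc σ) :
    ∃ (t : E) (ht : σ t ≠ 0) (f_t : (Localization.Away t)[X]) (a_t : Localization.Away t),
      f_t.Monic ∧ f_t.map (awayToLoc σ t ht).toRingHom = f ∧ awayToLoc σ t ht a_t = a₀ := by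
  classical
  obtain ⟨t, ht, h⟩ := exists_away_descent σ (insert a₀ (f.support.image f.coeff))
  have hlifts : f ∈ Polynomial.lifts (awayToLoc σ t ht).toRingHom := by
    rw [Polynomial.lifts_iff_coeff_lifts]
    intro n
    by_cases hn : n ∈ f.support
    · obtain ⟨b, hb⟩ := h (f.coeff n)
        (Finset.mem_insert_of_mem (Finset.mem_image_of_mem _ hn))
      exact ⟨b, hb⟩
    · rw [Polynomial.notMem_support_iff.mp hn]
      exact ⟨0, map_zero _⟩
  obtain ⟨f_t, hft, -, hmon⟩ := Polynomial.lifts_and_degree_eq_and_monic hlifts hf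
  obtain ⟨a_t, hat⟩ := h a₀ (Finset.mem_insert_self _ _)
  exact ⟨t, ht, f_t, a_t, hmon, hft, hat⟩

end Loc

section Lift

variable {R K : Type*} [CommRing R] [Field K] [Algebra R K]
variable {E : Type*} [CommRing E] [Algebra R E]

/-- A `K`-point of an étale `R`-algebra lifts to any henselian local `R`-algebra `T` whose residue
field receives `K`. -/
theorem exists_algHom_of_henselian [Algebra.Etale R E] (σ : E →ₐ[R] K)
    {T : Type u} [CommRing T] [HenselianLocalRing T] [Algebra R T]
    (τ : K →ₐ[R] ResidueField T) :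
    ∃ g : E →ₐ[R] T, ∀ x, residue T (g x) = τ (σ x) := by
  have : (RingHom.ker σ).IsPrime := RingHom.ker_isPrime _
  obtain ⟨f₀, hf₀, hstd⟩ := Algebra.IsEtaleAt.exists_isStandardEtale (R := R) (RingHom.ker σ)
  let P : StandardEtalePresentation R (Localization.Away f₀) :=
    hstd.nonempty_standardEtalePresentation.some
  have hf₀' : σ f₀ ≠ 0 := hf₀
  let σ₀ : Localization.Away f₀ →ₐ[R] K := awayPt σ f₀ hf₀'
  have hσ₀ : ∀ x, σ₀ (algebraMap E _ x) = σ x := fun x => by simp [σ₀]
  have hθ' : P.HasMap (τ (σ₀ P.x)) := (P.hasMap.map σ₀).map τ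
  have hmonic : (P.f.map (algebraMap R T)).Monic := P.monic_f.map _
  have h1 : aeval (τ (σ₀ P.x)) (P.f.map (algebraMap R T)) = 0 := by
    rw [aeval_map_algebraMap]; exact hθ'.1
  have h2 : aeval (τ (σ₀ P.x)) (derivative (P.f.map (algebraMap R T))) ≠ 0 := by
    rw [derivative_map, aeval_map_algebraMap]
    exact (StandardEtalePair.HasMap.isUnit_derivative_f P.P hθ').ne_zero
  have hT : ∀ f : T[X], f.Monic → ∀ a₀ : ResidueField T, aeval a₀ f = 0 →
      aeval a₀ (derivative f) ≠ 0 → ∃ a : T, f.IsRoot a ∧ residue T a = a₀ :=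
    ((HenselianLocalRing.TFAE T).out 0 1).mp ‹HenselianLocalRing T›
  obtain ⟨a, ha, hres⟩ := hT (P.f.map (algebraMap R T)) hmonic (τ (σ₀ P.x)) h1 h2
  have hmap : P.HasMap a := by
    refine ⟨?_, ?_⟩
    · rw [IsRoot, eval_map_algebraMap] at ha; exact ha
    · have h3 : residue T (aeval a P.g) = aeval (τ (σ₀ P.x)) P.g := by
        rw [← hres]
        have := Polynomial.aeval_algHom_apply (IsScalarTower.toAlgHom R T (ResidueField T)) a P.g
        exact this.symm
      by_contra hnu
      have h4 : residue T (aeval a P.g) = 0 := (residue_eq_zero_iff _).mpr hnu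
      rw [h3] at h4
      exact hθ'.2.ne_zero h4
  let g₀ : Localization.Away f₀ →ₐ[R] T := (P.lift a hmap).comp P.equivRing.toAlgHom
  refine ⟨g₀.comp (IsScalarTower.toAlgHom R E _), fun x => ?_⟩
  have key : (IsScalarTower.toAlgHom R T (ResidueField T)).comp g₀ = τ.comp σ₀ := by
    have e1 : ((IsScalarTower.toAlgHom R T (ResidueField T)).comp g₀).comp
        P.equivRing.symm.toAlgHom = (τ.comp σ₀).comp P.equivRing.symm.toAlgHom := by
      apply StandardEtalePair.hom_ext
      simp [g₀, hres]
    refine AlgHom.ext fun y => ?_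
    have := congrArg (fun w => w (P.equivRing y)) e1
    simpa using this
  have := congrArg (fun w => w (algebraMap E _ x)) key
  simpa [hσ₀] using this

/-- Version for the local ring of the point. -/
theorem Loc.exists_algHom_of_henselian [Algebra.Etale R E] (σ : E →ₐ[R] K)
    {T : Type u} [CommRing T] [HenselianLocalRing T] [Algebra R T]
    (τ : K →ₐ[R] ResidueField T) :
    ∃ g : Loc σ →ₐ[R] T, ∀ x, residue T (g x) = τ (Loc.pt σ x) := by
  obtain ⟨g, hg⟩ := Hens.exists_algHom_of_henselian σ τ
  have hunit : ∀ y : (ptIdeal σ).primeCompl, IsUnit (g y) := by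
    intro y
    by_contra hnu
    have h1 : residue T (g y) = 0 := (residue_eq_zero_iff _).mpr hnu
    rw [hg] at h1
    have h2 : σ (y : E) = 0 := by
      by_contra h3
      exact (isUnit_iff_ne_zero.mpr h3).map τ |>.ne_zero h1
    exact y.2 h2
  let g' : Loc σ →ₐ[R] T := IsLocalization.liftAlgHom (M := (ptIdeal σ).primeCompl) (f := g) hunit
  refine ⟨g', fun x => ?_⟩
  have key : (IsScalarTower.toAlgHom R T (ResidueField T)).comp g' = τ.comp (Loc.pt σ) := by
    apply IsLocalization.algHom_ext (ptIdeal σ).primeCompl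
    ext y
    simp [Algebra.algHom, g', hg]
  exact congrArg (fun w => w x) key

end Lift

section Root

variable {R K : Type*} [CommRing R] [Field K] [Algebra R K]

/-- Adjoining a simple root at a `K`-point: the standard étale extension. -/
theorem exists_root_of_point {E : Type u} [CommRing E] [Algebra R E]
    [Algebra.Etale R E] (σ : E →ₐ[R] K) (f : E[X]) (hf : f.Monic)
    (a₀ : E) (h1 : σ (f.eval a₀) = 0) (h2 : σ (f.derivative.eval a₀) ≠ 0) :
    ∃ (E' : Type u) (_ : CommRing E') (_ : Algebra R E') (_ : Algebra.Etale R E')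
      (σ' : E' →ₐ[R] K) (g : E →ₐ[R] E') (_ : σ'.comp g = σ) (a : E'),
      (f.map g.toRingHom).IsRoot a ∧ σ' a = σ a₀ := by
  let P : StandardEtalePair E := ⟨f, hf, derivative f, ⟨1, 0, 1, by simp⟩⟩
  let _ : Algebra R P.Ring := ((algebraMap E P.Ring).comp (algebraMap R E)).toAlgebra
  have : IsScalarTower R E P.Ring := IsScalarTower.of_algebraMap_eq' rfl
  have : Algebra.Etale R P.Ring := Algebra.Etale.comp R E P.Ring
  let _ : Algebra E K := σ.toRingHom.toAlgebra
  have : IsScalarTower R E K := IsScalarTower.of_algebraMap_eq' σ.comp_algebraMap.symm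
  have hσ : ∀ x : E, algebraMap E K x = σ x := fun _ => rfl
  have haev : ∀ p : E[X], aeval (σ a₀) p = σ (p.eval a₀) := by
    intro p
    rw [← hσ a₀, aeval_algebraMap_apply, coe_aeval_eq_eval, hσ]
  have hmap : P.HasMap (σ a₀) := by
    refine ⟨?_, ?_⟩
    · show aeval (σ a₀) f = 0
      rw [haev, h1]
    · show IsUnit (aeval (σ a₀) (derivative f))
      rw [haev]
      exact isUnit_iff_ne_zero.mpr h2
  let σ'E : P.Ring →ₐ[E] K := P.lift (σ a₀) hmap
  let σ' : P.Ring →ₐ[R] K := σ'E.restrictScalars R
  let g : E →ₐ[R] P.Ring := IsScalarTower.toAlgHom R E P.Ring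
  have hg : σ'.comp g = σ := by
    ext x
    show σ'E (algebraMap E P.Ring x) = σ x
    rw [σ'E.commutes, hσ]
  refine ⟨P.Ring, inferInstance, inferInstance, inferInstance, σ', g, hg, P.X, ?_, ?_⟩
  · show eval P.X (f.map (algebraMap E P.Ring)) = 0
    rw [eval_map_algebraMap]
    exact P.hasMap_X.1
  · show σ'E P.X = σ a₀
    exact P.lift_X _ hmap

instance etale_away {E : Type*} [CommRing E] [Algebra R E] [Algebra.Etale R E] (t : E) :
    Algebra.Etale R (Localization.Away t) :=
  Algebra.Etale.comp R E _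

/-- The henselian step: a monic polynomial over the local ring of a point of an étale algebra
with a simple root in `K` acquires a root in the local ring of a point of a bigger étale algebra. -/
theorem Loc.exists_root_extension {E : Type u} [CommRing E] [Algebra R E] [Algebra.Etale R E]
    (σ : E →ₐ[R] K) (f : (Loc σ)[X]) (hf : f.Monic) (a₀ : Loc σ)
    (h1 : f.eval a₀ ∈ maximalIdeal (Loc σ)) (h2 : IsUnit (f.derivative.eval a₀)) :
    ∃ (E' : Type u) (_ : CommRing E') (_ : Algebra R E') (_ : Algebra.Etale R E')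
      (σ' : E' →ₐ[R] K) (g : E →ₐ[R] E') (hg : σ'.comp g = σ) (a : Loc σ'),
      (f.map (Loc.map σ σ' g hg).toRingHom).IsRoot a ∧ Loc.pt σ' a = Loc.pt σ a₀ := by
  obtain ⟨t, ht, f_t, a_t, hmon, hft, hat⟩ := exists_monic_descent σ f hf a₀
  have e1 : awayPt σ t ht (f_t.eval a_t) = 0 := by
    rw [← pt_awayToLoc, Loc.pt_eq_zero_iff]
    have : awayToLoc σ t ht (f_t.eval a_t) = f.eval a₀ := by
      rw [← hft, ← hat, eval_map]
      exact (Polynomial.eval₂_at_apply (awayToLoc σ t ht).toRingHom a_t).symm ▸ rfl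
    rw [this]; exact h1
  have e2 : awayPt σ t ht (f_t.derivative.eval a_t) ≠ 0 := by
    rw [← pt_awayToLoc, ← Loc.isUnit_iff]
    have : awayToLoc σ t ht (f_t.derivative.eval a_t) = f.derivative.eval a₀ := by
      rw [← hft, ← hat, derivative_map, eval_map]
      exact (Polynomial.eval₂_at_apply (awayToLoc σ t ht).toRingHom a_t).symm ▸ rfl
    rw [this]; exact h2
  obtain ⟨E', _, _, _, σ', g', hg', a', hroot, hpt⟩ :=
    exists_root_of_point (awayPt σ t ht) f_t hmon a_t e1 e2
  let g : E →ₐ[R] E' := g'.comp (IsScalarTower.toAlgHom R E (Localization.Away t))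
  have hg : σ'.comp g = σ := by
    ext x
    have := congrArg (fun w => w (algebraMap E (Localization.Away t) x)) hg'
    simpa [g] using this
  refine ⟨E', inferInstance, inferInstance, inferInstance, σ', g, hg,
    algebraMap E' (Loc σ') a', ?_, ?_⟩
  · have hcomp : (Loc.map σ σ' g hg).toRingHom.comp (awayToLoc σ t ht).toRingHom =
        (algebraMap E' (Loc σ')).comp g'.toRingHom := by
      apply IsLocalization.ringHom_ext (.powers t)
      ext x
      simp [g]
    rw [← hft, Polynomial.map_map, hcomp, ← Polynomial.map_map, IsRoot, eval_map_algebraMap,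
      aeval_algebraMap_apply, coe_aeval_eq_eval, hroot, map_zero]
  · rw [Loc.pt_algebraMap, hpt, ← hat, pt_awayToLoc]

end Root

end Groth.Agent.H8.Hens
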