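import Mathlib
import Groth.Agent.Lib.Helper8.Hens.Pointed

/-!
# Finite algebras over henselian local rings (helper8)

* `exists_section_of_henselian`: an étale neighbourhood with trivial residue field extension of a
  henselian local ring has a section.
* `exists_completeOrthogonalIdempotents_of_finite`: a finite algebra over a henselian local ring is
  a finite product of local rings.
-/

universe u
open IsLocalRing TensorProduct Polynomial

namespace Groth.Agent.H8.Hens

/-- An étale algebra over a henselian local ring with a prime over the maximal ideal with trivial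
residue field extension has a section through that prime. -/
theorem exists_section_of_henselian {R : Type u} [CommRing R] [HenselianLocalRing R] (R' : Type u)
    [CommRing R'] [Algebra R R'] [Algebra.Etale R R'] (P : Ideal R') [P.IsPrime]
    [P.LiesOver (maximalIdeal R)]
    (hb : Function.Bijective (Ideal.ResidueField.mapₐ (maximalIdeal R) P (Algebra.ofId R R')
      (P.over_def _))) :
    ∃ s : R' →ₐ[R] R, (maximalIdeal R).comap s.toRingHom = P := by
  let σ : R' →ₐ[R] P.ResidueField := IsScalarTower.toAlgHom R R' P.ResidueField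
  let e₁ : (maximalIdeal R).ResidueField ≃ₐ[R] P.ResidueField := AlgEquiv.ofBijective _ hb
  let e₂ : ResidueField R ≃ₐ[R] (maximalIdeal R).ResidueField :=
    AlgEquiv.ofBijective (IsScalarTower.toAlgHom R (R ⧸ maximalIdeal R) _)
      (Ideal.bijective_algebraMap_quotient_residueField (maximalIdeal R))
  let τ : P.ResidueField →ₐ[R] ResidueField R := (e₁.symm.trans e₂.symm : _ ≃ₐ[R] _)
  obtain ⟨g, hg⟩ := exists_algHom_of_henselian σ τ
  refine ⟨g, ?_⟩
  ext x
  rw [Ideal.mem_comap]
  show g x ∈ maximalIdeal R ↔ _
  rw [← residue_eq_zero_iff, hg]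
  have : τ (σ x) = 0 ↔ σ x = 0 := map_eq_zero_iff _ (e₁.symm.trans e₂.symm).injective
  rw [this]
  exact Ideal.algebraMap_residueField_eq_zero

/-- Maximal ideals of an integral algebra over a local ring lie over the maximal ideal. -/
theorem comap_eq_maximalIdeal_of_isMaximal {R S : Type*} [CommRing R] [IsLocalRing R] [CommRing S]
    [Algebra R S] [Algebra.IsIntegral R S] (M : Ideal S) [hM : M.IsMaximal] :
    M.comap (algebraMap R S) = maximalIdeal R :=
  IsLocalRing.eq_maximalIdeal (Ideal.isMaximal_comap_of_isIntegral_of_isMaximal (R := R) M)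

/-- A finite algebra over a henselian local ring decomposes into local rings. -/
theorem exists_completeOrthogonalIdempotents_of_finite (R : Type u) [CommRing R]
    [HenselianLocalRing R] (S : Type u) [CommRing S] [Algebra R S] [Module.Finite R S] :
    ∃ (n : ℕ) (ε : Fin n → S), CompleteOrthogonalIdempotents ε ∧
      ∀ i, IsLocalRing (S ⧸ Ideal.span {1 - ε i}) := by
  classical
  obtain ⟨R', _, _, _, P, _, _, n, e, he, P', hP'prime, hP'lo, hbij, hP', H⟩ :=
    Algebra.exists_etale_completeOrthogonalIdempotents_forall_liesOver_eq (R := R) (S := S)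
      (maximalIdeal R)
  obtain ⟨s, hs⟩ := exists_section_of_henselian R' P hbij
  -- the projection `R' ⊗ S → S`
  let π : R' ⊗[R] S →ₐ[R] S :=
    Algebra.TensorProduct.lift ((Algebra.ofId R S).comp s) (AlgHom.id R S) (fun _ _ => Commute.all _ _)
  have hπr : ∀ x : S, π (1 ⊗ₜ x) = x := fun x => by simp [π]
  have hπl : ∀ r : R', π (r ⊗ₜ 1) = algebraMap R S (s r) := fun r => by simp [π, Algebra.ofId_apply]
  have hπsurj : Function.Surjective π := fun x => ⟨1 ⊗ₜ x, hπr x⟩
  -- primes of `S` over `m` pull back to primes over `P`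
  have hQ : ∀ (Q : Ideal S) [Q.IsPrime], Q.comap (algebraMap R S) = maximalIdeal R →
      (Q.comap π.toRingHom).IsPrime ∧ (Q.comap π.toRingHom).LiesOver P := by
    intro Q _ hQm
    refine ⟨inferInstance, ⟨?_⟩⟩
    ext r
    rw [Ideal.under_def, Ideal.mem_comap, Ideal.mem_comap, ← hs, Ideal.mem_comap, ← hQm,
      Ideal.mem_comap]
    show _ ↔ π (algebraMap R' (R' ⊗[R] S) r) ∈ Q
    rw [Algebra.TensorProduct.algebraMap_apply, Algebra.algebraMap_self, RingHom.id_apply, hπl]
    rfl
  let ε : Fin (n + 1) → S := fun i => π (e i)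
  have hε : CompleteOrthogonalIdempotents ε := he.map π.toRingHom
  -- the last idempotent dies
  have hlast : ε (Fin.last n) = 0 := by
    have hjac : ε (Fin.last n) ∈ Ideal.jacobson (⊥ : Ideal S) := by
      rw [Ideal.jacobson, Ideal.mem_sInf]
      rintro M ⟨-, hM⟩
      haveI := hM
      obtain ⟨h1, h2⟩ := hQ M (comap_eq_maximalIdeal_of_isMaximal M)
      exact (H _ h1 h2).1
    have hu : IsUnit (1 - ε (Fin.last n)) := by
      have := (Ideal.mem_jacobson_bot.mp hjac) (-1)
      rwa [mul_neg, mul_one, neg_add_eq_sub] at this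
    have h0 : ε (Fin.last n) * (1 - ε (Fin.last n)) = 0 := by
      rw [mul_sub, mul_one, (hε.idem _).eq, sub_self]
    exact hu.mul_left_eq_zero.mp h0
  refine ⟨n, fun i => ε i.castSucc, ?_, ?_⟩
  · refine ⟨⟨fun i => hε.idem _, fun i j hij => hε.ortho ?_⟩, ?_⟩
    · exact fun h => hij (Fin.castSucc_injective _ h)
    · have := hε.complete
      rw [Fin.sum_univ_castSucc, hlast, add_zero] at this
      exact this
  · intro i
    -- a prime of `S` over `m` avoiding `ε i`
    let Qi : Ideal S := (P' i).comap (Algebra.TensorProduct.includeRight : S →ₐ[R] R' ⊗[R] S).toRingHom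
    haveI : Qi.IsPrime := Ideal.comap_isPrime _ _
    have hQim : Qi.comap (algebraMap R S) = maximalIdeal R := by
      have h1 := (hP'lo i).over
      have h2 : P.under R = maximalIdeal R := (Ideal.over_def P (maximalIdeal R)).symm
      rw [← h2, h1]
      ext r
      simp only [Ideal.mem_comap, Ideal.under_def, Qi]
      have : (Algebra.TensorProduct.includeRight : S →ₐ[R] R' ⊗[R] S).toRingHom (algebraMap R S r) =
          algebraMap R' (R' ⊗[R] S) (algebraMap R R' r) := by
        rw [← IsScalarTower.algebraMap_apply R R' (R' ⊗[R] S)]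
        exact (Algebra.TensorProduct.includeRight : S →ₐ[R] R' ⊗[R] S).commutes r
      rw [this]
    obtain ⟨h1, h2⟩ := hQ Qi hQim
    have hcomap : (Qi.comap π.toRingHom) = P' i := by
      haveI := h1; haveI := h2; haveI := hP'prime i; haveI := hP'lo i
      apply Ideal.eq_of_comap_eq_comap_of_bijective_residueFieldMap hbij
      ext x
      simp only [Ideal.mem_comap, Qi]
      show (Algebra.TensorProduct.includeRight : S →ₐ[R] R' ⊗[R] S)
        (π ((Algebra.TensorProduct.includeRight : S →ₐ[R] R' ⊗[R] S) x)) ∈ P' i ↔ _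
      rw [Algebra.TensorProduct.includeRight_apply, Algebra.TensorProduct.includeRight_apply, hπr]
      rfl
    have hεQ : ε i.castSucc ∉ Qi := by
      intro h
      apply hP' i
      rw [← hcomap]
      exact h
    have hsub : Ideal.span {1 - ε i.castSucc} ≤ Qi := by
      rw [Ideal.span_singleton_le_iff_mem]
      have h0 : ε i.castSucc * (1 - ε i.castSucc) = 0 := by
        rw [mul_sub, mul_one, (hε.idem _).eq, sub_self]
      exact (Ideal.IsPrime.mem_or_mem_of_mul_eq_zero inferInstance h0).resolve_left hεQ
    haveI : Nontrivial (S ⧸ Ideal.span {1 - ε i.castSucc}) :=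
      Ideal.Quotient.nontrivial_iff.mpr (fun h => (Ideal.IsPrime.ne_top inferInstance) (top_le_iff.mp (h ▸ hsub)))
    apply IsLocalRing.of_unique_max_ideal
    obtain ⟨M, hM⟩ := Ideal.exists_maximal (S ⧸ Ideal.span {1 - ε i.castSucc})
    refine ⟨M, hM, fun M' hM' => ?_⟩
    -- both pull back to `P' i`
    have key : ∀ (N : Ideal (S ⧸ Ideal.span {1 - ε i.castSucc})), N.IsMaximal →
        (N.comap (Ideal.Quotient.mk _)).comap π.toRingHom = P' i := by
      intro N hN
      haveI : (N.comap (Ideal.Quotient.mk (Ideal.span {1 - ε i.castSucc}))).IsMaximal :=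
        Ideal.comap_isMaximal_of_surjective _ Ideal.Quotient.mk_surjective
      obtain ⟨h1, h2⟩ := hQ (N.comap (Ideal.Quotient.mk _)) (comap_eq_maximalIdeal_of_isMaximal _)
      refine (H _ h1 h2).2 i ?_
      intro hmem
      have h3 : ε i.castSucc ∈ N.comap (Ideal.Quotient.mk (Ideal.span {1 - ε i.castSucc})) := hmem
      have h4 : 1 - ε i.castSucc ∈ N.comap (Ideal.Quotient.mk (Ideal.span {1 - ε i.castSucc})) := by
        rw [Ideal.mem_comap]
        have : (Ideal.Quotient.mk (Ideal.span {1 - ε i.castSucc})) (1 - ε i.castSucc) = 0 :=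
          Ideal.Quotient.eq_zero_iff_mem.mpr (Ideal.mem_span_singleton_self _)
        rw [this]; exact N.zero_mem
      have h5 := Ideal.add_mem _ h3 h4
      rw [add_sub_cancel] at h5
      exact (Ideal.IsPrime.ne_top inferInstance) ((Ideal.eq_top_iff_one _).mpr h5)
    have h6 := (key M hM).trans (key M' hM').symm
    have h7 := Ideal.comap_injective_of_surjective π.toRingHom hπsurj h6
    exact (Ideal.comap_injective_of_surjective _ Ideal.Quotient.mk_surjective h7).symm

/-- If `S[X]/(f)` decomposes into local rings, simple roots of `f` modulo the maximal ideal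
lift. -/
theorem exists_root_of_decomposition {S : Type u} [CommRing S] [IsLocalRing S] (f : S[X])
    (hf : f.Monic) (a₀ : S) (h1 : f.eval a₀ ∈ maximalIdeal S) (h2 : IsUnit (f.derivative.eval a₀))
    {n : ℕ} (ε : Fin n → AdjoinRoot f) (hε : CompleteOrthogonalIdempotents ε)
    (hloc : ∀ i, IsLocalRing (AdjoinRoot f ⧸ Ideal.span {1 - ε i})) :
    ∃ a : S, f.IsRoot a ∧ a - a₀ ∈ maximalIdeal S := by
  classical
  haveI : Module.Finite S (AdjoinRoot f) := hf.finite_adjoinRoot
  -- the evaluation at the residue class of `a₀`
  have hev0 : eval₂ (algebraMap S (ResidueField S)) (residue S a₀) f = 0 := by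
    have : eval₂ (algebraMap S (ResidueField S)) (residue S a₀) f = residue S (f.eval a₀) :=
      Polynomial.eval₂_at_apply (residue S) a₀
    rw [this, residue_eq_zero_iff]; exact h1
  let ev : AdjoinRoot f →ₐ[S] ResidueField S :=
    AdjoinRoot.liftAlgHom f (Algebra.ofId S _) (residue S a₀) hev0
  have hev_root : ev (AdjoinRoot.root f) = residue S a₀ := by simp [ev]
  have hev_alg : ∀ s : S, ev (algebraMap S _ s) = residue S s := fun s => by
    rw [AlgHom.commutes]; rfl
  -- pick the index
  obtain ⟨j, hj⟩ : ∃ j, ev (ε j) = 1 := by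
    by_contra hcon
    push Not at hcon
    have h0 : ∀ i, ev (ε i) = 0 := by
      intro i
      have hid : IsIdempotentElem (ev (ε i)) := (hε.idem i).map ev
      rcases IsIdempotentElem.iff_eq_zero_or_one.mp hid with h | h
      · exact h
      · exact absurd h (hcon i)
    have := congrArg ev hε.complete
    rw [map_sum, map_one, Finset.sum_eq_zero (fun i _ => h0 i)] at this
    exact zero_ne_one this
  haveI := hloc j
  let A := AdjoinRoot f ⧸ Ideal.span {1 - ε j}
  let q : AdjoinRoot f →ₐ[S] A := Ideal.Quotient.mkₐ S _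
  have hker : ∀ b ∈ Ideal.span {1 - ε j}, ev b = 0 := by
    intro b hb
    obtain ⟨c, rfl⟩ := Ideal.mem_span_singleton'.mp hb
    rw [map_mul, map_sub, map_one, hj, sub_self, mul_zero]
  let ev' : A →ₐ[S] ResidueField S := Ideal.Quotient.liftₐ _ ev hker
  have hev'q : ∀ b, ev' (q b) = ev b := fun b => rfl
  have hev'surj : Function.Surjective ev' := by
    intro y
    obtain ⟨s, rfl⟩ := residue_surjective y
    exact ⟨algebraMap S A s, by rw [AlgHom.commutes]; rfl⟩
  have hunit : ∀ y : A, ev' y ≠ 0 → IsUnit y := by
    intro y hy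
    by_contra hnu
    have hmem : y ∈ maximalIdeal A := hnu
    have hmax : (RingHom.ker ev'.toRingHom).IsMaximal :=
      RingHom.ker_isMaximal_of_surjective _ hev'surj
    have : RingHom.ker ev'.toRingHom = maximalIdeal A := IsLocalRing.eq_maximalIdeal hmax
    rw [← this] at hmem
    exact hy hmem
  let x : A := q (AdjoinRoot.root f)
  have hfx : aeval x f = 0 := by
    show aeval (q (AdjoinRoot.root f)) f = 0
    rw [aeval_algHom_apply, AdjoinRoot.aeval_eq, AdjoinRoot.mk_self, map_zero]
  -- `x - a₀ ∈ m A`
  let h := f /ₘ (X - C a₀)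
  have hfh : f = (X - C a₀) * h + C (f.eval a₀) := by
    have := Polynomial.modByMonic_add_div f (X - C a₀)
    rw [Polynomial.modByMonic_X_sub_C_eq_C_eval] at this
    rw [add_comm]; exact this.symm
  have hh : h.eval a₀ = f.derivative.eval a₀ := by
    have := congrArg (fun p => (derivative p).eval a₀) hfh
    simp at this
    rw [this]
  have hhx : IsUnit (aeval x h) := by
    apply hunit
    have : ev' (aeval x h) = residue S (h.eval a₀) := by
      rw [← aeval_algHom_apply, hev'q, hev_root]
      exact Polynomial.eval₂_at_apply (residue S) a₀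
    rw [this, hh, Ne, residue_eq_zero_iff]
    exact fun hm => hm h2
  have hx : x - algebraMap S A a₀ ∈ (maximalIdeal S • ⊤ : Submodule S A) := by
    have h3 : (x - algebraMap S A a₀) * aeval x h = - algebraMap S A (f.eval a₀) := by
      have h3' := congrArg (aeval x) hfh
      rw [hfx, map_add, map_mul, map_sub, aeval_X, aeval_C, aeval_C] at h3'
      rw [eq_neg_iff_add_eq_zero]; exact h3'.symm
    obtain ⟨u, hu⟩ := hhx
    have h4 : x - algebraMap S A a₀ = (-(f.eval a₀)) • (↑u⁻¹ : A) := by
      rw [Algebra.smul_def, map_neg, ← h3, ← hu, mul_assoc, Units.mul_inv, mul_one]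
    rw [h4]
    exact Submodule.smul_mem_smul (neg_mem h1) Submodule.mem_top
  -- every element of `A` is in `S·1 + mA`
  have hAll : (⊤ : Submodule S A) ≤ (Subalgebra.toSubmodule (⊥ : Subalgebra S A)) ⊔
      (maximalIdeal S • ⊤ : Submodule S A) := by
    intro y _
    obtain ⟨b, rfl⟩ := Ideal.Quotient.mk_surjective y
    obtain ⟨p, rfl⟩ := AdjoinRoot.mk_surjective b
    have hy : (Ideal.Quotient.mk _ (AdjoinRoot.mk f p) : A) = aeval x p := by
      show q (AdjoinRoot.mk f p) = _
      rw [← AdjoinRoot.aeval_eq, ← aeval_algHom_apply]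
    rw [hy]
    have hdvd : x - algebraMap S A a₀ ∣ aeval x p - algebraMap S A (p.eval a₀) := by
      have := Polynomial.sub_dvd_eval_sub x (algebraMap S A a₀) (p.map (algebraMap S A))
      rwa [eval_map_algebraMap, eval_map, Polynomial.eval₂_at_apply] at this
    obtain ⟨c, hc⟩ := hdvd
    have h5 : aeval x p = algebraMap S A (p.eval a₀) + (x - algebraMap S A a₀) * c := by
      rw [← hc]; ring
    rw [h5]
    refine Submodule.add_mem_sup ?_ ?_
    · exact Subalgebra.algebraMap_mem ⊥ _
    · have : (maximalIdeal S • ⊤ : Submodule S A) = ((maximalIdeal S).map (algebraMap S A)).restrictScalars S :=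
        Ideal.smul_top_eq_map _
      rw [this, Submodule.restrictScalars_mem] at hx ⊢
      exact Ideal.mul_mem_right _ _ hx
  have hfinA : (⊤ : Submodule S A).FG := Module.finite_def.mp inferInstance
  have htop := Submodule.le_of_le_smul_of_le_jacobson_bot hfinA
    (IsLocalRing.maximalIdeal_le_jacobson ⊥) hAll
  obtain ⟨a, ha⟩ : ∃ a : S, algebraMap S A a = x := by
    have := htop (Submodule.mem_top : x ∈ ⊤)
    rw [Subalgebra.mem_toSubmodule, Algebra.mem_bot] at this
    exact this
  -- injectivity of `S → A`
  have hinj : Function.Injective (algebraMap S A) := by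
    rw [injective_iff_map_eq_zero]
    intro s hs
    have h6 : algebraMap S (AdjoinRoot f) s ∈ Ideal.span {1 - ε j} :=
      Ideal.Quotient.eq_zero_iff_mem.mp hs
    obtain ⟨c, hc⟩ := Ideal.mem_span_singleton'.mp h6
    have h7 : s • ε j = 0 := by
      rw [Algebra.smul_def, ← hc, mul_assoc, sub_mul, one_mul, (hε.idem j).eq, sub_self, mul_zero]
    let bas := (AdjoinRoot.powerBasis' hf).basis
    by_contra hs0
    have hcoord : ∀ k, bas.repr (ε j) k ∈ maximalIdeal S := by
      intro k
      have h8 : s * bas.repr (ε j) k = 0 := by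
        have := congrArg (fun v => bas.repr v k) h7
        simpa using this
      by_contra hk
      have hku : IsUnit (bas.repr (ε j) k) := by
        by_contra hnu; exact hk hnu
      exact hs0 (hku.mul_left_eq_zero.mp h8)
    have h9 : ev (ε j) = 0 := by
      rw [← bas.sum_repr (ε j), map_sum]
      refine Finset.sum_eq_zero fun k _ => ?_
      rw [map_smul, Algebra.smul_def]
      have : algebraMap S (ResidueField S) (bas.repr (ε j) k) = 0 :=
        (residue_eq_zero_iff _).mpr (hcoord k)
      rw [this, zero_mul]
    rw [hj] at h9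
    exact one_ne_zero h9
  refine ⟨a, ?_, ?_⟩
  · show f.eval a = 0
    apply hinj
    rw [map_zero, ← hfx, ← ha, Polynomial.aeval_algebraMap_apply_eq_algebraMap_eval]
  · rw [← residue_eq_zero_iff, map_sub, sub_eq_zero]
    have h10 : ev' (algebraMap S A a) = residue S a := by rw [AlgHom.commutes]; rfl
    rw [← h10, ha, hev'q, hev_root]


/-- A local ring finite over a henselian local ring is henselian. -/
theorem henselianLocalRing_of_finite (R : Type u) [CommRing R] [HenselianLocalRing R]
    (S : Type u) [CommRing S] [IsLocalRing S] [Algebra R S] [Module.Finite R S] :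
    HenselianLocalRing S := by
  refine ⟨fun f hf a₀ h1 h2 => ?_⟩
  haveI : Module.Finite S (AdjoinRoot f) := hf.finite_adjoinRoot
  haveI : Module.Finite R (AdjoinRoot f) := Module.Finite.trans S _
  obtain ⟨n, ε, hε, hloc⟩ := exists_completeOrthogonalIdempotents_of_finite R (AdjoinRoot f)
  exact exists_root_of_decomposition f hf a₀ h1 h2 ε hε hloc

/-- A ring isomorphic to a finite product of local rings has a complete family of orthogonal
idempotents with local factors. -/
theorem exists_completeOrthogonalIdempotents_of_ringEquiv {B : Type*} [CommRing B] {ι : Type*}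
    [Fintype ι] (A : ι → Type*) [∀ i, CommRing (A i)] [∀ i, IsLocalRing (A i)]
    (φ : B ≃+* ∀ i, A i) :
    ∃ (n : ℕ) (ε : Fin n → B), CompleteOrthogonalIdempotents ε ∧
      ∀ i, IsLocalRing (B ⧸ Ideal.span {1 - ε i}) := by
  classical
  let e : ι → B := fun i => φ.symm (Pi.single i 1)
  have he : CompleteOrthogonalIdempotents e :=
    (CompleteOrthogonalIdempotents.single A).map φ.symm.toRingHom
  have hloc : ∀ i, IsLocalRing (B ⧸ Ideal.span {1 - e i}) := by
    intro i
    let π : B →+* A i := (Pi.evalRingHom A i).comp φ.toRingHom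
    have hπ : Function.Surjective π := by
      intro a
      refine ⟨φ.symm (Pi.single i a), ?_⟩
      simp [π]
    have hker : RingHom.ker π = Ideal.span {1 - e i} := by
      apply le_antisymm
      · intro b hb
        have hb' : φ b i = 0 := hb
        have h1 : b * e i = 0 := by
          apply φ.injective
          rw [map_mul, map_zero]
          simp only [e, RingEquiv.apply_symm_apply]
          ext k
          by_cases hk : k = i
          · subst hk; simp [hb']
          · simp [Pi.single_eq_of_ne hk]
        have : b = b * (1 - e i) := by rw [mul_sub, mul_one, h1, sub_zero]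
        rw [this]
        exact Ideal.mul_mem_left _ _ (Ideal.mem_span_singleton_self _)
      · rw [Ideal.span_le, Set.singleton_subset_iff]
        show π (1 - e i) = 0
        simp [π, e]
    exact (((Ideal.quotEquivOfEq hker).symm.trans
      (RingHom.quotientKerEquivOfSurjective hπ)).symm).isLocalRing
  let t := Fintype.equivFin ι
  refine ⟨Fintype.card ι, e ∘ t.symm, (CompleteOrthogonalIdempotents.equiv t.symm).mpr he,
    fun i => hloc _⟩

/-- If all finite algebras decompose into local rings, the local ring is henselian. -/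
theorem henselianLocalRing_of_forall_finite_decomposition (R : Type u) [CommRing R] [IsLocalRing R]
    (h : ∀ (S : Type u) [CommRing S] [Algebra R S], Module.Finite R S →
      ∃ (n : ℕ) (ε : Fin n → S), CompleteOrthogonalIdempotents ε ∧
      ∀ i, IsLocalRing (S ⧸ Ideal.span {1 - ε i})) :
    HenselianLocalRing R := by
  refine ⟨fun f hf a₀ h1 h2 => ?_⟩
  haveI : Module.Finite R (AdjoinRoot f) := hf.finite_adjoinRoot
  obtain ⟨n, ε, hε, hloc⟩ := h (AdjoinRoot f) inferInstance
  exact exists_root_of_decomposition f hf a₀ h1 h2 ε hε hloc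

end Groth.Agent.H8.Hens
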