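import Mathlib
import Groth.Agent.Lib.Helper8.Hens.HenselianFinite

/-!
# Lifting maps from étale algebras into finite algebras over henselian local rings (helper8)

* `bijective_comp_mk_of_local`: for `T` henselian local, `I` a proper ideal and `E` étale,
  `Hom(E, T) → Hom(E, T/I)` is bijective.
* `bijective_comp_mk_of_finite`: for `C` finite over a henselian local ring, `J` an ideal in the
  Jacobson radical and `E` étale, `Hom(E, C) → Hom(E, C/J)` is bijective.
-/

universe u
open IsLocalRing TensorProduct Polynomial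

namespace Groth.Agent.H8.Hens

/-- Maps from an étale algebra into a henselian local ring correspond to maps into any proper
quotient. -/
theorem bijective_comp_mk_of_local {A : Type u} [CommRing A] (E : Type u) [CommRing E]
    [Algebra A E] [Algebra.Etale A E] (T : Type u) [CommRing T] [HenselianLocalRing T]
    [Algebra A T] (I : Ideal T) (hI : I ≠ ⊤) :
    Function.Bijective (fun φ : E →ₐ[A] T => (Ideal.Quotient.mkₐ A I).comp φ) := by
  have hIle : I ≤ maximalIdeal T := IsLocalRing.le_maximalIdeal hI
  haveI : Nontrivial (T ⧸ I) := Ideal.Quotient.nontrivial_iff.mpr hI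
  haveI : IsLocalRing (T ⧸ I) :=
    IsLocalRing.of_surjective' (Ideal.Quotient.mk I) Ideal.Quotient.mk_surjective
  have hmk : ∀ z ∈ maximalIdeal T, Ideal.Quotient.mk I z ∈ maximalIdeal (T ⧸ I) := by
    intro z hz
    rw [mem_maximalIdeal, mem_nonunits_iff]
    intro hu
    obtain ⟨w', hw'⟩ := hu.exists_right_inv
    obtain ⟨w, rfl⟩ := Ideal.Quotient.mk_surjective w'
    rw [← map_mul, ← map_one (Ideal.Quotient.mk I), Ideal.Quotient.eq] at hw'
    have h1 : z * w ∈ maximalIdeal T := Ideal.mul_mem_right _ _ hz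
    have h2 : (1 : T) ∈ maximalIdeal T := by
      have := sub_mem h1 (hIle hw')
      simp at this
    exact (Ideal.ne_top_iff_one _).mp (maximalIdeal.isMaximal T).ne_top h2
  constructor
  · intro u v h
    apply algHom_ext_of_sub_mem_maximalIdeal
    intro x
    have := DFunLike.congr_fun h x
    exact hIle (Ideal.Quotient.eq.mp this)
  · intro ψ
    let ρ : T ⧸ I →ₐ[A] ResidueField T :=
      Ideal.Quotient.liftₐ I (IsScalarTower.toAlgHom A T (ResidueField T))
        (fun x hx => (residue_eq_zero_iff x).mpr (hIle hx))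
    have hρ : ∀ t : T, ρ (Ideal.Quotient.mk I t) = residue T t := fun t => rfl
    obtain ⟨g, hg⟩ := exists_algHom_of_henselian (ρ.comp ψ) (AlgHom.id A (ResidueField T))
    refine ⟨g, ?_⟩
    apply algHom_ext_of_sub_mem_maximalIdeal
    intro x
    obtain ⟨t, ht⟩ := Ideal.Quotient.mk_surjective (ψ x)
    show Ideal.Quotient.mk I (g x) - ψ x ∈ _
    rw [← ht, ← map_sub]
    apply hmk
    rw [← residue_eq_zero_iff, map_sub, hg, sub_eq_zero]
    show ρ (ψ x) = _
    rw [← ht, hρ]

/-- In an algebra integral over a local ring, the extension of the maximal ideal lies in the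
Jacobson radical. -/
theorem map_maximalIdeal_le_jacobson_bot {A : Type*} [CommRing A] [IsLocalRing A] (C : Type*)
    [CommRing C] [Algebra A C] [Algebra.IsIntegral A C] :
    (maximalIdeal A).map (algebraMap A C) ≤ Ideal.jacobson ⊥ := by
  rw [Ideal.jacobson, le_sInf_iff]
  rintro M ⟨-, hM⟩
  haveI := hM
  rw [Ideal.map_le_iff_le_comap, comap_eq_maximalIdeal_of_isMaximal M]

/-- Maps from an étale algebra into an algebra finite over a henselian local ring correspond to
maps into the quotient by any ideal in the Jacobson radical. -/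
theorem bijective_comp_mk_of_finite {A : Type u} [CommRing A] [HenselianLocalRing A] (E : Type u)
    [CommRing E] [Algebra A E] [Algebra.Etale A E] (C : Type u) [CommRing C] [Algebra A C]
    [Module.Finite A C] (J : Ideal C) (hJ : J ≤ Ideal.jacobson ⊥) :
    Function.Bijective (fun φ : E →ₐ[A] C => (Ideal.Quotient.mkₐ A J).comp φ) := by
  classical
  obtain ⟨n, ε, hε, hloc⟩ := exists_completeOrthogonalIdempotents_of_finite A C
  let Ci : Fin n → Type u := fun i => C ⧸ Ideal.span {1 - ε i}
  let π : ∀ i, C →ₐ[A] Ci i := fun i => Ideal.Quotient.mkₐ A _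
  have hπ : ∀ i, Function.Surjective (π i) := fun i => Ideal.Quotient.mkₐ_surjective A _
  have hπ0 : ∀ i c, π i c = 0 ↔ ε i * c = 0 := by
    intro i c
    show Ideal.Quotient.mk _ c = 0 ↔ _
    rw [Ideal.Quotient.eq_zero_iff_mem, Ideal.mem_span_singleton']
    constructor
    · rintro ⟨a, rfl⟩
      rw [mul_comm a, ← mul_assoc, mul_sub, mul_one, (hε.idem i).eq, sub_self, zero_mul]
    · intro h
      exact ⟨c, by rw [mul_sub, mul_one, mul_comm c, h, sub_zero]⟩
  have hjoint : ∀ c : C, (∀ i, ε i * c = 0) → c = 0 := by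
    intro c hc
    rw [← one_mul c, ← hε.complete, Finset.sum_mul]
    exact Finset.sum_eq_zero fun i _ => hc i
  haveI : ∀ i, IsLocalRing (Ci i) := hloc
  haveI : ∀ i, Module.Finite A (Ci i) := fun i => Module.Finite.of_surjective (π i).toLinearMap (hπ i)
  haveI : ∀ i, HenselianLocalRing (Ci i) := fun i => henselianLocalRing_of_finite A (Ci i)
  let Ji : ∀ i, Ideal (Ci i) := fun i => J.map (π i)
  have hJi : ∀ i, Ji i ≠ ⊤ := by
    intro i htop
    have h1 : (1 : Ci i) ∈ J.map (π i) := by
      show (1 : Ci i) ∈ Ji i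
      rw [htop]; exact Submodule.mem_top
    rw [Ideal.mem_map_iff_of_surjective _ (hπ i)] at h1
    obtain ⟨j, hj, hj1⟩ := h1
    have h2 : π i (1 - j) = 0 := by rw [map_sub, map_one, hj1, sub_self]
    rw [hπ0] at h2
    have hu : IsUnit (1 - j) := by
      have := (Ideal.mem_jacobson_bot.mp (hJ hj)) (-1)
      simpa [sub_eq_neg_add, add_comm] using this
    have h3 : ε i = 0 := hu.mul_left_eq_zero.mp h2
    have : (1 : Ci i) = 0 := by
      have := (hπ0 i 1).mpr (by rw [h3, zero_mul])
      rwa [map_one] at this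
    exact one_ne_zero this
  have key := fun i => bijective_comp_mk_of_local (A := A) E (Ci i) (Ji i) (hJi i)
  -- the induced maps on quotients
  let fac : ∀ i, C ⧸ J →ₐ[A] Ci i ⧸ Ji i := fun i =>
    Ideal.Quotient.liftₐ J ((Ideal.Quotient.mkₐ A (Ji i)).comp (π i)) (fun c hc => by
      show Ideal.Quotient.mk (Ji i) (π i c) = 0
      rw [Ideal.Quotient.eq_zero_iff_mem]
      exact Ideal.mem_map_of_mem _ hc)
  have hfac : ∀ i c, fac i (Ideal.Quotient.mk J c) = Ideal.Quotient.mk (Ji i) (π i c) :=
    fun i c => rfl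
  have hfacjoint : ∀ y : C ⧸ J, (∀ i, fac i y = 0) → y = 0 := by
    intro y hy
    obtain ⟨c, rfl⟩ := Ideal.Quotient.mk_surjective y
    rw [Ideal.Quotient.eq_zero_iff_mem]
    have hc : ∀ i, ε i * c ∈ J := by
      intro i
      have h1 := hy i
      rw [hfac, Ideal.Quotient.eq_zero_iff_mem, Ideal.mem_map_iff_of_surjective _ (hπ i)] at h1
      obtain ⟨j, hj, hj1⟩ := h1
      have h2 : π i (c - j) = 0 := by rw [map_sub, hj1, sub_self]
      rw [hπ0, mul_sub, sub_eq_zero] at h2
      rw [h2]; exact Ideal.mul_mem_left _ _ hj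
    rw [← one_mul c, ← hε.complete, Finset.sum_mul]
    exact Ideal.sum_mem _ fun i _ => hc i
  constructor
  · intro u v h
    have hi : ∀ i, (π i).comp u = (π i).comp v := by
      intro i
      apply (key i).1
      ext x
      have := DFunLike.congr_fun h x
      show Ideal.Quotient.mk (Ji i) (π i (u x)) = Ideal.Quotient.mk (Ji i) (π i (v x))
      rw [← hfac, ← hfac]
      exact congrArg (fac i) this
    ext x
    rw [← sub_eq_zero]
    apply hjoint
    intro i
    rw [← hπ0, map_sub, sub_eq_zero]
    exact DFunLike.congr_fun (hi i) x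
  · intro ψ
    have hg : ∀ i, ∃ g : E →ₐ[A] Ci i, (Ideal.Quotient.mkₐ A (Ji i)).comp g = (fac i).comp ψ :=
      fun i => (key i).2 _
    choose g hg using hg
    let e : C ≃ₐ[A] (∀ i, Ci i) :=
      AlgEquiv.ofBijective (AlgHom.pi π) hε.bijective_pi
    have he : ∀ c i, e c i = π i c := fun c i => rfl
    let G : E →ₐ[A] C := (e.symm : (∀ i, Ci i) →ₐ[A] C).comp (AlgHom.pi g)
    have hG : ∀ i x, π i (G x) = g i x := by
      intro i x
      rw [← he]
      simp [G]
    refine ⟨G, ?_⟩
    ext x
    rw [← sub_eq_zero]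
    apply hfacjoint
    intro i
    rw [map_sub, sub_eq_zero]
    show fac i (Ideal.Quotient.mk J (G x)) = fac i (ψ x)
    rw [hfac, hG]
    exact DFunLike.congr_fun (hg i) x

end Groth.Agent.H8.Hens
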