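import Mathlib
import Groth.Agent.Lib.Helper8.Hens.HenselianFinite

/-!
# Integral algebras over henselian local rings (helper8)

* `isLocalRing_of_isDomain_of_finite`: a domain finite over a henselian local ring is local.
* `isLocalRing_of_isDomain_of_isIntegral`: a domain integral over a henselian local ring is local.
* `henselianLocalRing_of_isIntegral`: a local ring integral over a henselian local ring is
  henselian.
-/

universe u
open IsLocalRing Polynomial

namespace Groth.Agent.H8.Hens

/-- A domain finite over a henselian local ring is local. -/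
theorem isLocalRing_of_isDomain_of_finite (A : Type u) [CommRing A] [HenselianLocalRing A]
    (C : Type u) [CommRing C] [IsDomain C] [Algebra A C] [Module.Finite A C] : IsLocalRing C := by
  classical
  obtain ⟨n, ε, hε, hloc⟩ := exists_completeOrthogonalIdempotents_of_finite A C
  obtain ⟨j, hj⟩ : ∃ j, ε j = 1 := by
    by_contra hcon
    push Not at hcon
    have h0 : ∀ i, ε i = 0 := fun i =>
      (IsIdempotentElem.iff_eq_zero_or_one.mp (hε.idem i)).resolve_right (hcon i)
    have := hε.complete
    rw [Finset.sum_eq_zero (fun i _ => h0 i)] at this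
    exact zero_ne_one this
  have hbot : Ideal.span {1 - ε j} = (⊥ : Ideal C) := by
    rw [hj, sub_self]; exact Ideal.span_singleton_eq_bot.mpr rfl
  haveI := hloc j
  exact ((Ideal.quotEquivOfEq hbot).trans (RingEquiv.quotientBot C)).isLocalRing

/-- A domain integral over a henselian local ring is local. -/
theorem isLocalRing_of_isDomain_of_isIntegral (A : Type u) [CommRing A] [HenselianLocalRing A]
    (B : Type u) [CommRing B] [IsDomain B] [Algebra A B] [Algebra.IsIntegral A B] :
    IsLocalRing B := by
  refine IsLocalRing.of_isUnit_or_isUnit_one_sub_self fun b => ?_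
  let C : Subalgebra A B := Algebra.adjoin A {b}
  haveI : Module.Finite A C :=
    Algebra.finite_adjoin_of_finite_of_isIntegral (Set.finite_singleton b)
      (fun x _ => Algebra.IsIntegral.isIntegral x)
  haveI : IsLocalRing C := isLocalRing_of_isDomain_of_finite A C
  let b' : C := ⟨b, Algebra.subset_adjoin (Set.mem_singleton b)⟩
  rcases IsLocalRing.isUnit_or_isUnit_one_sub_self b' with h | h
  · exact Or.inl (h.map C.val)
  · exact Or.inr (by simpa [b'] using h.map C.val)

/-- A local ring integral over a henselian local ring is henselian. -/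
theorem henselianLocalRing_of_isIntegral (A : Type u) [CommRing A] [HenselianLocalRing A]
    (B : Type u) [CommRing B] [IsLocalRing B] [Algebra A B] [Algebra.IsIntegral A B] :
    HenselianLocalRing B := by
  classical
  refine ⟨fun f hf a₀ h1 h2 => ?_⟩
  let s : Set B := ↑f.coeffs ∪ {a₀}
  have hsfin : s.Finite := (Finset.finite_toSet _).union (Set.finite_singleton a₀)
  let C : Subalgebra A B := Algebra.adjoin A s
  haveI : Module.Finite A C :=
    Algebra.finite_adjoin_of_finite_of_isIntegral hsfin
      (fun x _ => Algebra.IsIntegral.isIntegral x)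
  haveI : Algebra.IsIntegral C B := Algebra.IsIntegral.tower_top (R := A)
  haveI : FaithfulSMul C B :=
    (faithfulSMul_iff_algebraMap_injective C B).mpr Subtype.val_injective
  haveI : IsLocalHom (algebraMap C B) := Algebra.IsIntegral.isLocalHom C B
  haveI : IsLocalRing C := RingHom.domain_isLocalRing (algebraMap C B)
  haveI : HenselianLocalRing C := henselianLocalRing_of_finite A C
  have hmem : ∀ c : C, c ∈ maximalIdeal C ↔ (c : B) ∈ maximalIdeal B := by
    intro c
    rw [mem_maximalIdeal, mem_maximalIdeal, mem_nonunits_iff, mem_nonunits_iff]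
    exact not_congr ⟨fun h => h.map (algebraMap C B), fun h => isUnit_of_map_unit (algebraMap C B) c h⟩
  have hlift : f ∈ lifts (algebraMap C B) := by
    rw [Polynomial.lifts_iff_coeff_lifts]
    intro k
    by_cases hk : f.coeff k = 0
    · exact ⟨0, by rw [hk, map_zero]⟩
    · exact ⟨⟨f.coeff k, Algebra.subset_adjoin (Or.inl (Finset.mem_coe.mpr
        (Polynomial.coeff_mem_coeffs hk)))⟩, rfl⟩
  obtain ⟨g, hg, -, hgm⟩ := Polynomial.lifts_and_natDegree_eq_and_monic hlift hf
  let α : C := ⟨a₀, Algebra.subset_adjoin (Or.inr (Set.mem_singleton a₀))⟩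
  have hev : ∀ (p : C[X]) (c : C), ((p.eval c : C) : B) = (p.map (algebraMap C B)).eval (c : B) := by
    intro p c
    rw [Polynomial.eval_map]
    exact (Polynomial.eval₂_at_apply (algebraMap C B) c).symm
  have h1' : g.eval α ∈ maximalIdeal C := by
    rw [hmem, hev, hg]; exact h1
  have h2' : IsUnit (g.derivative.eval α) := by
    apply isUnit_of_map_unit (algebraMap C B)
    show IsUnit ((g.derivative.eval α : C) : B)
    rw [hev, ← Polynomial.derivative_map, hg]; exact h2
  obtain ⟨β, hβ1, hβ2⟩ := HenselianLocalRing.is_henselian g hgm α h1' h2'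
  refine ⟨(β : B), ?_, ?_⟩
  · show f.eval (β : B) = 0
    rw [← hg, ← hev, hβ1]; rfl
  · have := (hmem (β - α)).mp hβ2
    simpa using this

end Groth.Agent.H8.Hens
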