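import Mathlib
import Groth.Agent.Lib.Helper8.Hens.IntegralHens
import Groth.Agent.Lib.Helper8.Hens.EtaleLift
import Groth.Agent.Lib.Helper8.Hens.Henselization

/-!
# Base change of an integral local algebra along a henselization (helper8)

* `isIntegral_tensor_right`: `B ⊗[A] S` is integral over `S` (right algebra structure) when `B`
  is integral over `A`.
* `isLocalRing_tensor_of_isIntegral`: if `A → B` is a local homomorphism of local rings with `B`
  integral over `A` and `A → S` is a faithfully flat local homomorphism of local rings which is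
  surjective on residue fields, then `B ⊗[A] S` is local.
* `isHenselization_tensor_of_isIntegral`: `B ⊗[A] S` is a henselization of `B` if `S` is a
  henselization of `A`.
-/

universe u
open IsLocalRing TensorProduct

namespace Groth.Agent.H8.Hens

attribute [local instance] Algebra.TensorProduct.rightAlgebra

theorem isIntegral_tensor_right (A B S : Type*) [CommRing A] [CommRing B] [Algebra A B]
    [Algebra.IsIntegral A B] [CommRing S] [Algebra A S] : Algebra.IsIntegral S (B ⊗[A] S) where
  isIntegral p := by
    induction p using TensorProduct.induction_on with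
    | zero => exact isIntegral_zero
    | tmul b s =>
      have h1 : IsIntegral S (b ⊗ₜ[A] (1 : S)) := by
        have hb : IsIntegral A b := Algebra.IsIntegral.isIntegral b
        have : IsIntegral A (b ⊗ₜ[A] (1 : S)) :=
          hb.map (Algebra.TensorProduct.includeLeft : B →ₐ[A] B ⊗[A] S)
        exact this.tower_top
      have h2 : IsIntegral S ((1 : B) ⊗ₜ[A] s) := isIntegral_algebraMap (x := s)
      have : b ⊗ₜ[A] s = (b ⊗ₜ[A] (1 : S)) * ((1 : B) ⊗ₜ[A] s) := by
        rw [Algebra.TensorProduct.tmul_mul_tmul, mul_one, one_mul]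
      rw [this]
      exact h1.mul h2
    | add x y hx hy => exact hx.add hy

theorem isUnit_add_of_mem_jacobson_bot {C : Type*} [CommRing C] {u n : C} (hu : IsUnit u)
    (hn : n ∈ Ideal.jacobson (⊥ : Ideal C)) : IsUnit (u + n) := by
  obtain ⟨v, rfl⟩ := hu
  have h1 : IsUnit (1 + (↑v⁻¹ : C) * n) := by
    apply Ideal.isUnit_of_sub_one_mem_jacobson_bot
    rw [add_sub_cancel_left]
    exact Ideal.mul_mem_left _ _ hn
  have : (v : C) + n = v * (1 + (↑v⁻¹ : C) * n) := by
    rw [mul_add, mul_one, ← mul_assoc, Units.mul_inv, one_mul]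
  rw [this]
  exact v.isUnit.mul h1

/-- If `A → B` is a local homomorphism of local rings with `B` integral over `A` and `A → S` is
a local homomorphism of local rings, surjective on residue fields, with `B ⊗[A] S` nontrivial,
then `B ⊗[A] S` is local. -/
theorem isLocalRing_tensor_of_isIntegral (A B S : Type*) [CommRing A] [IsLocalRing A]
    [CommRing B] [IsLocalRing B] [Algebra A B] [Algebra.IsIntegral A B]
    [CommRing S] [IsLocalRing S] [Algebra A S] [Nontrivial (B ⊗[A] S)]
    (hres : ∀ s : S, ∃ a : A, s - algebraMap A S a ∈ maximalIdeal S) :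
    IsLocalRing (B ⊗[A] S) := by
  haveI : Algebra.IsIntegral S (B ⊗[A] S) := isIntegral_tensor_right A B S
  set N : Ideal (B ⊗[A] S) := (maximalIdeal S).map (algebraMap S (B ⊗[A] S)) with hN
  have hNJ : N ≤ Ideal.jacobson ⊥ := map_maximalIdeal_le_jacobson_bot (B ⊗[A] S)
  have key : ∀ c : B ⊗[A] S, ∃ b : B, c - b ⊗ₜ[A] (1 : S) ∈ N := by
    intro c
    induction c using TensorProduct.induction_on with
    | zero => exact ⟨0, by simp⟩
    | tmul b s =>
      obtain ⟨a, ha⟩ := hres s
      refine ⟨a • b, ?_⟩
      have : b ⊗ₜ[A] s - (a • b) ⊗ₜ[A] (1 : S) =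
          (b ⊗ₜ[A] (1 : S)) * algebraMap S (B ⊗[A] S) (s - algebraMap A S a) := by
        rw [Algebra.TensorProduct.right_algebraMap_apply, Algebra.TensorProduct.tmul_mul_tmul,
          mul_one, one_mul, TensorProduct.tmul_sub, TensorProduct.smul_tmul,
          Algebra.smul_def, mul_one]
      rw [this]
      exact Ideal.mul_mem_left _ _ (Ideal.mem_map_of_mem _ ha)
    | add x y hx hy =>
      obtain ⟨b₁, h₁⟩ := hx
      obtain ⟨b₂, h₂⟩ := hy
      refine ⟨b₁ + b₂, ?_⟩
      have : x + y - (b₁ + b₂) ⊗ₜ[A] (1 : S) =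
          (x - b₁ ⊗ₜ[A] (1 : S)) + (y - b₂ ⊗ₜ[A] (1 : S)) := by
        rw [TensorProduct.add_tmul]; ring
      rw [this]
      exact N.add_mem h₁ h₂
  refine IsLocalRing.of_isUnit_or_isUnit_one_sub_self fun c => ?_
  obtain ⟨b, hb⟩ := key c
  rcases IsLocalRing.isUnit_or_isUnit_one_sub_self b with h | h
  · left
    have hu : IsUnit (b ⊗ₜ[A] (1 : S)) :=
      h.map (Algebra.TensorProduct.includeLeft : B →ₐ[A] B ⊗[A] S)
    have := isUnit_add_of_mem_jacobson_bot hu (hNJ hb)
    rwa [add_sub_cancel] at this
  · right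
    have hu : IsUnit ((1 - b) ⊗ₜ[A] (1 : S)) :=
      h.map (Algebra.TensorProduct.includeLeft : B →ₐ[A] B ⊗[A] S)
    have := isUnit_add_of_mem_jacobson_bot hu (hNJ (N.neg_mem hb))
    have e : (1 - b) ⊗ₜ[A] (1 : S) + -(c - b ⊗ₜ[A] (1 : S)) = 1 - c := by
      rw [TensorProduct.sub_tmul, Algebra.TensorProduct.one_def]; ring
    rwa [e] at this

section

variable (A B S : Type u) [CommRing A] [IsLocalRing A]
    [CommRing B] [IsLocalRing B] [Algebra A B] [IsLocalHom (algebraMap A B)] [Algebra.IsIntegral A B]
    [CommRing S] [IsLocalRing S] [Algebra A S] [IsLocalHom (algebraMap A S)]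
    [Hensel.IsHenselization A S]

omit [IsLocalHom (algebraMap A B)] [Algebra.IsIntegral A B] in
theorem nontrivial_tensor_of_isHenselization : Nontrivial (B ⊗[A] S) := by
  haveI : Module.FaithfullyFlat A S := faithfullyFlat_of_isHenselization (R := A) S
  exact (FaithfulSMul.algebraMap_injective B (B ⊗[A] S)).nontrivial

omit [IsLocalHom (algebraMap A B)] in
theorem isLocalRing_tensor_of_isHenselization : IsLocalRing (B ⊗[A] S) := by
  haveI := nontrivial_tensor_of_isHenselization A B S
  exact isLocalRing_tensor_of_isIntegral A B S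
    (fun s => residue_surjective_of_isHenselization (R := A) S s)

omit [IsLocalRing B] [IsLocalHom (algebraMap A B)] [Algebra.IsIntegral A B] in
theorem isLocalHom_tensor_of_isHenselization : IsLocalHom (algebraMap B (B ⊗[A] S)) := by
  haveI : Module.FaithfullyFlat A S := faithfullyFlat_of_isHenselization (R := A) S
  infer_instance

theorem isHenselization_tensor_of_isIntegral
    [IsLocalRing (B ⊗[A] S)] [IsLocalHom (algebraMap B (B ⊗[A] S))] :
    Hensel.IsHenselization B (B ⊗[A] S) := by
  haveI hS : HenselianLocalRing S := Hensel.IsHenselization.henselian (R := A)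
  haveI : Algebra.IsIntegral S (B ⊗[A] S) := isIntegral_tensor_right A B S
  refine ⟨henselianLocalRing_of_isIntegral S (B ⊗[A] S), ?_⟩
  intro T _ _ f hf
  let φ : A →+* T := f.comp (algebraMap A B)
  haveI : IsLocalHom φ := RingHom.isLocalHom_comp f (algebraMap A B)
  obtain ⟨h, hh, huniq⟩ := Hensel.IsHenselization.universal (R := A) (S := S) T φ ‹_›
  letI : Algebra A T := φ.toAlgebra
  let fA : B →ₐ[A] T := ⟨f, fun a => rfl⟩
  let hA : S →ₐ[A] T := ⟨h, fun a => RingHom.congr_fun hh a⟩
  let g : B ⊗[A] S →ₐ[A] T := Algebra.TensorProduct.productMap fA hA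
  refine ⟨g.toRingHom, ?_, ?_⟩
  · ext b
    simp [g, fA, Algebra.TensorProduct.algebraMap_apply]
  · intro g' hg'
    have h1 : (g'.comp (algebraMap S (B ⊗[A] S))) = h := by
      apply huniq
      ext a
      have : algebraMap S (B ⊗[A] S) (algebraMap A S a) =
          algebraMap B (B ⊗[A] S) (algebraMap A B a) := by
        rw [← IsScalarTower.algebraMap_apply, ← IsScalarTower.algebraMap_apply]
      simp only [RingHom.comp_apply, this, φ]
      exact RingHom.congr_fun hg' _
    refine RingHom.ext fun c => ?_
    induction c using TensorProduct.induction_on with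
    | zero => simp
    | tmul b s =>
      have e : b ⊗ₜ[A] s = algebraMap B (B ⊗[A] S) b * algebraMap S (B ⊗[A] S) s := by
        rw [Algebra.TensorProduct.right_algebraMap_apply, Algebra.TensorProduct.algebraMap_apply,
          Algebra.TensorProduct.tmul_mul_tmul, mul_one, one_mul, Algebra.algebraMap_self,
          RingHom.id_apply]
      have e1 : g' (algebraMap B (B ⊗[A] S) b) = f b := RingHom.congr_fun hg' b
      have e2 : g' (algebraMap S (B ⊗[A] S) s) = h s := RingHom.congr_fun h1 s
      rw [e, map_mul, e1, e2, ← e]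
      simp [g, fA, hA]
    | add x y hx hy => rw [map_add, map_add, hx, hy]

end

end Groth.Agent.H8.Hens
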