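import Mathlib
import Groth.Agent.Lib.Helper8.Hens.HenselianFinite

/-!
# Quasi-finite algebras over henselian local rings split (helper8)

* `finite_quotient_one_sub_iff`, `finite_quotient_one_sub_join`, `exists_idempotent_join`:
  idempotents `x` with `S/(1-x)` module-finite are closed under finite joins.
* `exists_idempotent_of_quasiFiniteAt`: if `S` is of finite type over the henselian local ring `R`
  and quasi-finite at the prime `q` over `m_R`, there is an idempotent `e ∉ q` with `S/(1-e)` finite
  over `R` and `q` the only prime over `m_R` not containing `e`.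
* `exists_idempotent_of_quasiFinite`: Stacks 04GG: quasi-finite = finite × (empty closed fibre).
* `quasiFiniteAt_comap_mk_of_idempotent`: quasi-finiteness at a prime passes from `S/(e)` to `S`.
* `exists_idempotent_of_finiteType`: finite type = finite × (nowhere quasi-finite on the closed
  fibre).
-/

universe u
open IsLocalRing TensorProduct

namespace Groth.Agent.H8.Hens

section Idem

variable (R : Type*) {S : Type*} [CommRing R] [CommRing S] [Algebra R S]

/-- For an idempotent `x`, `S/(1-x)` is a finite `R`-module iff the ideal `xS` is f.g. over `R`. -/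
theorem finite_quotient_one_sub_iff {x : S} (hx : IsIdempotentElem x) :
    Module.Finite R (S ⧸ Ideal.span {1 - x}) ↔ ((Ideal.span {x}).restrictScalars R).FG := by
  constructor
  · intro h
    have hker : Ideal.span {1 - x} ≤ LinearMap.ker (LinearMap.mulLeft S x) := by
      rw [Ideal.span_le, Set.singleton_subset_iff]
      show x * (1 - x) = 0
      rw [mul_sub, mul_one, hx.eq, sub_self]
    let g : (S ⧸ Ideal.span {1 - x}) →ₗ[R] S :=
      (Submodule.liftQ _ (LinearMap.mulLeft S x) hker).restrictScalars R
    have hg : ∀ s : S, g (Ideal.Quotient.mk _ s) = x * s := fun s => rfl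
    have : (Ideal.span {x}).restrictScalars R = Submodule.map g ⊤ := by
      ext y
      simp only [Submodule.restrictScalars_mem, Submodule.mem_map, Submodule.mem_top, true_and]
      constructor
      · intro hy
        obtain ⟨s, rfl⟩ := Ideal.mem_span_singleton'.mp hy
        exact ⟨Ideal.Quotient.mk _ s, by rw [hg, mul_comm]⟩
      · rintro ⟨t, rfl⟩
        obtain ⟨s, rfl⟩ := Ideal.Quotient.mk_surjective t
        rw [hg]
        exact Ideal.mul_mem_right _ _ (Ideal.mem_span_singleton_self x)
    rw [this]
    exact Submodule.FG.map g Module.Finite.fg_top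
  · intro h
    haveI : Module.Finite R ↥((Ideal.span {x}).restrictScalars R) := Module.Finite.iff_fg.mpr h
    let f : ↥((Ideal.span {x}).restrictScalars R) →ₗ[R] (S ⧸ Ideal.span {1 - x}) :=
      (Ideal.Quotient.mkₐ R (Ideal.span {1 - x})).toLinearMap.comp (Submodule.subtype _)
    refine Module.Finite.of_surjective f ?_
    intro t
    obtain ⟨s, rfl⟩ := Ideal.Quotient.mk_surjective t
    refine ⟨⟨x * s, Ideal.mul_mem_right _ _ (Ideal.mem_span_singleton_self x)⟩, ?_⟩
    show Ideal.Quotient.mk _ (x * s) = Ideal.Quotient.mk _ s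
    rw [Ideal.Quotient.eq, Ideal.mem_span_singleton']
    exact ⟨-s, by ring⟩

/-- The join of two idempotents with finite corners has a finite corner. -/
theorem finite_quotient_one_sub_join {x y : S} (hx : IsIdempotentElem x) (hy : IsIdempotentElem y)
    (hxf : Module.Finite R (S ⧸ Ideal.span {1 - x}))
    (hyf : Module.Finite R (S ⧸ Ideal.span {1 - y})) :
    IsIdempotentElem (x + y - x * y) ∧ Module.Finite R (S ⧸ Ideal.span {1 - (x + y - x * y)}) := by
  have hid : IsIdempotentElem (x + y - x * y) := by
    have hx' : x * x = x := hx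
    have hy' : y * y = y := hy
    show (x + y - x * y) * (x + y - x * y) = x + y - x * y
    have : (x + y - x * y) * (x + y - x * y) =
        x * x + y * y + 2 * (x * y) - 2 * (x * x) * y - 2 * x * (y * y) + (x * x) * (y * y) := by
      ring
    rw [this, hx', hy']; ring
  refine ⟨hid, ?_⟩
  rw [finite_quotient_one_sub_iff R hid]
  rw [finite_quotient_one_sub_iff R hx] at hxf
  rw [finite_quotient_one_sub_iff R hy] at hyf
  have hx' : x * x = x := hx
  have hy' : y * y = y := hy
  have : Ideal.span {x + y - x * y} = Ideal.span {x} ⊔ Ideal.span {y} := by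
    apply le_antisymm
    · rw [Ideal.span_le, Set.singleton_subset_iff]
      have : x + y - x * y = x * (1 - y) + y := by ring
      rw [this]
      exact Submodule.add_mem_sup (Ideal.mul_mem_right _ _ (Ideal.mem_span_singleton_self x))
        (Ideal.mem_span_singleton_self y)
    · rw [sup_le_iff, Ideal.span_le, Ideal.span_le, Set.singleton_subset_iff,
        Set.singleton_subset_iff]
      constructor
      · show x ∈ Ideal.span {x + y - x * y}
        rw [Ideal.mem_span_singleton']
        exact ⟨x, by rw [mul_sub, mul_add, hx', ← mul_assoc, hx']; ring⟩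
      · show y ∈ Ideal.span {x + y - x * y}
        rw [Ideal.mem_span_singleton']
        refine ⟨y, ?_⟩
        have : y * (x + y - x * y) = y * x + y * y - x * (y * y) := by ring
        rw [this, hy']; ring
  rw [this]
  have h2 : (Ideal.span {x} ⊔ Ideal.span {y} : Ideal S).restrictScalars R =
      (Ideal.span {x}).restrictScalars R ⊔ (Ideal.span {y}).restrictScalars R := by
    ext z
    simp [Submodule.mem_sup]
  rw [h2]
  exact hxf.sup hyf

/-- Finite joins of idempotents with finite corners. -/
theorem exists_idempotent_join [DecidableEq S] (F : Finset S)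
    (hF : ∀ e ∈ F, IsIdempotentElem e ∧ Module.Finite R (S ⧸ Ideal.span {1 - e})) :
    ∃ x : S, IsIdempotentElem x ∧ Module.Finite R (S ⧸ Ideal.span {1 - x}) ∧
      ∀ e ∈ F, e * x = e := by
  induction F using Finset.induction_on with
  | empty =>
    refine ⟨0, IsIdempotentElem.zero, ?_, by simp⟩
    rw [finite_quotient_one_sub_iff R IsIdempotentElem.zero]
    have : Ideal.span {(0 : S)} = ⊥ := Ideal.span_singleton_eq_bot.mpr rfl
    rw [this, Submodule.restrictScalars_bot]
    exact Submodule.fg_bot
  | insert a F _ ih =>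
    obtain ⟨x, hx, hxf, hxF⟩ := ih (fun e he => hF e (Finset.mem_insert_of_mem he))
    obtain ⟨ha, haf⟩ := hF a (Finset.mem_insert_self a F)
    obtain ⟨h1, h2⟩ := finite_quotient_one_sub_join R ha hx haf hxf
    refine ⟨a + x - a * x, h1, h2, ?_⟩
    have ha' : a * a = a := ha
    have hx' : x * x = x := hx
    intro e he
    rcases Finset.mem_insert.mp he with rfl | he
    · rw [mul_sub, mul_add, ← mul_assoc, ha']; ring
    · have hex := hxF e he
      calc e * (a + x - a * x) = (e * x) * (a + x - a * x) := by rw [hex]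
        _ = e * (x * a + x * x - a * (x * x)) := by ring
        _ = e * x := by rw [hx']; ring
        _ = e := hex

end Idem

/-- If `e ∉ q` for every prime `q` of `S` over the maximal ideal `m` of the local ring `R`, then
`m` generates the unit ideal in `S/(e)`. -/
theorem map_maximalIdeal_quotient_eq_top {R S : Type*} [CommRing R] [IsLocalRing R] [CommRing S]
    [Algebra R S] (e : S)
    (he : ∀ q : Ideal S, q.IsPrime → q.LiesOver (maximalIdeal R) → e ∉ q) :
    Ideal.map (algebraMap R (S ⧸ Ideal.span ({e} : Set S))) (maximalIdeal R) = ⊤ := by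
  by_contra hne
  obtain ⟨M, hM, hle⟩ := Ideal.exists_le_maximal _ hne
  let q : Ideal S := M.comap (Ideal.Quotient.mk (Ideal.span ({e} : Set S)))
  haveI : q.IsPrime := Ideal.comap_isPrime _ M
  have hq : q.LiesOver (maximalIdeal R) := by
    constructor
    apply le_antisymm
    · rw [Ideal.map_le_iff_le_comap] at hle
      exact hle
    · exact IsLocalRing.le_maximalIdeal (Ideal.IsPrime.ne_top inferInstance)
  apply he q inferInstance hq
  show Ideal.Quotient.mk _ e ∈ M
  rw [Ideal.Quotient.eq_zero_iff_mem.mpr (Ideal.mem_span_singleton_self e)]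
  exact M.zero_mem

/-- Key lemma (Stacks 04GG (10)-like): a finite type algebra over a henselian local ring which is
quasi-finite at a prime `q` over the maximal ideal splits off a finite factor containing only
`q` in its closed fibre. -/
theorem exists_idempotent_of_quasiFiniteAt (R : Type u) [CommRing R] [HenselianLocalRing R]
    (S : Type u) [CommRing S] [Algebra R S] [Algebra.FiniteType R S] (q : Ideal S) [q.IsPrime]
    [q.LiesOver (maximalIdeal R)] [Algebra.QuasiFiniteAt R q] :
    ∃ e : S, IsIdempotentElem e ∧ e ∉ q ∧ Module.Finite R (S ⧸ Ideal.span {1 - e}) ∧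
      ∀ q' : Ideal S, q'.IsPrime → q'.LiesOver (maximalIdeal R) → e ∉ q' → q' = q := by
  classical
  obtain ⟨R', _, _, _, P, _, _, e₀, he₀, P', _, _, hP'q, he₀P', hbij, hfin, huniq⟩ :=
    Algebra.exists_etale_isIdempotentElem_forall_liesOver_eq (maximalIdeal R) q
  obtain ⟨σ, hσ⟩ := exists_section_of_henselian R' P hbij
  let ψ : R' ⊗[R] S →ₐ[R] S :=
    Algebra.TensorProduct.productMap ((Algebra.ofId R S).comp σ) (AlgHom.id R S)
  have hψ : ∀ (r' : R') (s : S), ψ (r' ⊗ₜ s) = algebraMap R S (σ r') * s := by
    intro r' s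
    simp [ψ, Algebra.ofId_apply]
  have hψR : ψ.comp Algebra.TensorProduct.includeRight = AlgHom.id R S := by
    ext s; simp [ψ]
  -- pulling back primes over `m` along `ψ`
  have hover : ∀ q' : Ideal S, q'.IsPrime → q'.LiesOver (maximalIdeal R) →
      (q'.comap ψ.toRingHom).LiesOver P := by
    intro q' _ hq'
    constructor
    rw [Ideal.under, Ideal.comap_comap, ← hσ]
    have : ψ.toRingHom.comp (algebraMap R' (R' ⊗[R] S)) = (algebraMap R S).comp σ.toRingHom := by
      ext r'
      simp [Algebra.TensorProduct.algebraMap_apply, hψ]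
    rw [this, ← Ideal.comap_comap, ← Ideal.under, ← hq'.over]
  have hinc : ∀ q' : Ideal S,
      (q'.comap ψ.toRingHom).comap Algebra.TensorProduct.includeRight.toRingHom = q' := by
    intro q'
    rw [Ideal.comap_comap]
    have : ψ.toRingHom.comp Algebra.TensorProduct.includeRight.toRingHom = RingHom.id S := by
      ext s; exact DFunLike.congr_fun hψR s
    rw [this, Ideal.comap_id]
  set e : S := ψ e₀ with he
  refine ⟨e, he₀.map ψ, ?_, ?_, ?_⟩
  · -- e ∉ q
    haveI := hover q inferInstance inferInstance
    have : q.comap ψ.toRingHom = P' :=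
      Ideal.eq_of_comap_eq_comap_of_bijective_residueFieldMap hbij _ _
        ((hinc q).trans hP'q.symm)
    intro hmem
    apply he₀P'
    rw [← this]
    exact hmem
  · -- finiteness
    let T := S ⧸ Ideal.span {1 - e}
    let π : S →ₐ[R] T := Ideal.Quotient.mkₐ R _
    have hπe : π e = 1 := by
      have : π (1 - e) = 0 := Ideal.Quotient.eq_zero_iff_mem.mpr (Ideal.mem_span_singleton_self _)
      rw [map_sub, map_one, sub_eq_zero] at this
      exact this.symm
    let φ : R' ⊗[R] S →+* T := (π.comp ψ).toRingHom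
    have hu : IsUnit (φ e₀) := by
      have : φ e₀ = 1 := hπe
      rw [this]; exact isUnit_one
    let Ψ : Localization.Away e₀ →+* T := IsLocalization.Away.lift e₀ hu
    have hΨ : ∀ x, Ψ (algebraMap _ _ x) = φ x := fun x => IsLocalization.Away.lift_eq e₀ hu x
    have hsurj : Function.Surjective Ψ := by
      intro t
      obtain ⟨s, rfl⟩ := Ideal.Quotient.mk_surjective t
      refine ⟨algebraMap _ _ ((1 : R') ⊗ₜ[R] s), ?_⟩
      rw [hΨ]
      show π (ψ ((1 : R') ⊗ₜ[R] s)) = _
      rw [hψ, map_one, map_one, one_mul]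
      rfl
    have hΨR' : ∀ (r' : R') (x : Localization.Away e₀), Ψ (r' • x) = σ r' • Ψ x := by
      intro r' x
      rw [Algebra.smul_def, map_mul, IsScalarTower.algebraMap_apply R' (R' ⊗[R] S), hΨ,
        Algebra.smul_def]
      congr 1
      show π (ψ (algebraMap R' (R' ⊗[R] S) r')) = _
      rw [Algebra.TensorProduct.algebraMap_apply, Algebra.algebraMap_self, RingHom.id_apply, hψ,
        mul_one]
      exact π.commutes _
    obtain ⟨G, hG⟩ := Module.finite_def.mp hfin
    refine ⟨⟨G.image Ψ, ?_⟩⟩
    rw [eq_top_iff]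
    rintro t -
    obtain ⟨x, rfl⟩ := hsurj t
    have hx : x ∈ Submodule.span R' (G : Set (Localization.Away e₀)) := by rw [hG]; trivial
    induction hx using Submodule.span_induction with
    | mem x hx =>
      exact Submodule.subset_span (by simpa using ⟨x, hx, rfl⟩)
    | zero => rw [map_zero]; exact Submodule.zero_mem _
    | add x y _ _ hx hy => rw [map_add]; exact Submodule.add_mem _ hx hy
    | smul r' x _ hx => rw [hΨR']; exact Submodule.smul_mem _ _ hx
  · intro q' hq' hq'm heq'
    haveI := hover q' hq' hq'm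
    have h1 : q'.comap ψ.toRingHom = P' :=
      huniq _ inferInstance inferInstance (fun h => heq' h)
    rw [← hinc q', h1, hP'q]

/-- Stacks 04GG (10)/(11): a quasi-finite algebra of finite type over a henselian local ring is a
product of a finite algebra and an algebra with empty closed fibre. -/
theorem exists_idempotent_of_quasiFinite (R : Type u) [CommRing R] [HenselianLocalRing R]
    (S : Type u) [CommRing S] [Algebra R S] [Algebra.FiniteType R S] [Algebra.QuasiFinite R S] :
    ∃ e : S, IsIdempotentElem e ∧ Module.Finite R (S ⧸ Ideal.span ({1 - e} : Set S)) ∧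
      Ideal.map (algebraMap R (S ⧸ Ideal.span ({e} : Set S))) (IsLocalRing.maximalIdeal R) = ⊤ := by
  classical
  have hfin := Algebra.QuasiFinite.finite_primesOver (S := S) (maximalIdeal R)
  have hch : ∀ q : Ideal S, q ∈ (maximalIdeal R).primesOver S →
      ∃ e : S, IsIdempotentElem e ∧ e ∉ q ∧ Module.Finite R (S ⧸ Ideal.span {1 - e}) := by
    rintro q ⟨hq, hqm⟩
    obtain ⟨e, h1, h2, h3, -⟩ := exists_idempotent_of_quasiFiniteAt R S q
    exact ⟨e, h1, h2, h3⟩
  choose! ε hε using hch
  obtain ⟨x, hx, hxf, hxF⟩ := exists_idempotent_join R (hfin.toFinset.image ε) (by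
    intro e he
    obtain ⟨q, hq, rfl⟩ := Finset.mem_image.mp he
    exact ⟨(hε q (hfin.mem_toFinset.mp hq)).1, (hε q (hfin.mem_toFinset.mp hq)).2.2⟩)
  refine ⟨x, hx, hxf, map_maximalIdeal_quotient_eq_top x ?_⟩
  intro q hq hqm hxq
  have hmem : q ∈ (maximalIdeal R).primesOver S := ⟨hq, hqm⟩
  apply (hε q hmem).2.1
  rw [← hxF (ε q) (Finset.mem_image_of_mem _ (hfin.mem_toFinset.mpr hmem))]
  exact Ideal.mul_mem_left _ _ hxq

/-- Quasi-finiteness at a prime of `S/(e)`, `e` idempotent, implies quasi-finiteness at the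
corresponding prime of `S`. -/
theorem quasiFiniteAt_comap_mk_of_idempotent {R S : Type*} [CommRing R] [CommRing S] [Algebra R S]
    {e : S} (he : IsIdempotentElem e) (Q : Ideal (S ⧸ Ideal.span ({e} : Set S))) [Q.IsPrime]
    [Algebra.QuasiFiniteAt R Q] :
    haveI : (Q.comap (Ideal.Quotient.mk (Ideal.span ({e} : Set S)))).IsPrime :=
      Ideal.comap_isPrime _ Q
    Algebra.QuasiFiniteAt R (Q.comap (Ideal.Quotient.mk (Ideal.span ({e} : Set S)))) := by
  set q : Ideal S := Q.comap (Ideal.Quotient.mk (Ideal.span ({e} : Set S))) with hq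
  haveI : q.IsPrime := Ideal.comap_isPrime _ Q
  show Algebra.QuasiFinite R (Localization.AtPrime q)
  have heq : e ∈ q := by
    show Ideal.Quotient.mk _ e ∈ Q
    rw [Ideal.Quotient.eq_zero_iff_mem.mpr (Ideal.mem_span_singleton_self e)]
    exact Q.zero_mem
  have h1e : 1 - e ∉ q := by
    intro h
    have : (1 : S) ∈ q := by
      have := q.add_mem h heq
      rwa [sub_add_cancel] at this
    exact (Ideal.IsPrime.ne_top ‹q.IsPrime›) ((Ideal.eq_top_iff_one _).mpr this)
  have hzero : algebraMap S (Localization.AtPrime q) e = 0 := by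
    rw [IsLocalization.map_eq_zero_iff q.primeCompl]
    refine ⟨⟨1 - e, h1e⟩, ?_⟩
    show (1 - e) * e = 0
    rw [sub_mul, one_mul, he.eq, sub_self]
  let g₀ : S ⧸ Ideal.span ({e} : Set S) →ₐ[R] Localization.AtPrime q :=
    Ideal.Quotient.liftₐ (Ideal.span {e}) (IsScalarTower.toAlgHom R S (Localization.AtPrime q)) (by
      intro a ha
      obtain ⟨b, rfl⟩ := Ideal.mem_span_singleton'.mp ha
      simp [hzero])
  have hg₀ : ∀ s : S, g₀ (Ideal.Quotient.mk _ s) = algebraMap S (Localization.AtPrime q) s :=
    fun s => rfl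
  let g : Localization.AtPrime Q →ₐ[R] Localization.AtPrime q :=
    IsLocalization.liftAlgHom (M := Q.primeCompl) (f := g₀) (by
      rintro ⟨y, hy⟩
      obtain ⟨s, rfl⟩ := Ideal.Quotient.mk_surjective y
      rw [hg₀]
      exact IsLocalization.map_units (M := q.primeCompl) _ ⟨s, hy⟩)
  have hg : ∀ y, g (algebraMap _ _ y) = g₀ y := fun y => by
    simp [g]
  refine Algebra.QuasiFinite.of_forall_exists_mul_mem_range g fun x => ?_
  obtain ⟨a, ⟨s, hs⟩, rfl⟩ := IsLocalization.exists_mk'_eq q.primeCompl x
  refine ⟨algebraMap _ _ (Ideal.Quotient.mk (Ideal.span ({e} : Set S)) s), ?_, ?_⟩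
  · rw [hg, hg₀]
    exact IsLocalization.map_units (M := q.primeCompl) _ ⟨s, hs⟩
  · rw [hg, hg₀, IsLocalization.mk'_spec_mk]
    exact ⟨algebraMap _ _ (Ideal.Quotient.mk (Ideal.span ({e} : Set S)) a),
      (hg _).trans (hg₀ a)⟩

/-- Stacks 04GG (12)/(13): over a henselian local ring, a finite type algebra splits off a finite
factor containing all primes of the closed fibre at which it is quasi-finite. -/
theorem exists_idempotent_of_finiteType (R : Type u) [CommRing R] [HenselianLocalRing R]
    (S : Type u) [CommRing S] [Algebra R S] [Algebra.FiniteType R S] :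
    ∃ e : S, IsIdempotentElem e ∧ Module.Finite R (S ⧸ Ideal.span ({1 - e} : Set S)) ∧
      ∀ (q : Ideal (S ⧸ Ideal.span ({e} : Set S))) [q.IsPrime],
        q.LiesOver (IsLocalRing.maximalIdeal R) → ¬ Algebra.QuasiFiniteAt R q := by
  classical
  set mS : Ideal S := (maximalIdeal R).map (algebraMap R S) with hmS
  haveI : IsNoetherianRing (S ⧸ mS) := by
    haveI : Algebra.FiniteType R (S ⧸ mS) :=
      Algebra.FiniteType.of_surjective (Ideal.Quotient.mkₐ R mS) (Ideal.Quotient.mkₐ_surjective R mS)
    haveI : Algebra.FiniteType (R ⧸ maximalIdeal R) (S ⧸ mS) :=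
      Algebra.FiniteType.of_restrictScalars_finiteType R _ _
    haveI : IsNoetherianRing (R ⧸ maximalIdeal R) := by
      letI := Ideal.Quotient.field (maximalIdeal R)
      infer_instance
    exact Algebra.FiniteType.isNoetherianRing (R ⧸ maximalIdeal R) (S ⧸ mS)
  let E : Set S := {e | IsIdempotentElem e ∧ Module.Finite R (S ⧸ Ideal.span {1 - e})}
  let J : Ideal (S ⧸ mS) := Ideal.span (Ideal.Quotient.mk mS '' E)
  have hJ : J.FG := IsNoetherian.noetherian J
  obtain ⟨s', hs'E, hs'⟩ := (Submodule.fg_span_iff_fg_span_finset_subset _).mp hJ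
  obtain ⟨F, hFE, rfl⟩ := Finset.subset_set_image_iff.mp hs'E
  obtain ⟨x, hx, hxf, hxF⟩ := exists_idempotent_join R F (fun e he => hFE he)
  have key : ∀ e ∈ E, ∃ t : S, e - x * t ∈ mS := by
    intro e he
    have hmem : Ideal.Quotient.mk mS e ∈ J := Ideal.subset_span ⟨e, he, rfl⟩
    have hle : J ≤ Ideal.span {Ideal.Quotient.mk mS x} := by
      show Submodule.span _ _ ≤ _
      rw [hs', Submodule.span_le]
      intro y hy
      obtain ⟨e', he', rfl⟩ := Finset.mem_image.mp (Finset.mem_coe.mp hy)
      rw [SetLike.mem_coe, Ideal.mem_span_singleton']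
      exact ⟨Ideal.Quotient.mk mS e', by rw [← map_mul, hxF e' he']⟩
    obtain ⟨t', ht⟩ := Ideal.mem_span_singleton'.mp (hle hmem)
    obtain ⟨t, rfl⟩ := Ideal.Quotient.mk_surjective t'
    refine ⟨t, ?_⟩
    rw [← Ideal.Quotient.eq, map_mul, ← ht, mul_comm]
  refine ⟨x, hx, hxf, ?_⟩
  intro Q hQ hQm hQf
  set q := Q.comap (Ideal.Quotient.mk (Ideal.span ({x} : Set S))) with hq
  haveI : q.IsPrime := Ideal.comap_isPrime _ Q
  haveI : Algebra.QuasiFiniteAt R q := quasiFiniteAt_comap_mk_of_idempotent hx Q
  haveI hqm : q.LiesOver (maximalIdeal R) := ⟨by rw [hQm.over]; rfl⟩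
  obtain ⟨e, he1, he2, he3, -⟩ := exists_idempotent_of_quasiFiniteAt R S q
  obtain ⟨t, ht⟩ := key e ⟨he1, he3⟩
  apply he2
  have hxq : x ∈ q := by
    show Ideal.Quotient.mk _ x ∈ Q
    rw [Ideal.Quotient.eq_zero_iff_mem.mpr (Ideal.mem_span_singleton_self x)]
    exact Q.zero_mem
  have hmSq : mS ≤ q := by
    rw [Ideal.map_le_iff_le_comap]
    exact hqm.over.le
  have := q.add_mem (hmSq ht) (Ideal.mul_mem_right t _ hxq)
  rwa [sub_add_cancel] at this

end Groth.Agent.H8.Hens
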