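import Mathlib
import Groth.Agent.Lib.Helper8.HensPair.EtaleLift
import Groth.Agent.Lib.Helper8.HensPair.Integral
import Groth.Agent.Lib.Helper8.Hens.QuasiFiniteSplit

universe u
open Polynomial IsLocalRing

namespace Groth.Agent.H8.S5035

/-- If for the finite free algebra `B = R[X]/(f)` the localization at the rational point `a₀` of
the closed fibre is a finite `R`-module, then the simple root `a₀` lifts. -/
theorem exists_root_of_finite_localization (R : Type u) [CommRing R] [IsLocalRing R]
    (f : R[X]) (hf : f.Monic) (a₀ : R) (h₁ : f.eval a₀ ∈ maximalIdeal R)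
    (h₂ : IsUnit (f.derivative.eval a₀))
    (H : ∀ (q : Ideal (AdjoinRoot f)) [q.IsPrime], q.LiesOver (maximalIdeal R) →
      Module.Finite R (Localization.AtPrime q)) :
    ∃ a : R, f.IsRoot a ∧ a - a₀ ∈ maximalIdeal R := by
  let B := AdjoinRoot f
  let t : B := AdjoinRoot.root f
  have hft : aeval t f = 0 := AdjoinRoot.aeval_eq f ▸ AdjoinRoot.mk_self
  have hdiv : ∀ p : R[X], ∃ q : R[X], p = (X - C a₀) * q + C (p.eval a₀) := by
    intro p
    refine ⟨p /ₘ (X - C a₀), ?_⟩
    have := modByMonic_add_div p (X - C a₀)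
    rw [modByMonic_X_sub_C_eq_C_eval] at this
    linear_combination -this
  obtain ⟨h, hfh⟩ := hdiv f
  have hder : f.derivative.eval a₀ = h.eval a₀ := by
    conv_lhs => rw [hfh]
    simp
  rw [hder] at h₂
  haveI : Module.Finite R B := (AdjoinRoot.powerBasis' hf).finite
  haveI : Module.Free R B := Module.Free.of_basis (AdjoinRoot.powerBasis' hf).basis
  let y : B := aeval t h
  let k := ResidueField R
  -- the `k`-point
  let χB : B →ₐ[R] k := AdjoinRoot.liftAlgHom f (Algebra.ofId R k) (residue R a₀) (by
      show eval₂ (algebraMap R k) (algebraMap R k a₀) f = 0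
      rw [Polynomial.eval₂_at_apply]
      exact (residue_eq_zero_iff _).mpr h₁)
  have hχBt : χB t = residue R a₀ := AdjoinRoot.liftAlgHom_root f _ _ _
  have hχBp : ∀ p : R[X], χB (aeval t p) = residue R (p.eval a₀) := by
    intro p
    rw [← aeval_algHom_apply, hχBt]
    show aeval (algebraMap R k a₀) p = algebraMap R k (p.eval a₀)
    rw [aeval_algebraMap_apply, Polynomial.coe_aeval_eq_eval]
  let q : Ideal B := RingHom.ker χB.toRingHom
  haveI : q.IsPrime := RingHom.ker_isPrime _
  have hq : q.LiesOver (maximalIdeal R) := by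
    refine ⟨?_⟩
    ext x
    rw [Ideal.under, Ideal.mem_comap, RingHom.mem_ker]
    show _ ↔ χB (algebraMap R B x) = 0
    rw [χB.commutes]
    exact (residue_eq_zero_iff x).symm
  have hmemq : ∀ p : R[X], aeval t p ∈ q ↔ p.eval a₀ ∈ maximalIdeal R := by
    intro p
    rw [RingHom.mem_ker]
    show χB (aeval t p) = 0 ↔ _
    rw [hχBp]
    exact residue_eq_zero_iff _
  let L := Localization.AtPrime q
  haveI : Module.Finite R L := H q hq
  haveI : Module.Flat R L := Module.Flat.trans R B L
  let χ₁ : L →ₐ[R] k := IsLocalization.liftAlgHom (M := q.primeCompl) (f := χB) (by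
    rintro ⟨s, hs⟩
    exact isUnit_iff_ne_zero.mpr (fun h0 => hs (RingHom.mem_ker.mpr h0)))
  have hyq : y ∉ q := by
    rw [hmemq]
    exact fun hmem => (IsLocalRing.notMem_maximalIdeal.mpr h₂) hmem
  have hyunit : IsUnit (algebraMap B L y) :=
    IsLocalization.map_units L (⟨y, hyq⟩ : q.primeCompl)
  set mL := (maximalIdeal R).map (algebraMap R L) with hmL
  have hta : algebraMap B L t - algebraMap R L a₀ ∈ mL := by
    have h1 : (t - algebraMap R B a₀) * y = -algebraMap R B (f.eval a₀) := by
      have := congr_arg (aeval t) hfh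
      rw [hft, map_add, map_mul, map_sub, aeval_X, aeval_C, aeval_C] at this
      linear_combination -this
    have h2 := congr_arg (algebraMap B L) h1
    rw [map_mul, map_sub, map_neg, ← IsScalarTower.algebraMap_apply,
      ← IsScalarTower.algebraMap_apply] at h2
    obtain ⟨v, hv⟩ := hyunit.exists_right_inv
    have h3 : algebraMap B L t - algebraMap R L a₀ = -algebraMap R L (f.eval a₀) * v := by
      rw [← h2, mul_assoc, hv, mul_one]
    rw [h3]
    exact Ideal.mul_mem_right _ _ (neg_mem (Ideal.mem_map_of_mem _ h₁))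
  have hB : ∀ p : R[X], algebraMap B L (aeval t p) - algebraMap R L (p.eval a₀) ∈ mL := by
    intro p
    obtain ⟨q', hq'⟩ := hdiv p
    have : aeval t p = (t - algebraMap R B a₀) * aeval t q' + algebraMap R B (p.eval a₀) := by
      conv_lhs => rw [hq']
      rw [map_add, map_mul, map_sub, aeval_X, aeval_C, aeval_C]
    rw [this, map_add, map_mul, map_sub, ← IsScalarTower.algebraMap_apply,
      ← IsScalarTower.algebraMap_apply, add_sub_cancel_right]
    exact Ideal.mul_mem_right _ _ hta
  have key : ∀ s : L, ∃ r : R, s - algebraMap R L r ∈ mL := by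
    intro s
    obtain ⟨⟨b, ⟨c, hc⟩⟩, hs⟩ := IsLocalization.surj q.primeCompl s
    obtain ⟨p, rfl⟩ := AdjoinRoot.mk_surjective b
    obtain ⟨pc, rfl⟩ := AdjoinRoot.mk_surjective c
    have hb := hB p
    have hcn := hB pc
    rw [AdjoinRoot.aeval_eq] at hb hcn
    have hcu : IsUnit (pc.eval a₀) := by
      rw [← IsLocalRing.notMem_maximalIdeal, ← hmemq, AdjoinRoot.aeval_eq]
      exact hc
    obtain ⟨v, hv⟩ := hcu.exists_right_inv
    refine ⟨p.eval a₀ * v, ?_⟩
    have hs' : s * algebraMap B L (AdjoinRoot.mk f pc) = algebraMap B L (AdjoinRoot.mk f p) := hs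
    have : s - algebraMap R L (p.eval a₀ * v) =
        algebraMap R L v * ((algebraMap B L (AdjoinRoot.mk f p) - algebraMap R L (p.eval a₀)) -
          s * (algebraMap B L (AdjoinRoot.mk f pc) - algebraMap R L (pc.eval a₀))) := by
      rw [← hs', map_mul]
      have hv' : algebraMap R L (pc.eval a₀) * algebraMap R L v = 1 := by
        rw [← map_mul, hv, map_one]
      linear_combination (-s) * hv'
    rw [this]
    exact Ideal.mul_mem_left _ _ (Ideal.sub_mem _ hb (Ideal.mul_mem_left _ _ hcn))
  have hsurj : Function.Surjective (algebraMap R L) := by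
    have hN : (⊤ : Submodule R L) ≤ LinearMap.range (Algebra.linearMap R L) := by
      apply Submodule.le_of_le_smul_of_le_jacobson_bot Module.Finite.fg_top
        (IsLocalRing.jacobson_eq_maximalIdeal ⊥ bot_ne_top).ge
      rintro s -
      obtain ⟨r, hr⟩ := key s
      have : s = algebraMap R L r + (s - algebraMap R L r) := by ring
      rw [this]
      refine Submodule.add_mem_sup ⟨r, rfl⟩ ?_
      rw [Ideal.smul_top_eq_map]
      exact hr
    intro x
    exact hN (Submodule.mem_top (x := x))
  have hker : RingHom.ker (algebraMap R L) ≤ Ideal.jacobson ⊥ := by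
    rw [IsLocalRing.jacobson_eq_maximalIdeal ⊥ bot_ne_top]
    intro x hx
    have : χ₁ (algebraMap R L x) = 0 := by rw [RingHom.mem_ker.mp hx, map_zero]
    rw [χ₁.commutes] at this
    exact (residue_eq_zero_iff x).mp this
  have hbij := HensPair.bijective_algebraMap_of_flat_of_surjective hsurj hker
  let E : R ≃ₐ[R] L := AlgEquiv.ofBijective (Algebra.ofId R L) hbij
  let ρ : B →ₐ[R] R := (E.symm : L →ₐ[R] R).comp (IsScalarTower.toAlgHom R B L)
  have hfa : f.eval (ρ t) = 0 := by
    rw [← Polynomial.coe_aeval_eq_eval, aeval_algHom_apply, hft, map_zero]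
  have hha : IsUnit (h.eval (ρ t)) := by
    rw [← Polynomial.coe_aeval_eq_eval, aeval_algHom_apply]
    show IsUnit (E.symm (algebraMap B L y))
    exact hyunit.map E.symm
  refine ⟨ρ t, hfa, ?_⟩
  have h4 : (ρ t - a₀) * h.eval (ρ t) = -f.eval a₀ := by
    have := congr_arg (Polynomial.eval (ρ t)) hfh
    rw [hfa, eval_add, eval_mul, eval_sub, eval_X, eval_C, eval_C] at this
    linear_combination -this
  obtain ⟨v, hv⟩ := hha.exists_right_inv
  have h5 : ρ t - a₀ = -f.eval a₀ * v := by
    rw [← h4, mul_assoc, hv, mul_one]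
  rw [h5]
  exact Ideal.mul_mem_right _ _ (neg_mem h₁)

theorem finite_localization_of_quasiFiniteAt (R : Type u) [CommRing R] [HenselianLocalRing R]
    (S : Type u) [CommRing S] [Algebra R S] [Algebra.FiniteType R S] (q : Ideal S) [q.IsPrime]
    [q.LiesOver (maximalIdeal R)] [Algebra.QuasiFiniteAt R q] :
    Module.Finite R (Localization.AtPrime q) := by
  obtain ⟨e, he, heq, hfin, huniq⟩ := Hens.exists_idempotent_of_quasiFiniteAt R S q
  let T := S ⧸ Ideal.span ({1 - e} : Set S)
  let mk : S →ₐ[R] T := Ideal.Quotient.mkₐ R _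
  have hmksurj : Function.Surjective mk := Ideal.Quotient.mkₐ_surjective R _
  haveI : Module.Finite R T := hfin
  have h1e : 1 - e ∈ q := by
    have : e * (1 - e) ∈ q := by
      rw [mul_sub, mul_one, he.eq, sub_self]; exact q.zero_mem
    exact (‹q.IsPrime›.mem_or_mem this).resolve_left heq
  have hkerle : Ideal.span ({1 - e} : Set S) ≤ q := by
    rw [Ideal.span_le, Set.singleton_subset_iff]; exact h1e
  -- every maximal ideal of `T` pulls back to `q`
  have hmax : ∀ M : Ideal T, M.IsMaximal → M.comap mk.toRingHom = q := by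
    intro M hM
    haveI : Algebra.IsIntegral R T := Algebra.IsIntegral.of_finite R T
    have hMm : M.comap (algebraMap R T) = maximalIdeal R := by
      haveI := Ideal.isMaximal_comap_of_isIntegral_of_isMaximal (R := R) M
      exact IsLocalRing.eq_maximalIdeal inferInstance
    apply huniq _ (Ideal.comap_isPrime _ _)
    · refine ⟨?_⟩
      rw [Ideal.under, Ideal.comap_comap, ← hMm]
      congr 1
    · intro heM
      have h1 : (1 - e) ∈ M.comap mk.toRingHom := by
        rw [Ideal.mem_comap]
        show mk (1 - e) ∈ M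
        have : mk (1 - e) = 0 := Ideal.Quotient.eq_zero_iff_mem.mpr (Ideal.mem_span_singleton_self _)
        rw [this]; exact M.zero_mem
      have : (1 : S) ∈ M.comap mk.toRingHom := by
        have := Ideal.add_mem _ heM h1
        rwa [add_sub_cancel] at this
      exact (Ideal.comap_isPrime mk.toRingHom M).ne_top ((Ideal.eq_top_iff_one _).mpr this)
  haveI : Nontrivial T := Ideal.Quotient.nontrivial_iff.mpr
    (fun htop => ‹q.IsPrime›.ne_top (top_le_iff.mp (htop ▸ hkerle)))
  have hunit : ∀ s : S, s ∉ q → IsUnit (mk s) := by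
    intro s hs
    by_contra hnu
    obtain ⟨M, hM, hsM⟩ := exists_max_ideal_of_mem_nonunits hnu
    have := hmax M hM
    apply hs
    rw [← this]
    exact hsM
  haveI : IsLocalization q.primeCompl T := by
    refine ⟨fun ⟨s, hs⟩ => hunit s hs, fun z => ?_, fun {x y} hxy => ?_⟩
    · obtain ⟨s, rfl⟩ := hmksurj z
      exact ⟨(s, 1), by simp; rfl⟩
    · have hxy' : mk x = mk y := hxy
      have : x - y ∈ Ideal.span ({1 - e} : Set S) := Ideal.Quotient.eq.mp hxy'
      obtain ⟨z, hz⟩ := Ideal.mem_span_singleton'.mp this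
      refine ⟨⟨e, heq⟩, ?_⟩
      show e * x = e * y
      have : e * (x - y) = 0 := by
        rw [← hz]
        have : e * (z * (1 - e)) = z * (e * (1 - e)) := by ring
        rw [this, mul_sub, mul_one, he.eq, sub_self, mul_zero]
      rw [mul_sub, sub_eq_zero] at this
      exact this
  let E : T ≃ₐ[S] Localization.AtPrime q := IsLocalization.algEquiv q.primeCompl T _
  exact Module.Finite.equiv (E.restrictScalars R).toLinearEquiv

end Groth.Agent.H8.S5035
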