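import Mathlib
import Groth.Agent.Lib.Helper8.Hens.QuasiFiniteLocal
import Groth.Agent.Lib.Helper8.Hens.IntegralHens

universe u
open Polynomial IsLocalRing

namespace Groth.Agent.H8.Hens.LocInt

/-- Over a henselian local ring, the localization of a finite type algebra at a prime over the
maximal ideal at which it is quasi-finite is a quotient. -/
theorem surjective_algebraMap_localization_of_quasiFiniteAt (R : Type u) [CommRing R]
    [HenselianLocalRing R]
    (S : Type u) [CommRing S] [Algebra R S] [Algebra.FiniteType R S] (q : Ideal S) [q.IsPrime]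
    [q.LiesOver (maximalIdeal R)] [Algebra.QuasiFiniteAt R q] :
    Function.Surjective (algebraMap S (Localization.AtPrime q)) := by
  obtain ⟨e, he, heq, hfin, huniq⟩ := Hens.exists_idempotent_of_quasiFiniteAt R S q
  let T := S ⧸ Ideal.span ({1 - e} : Set S)
  let mk : S →ₐ[R] T := Ideal.Quotient.mkₐ R _
  have hmksurj : Function.Surjective mk := Ideal.Quotient.mkₐ_surjective R _
  haveI : Module.Finite R T := hfin
  have h1e : 1 - e ∈ q := by
    have : e * (1 - e) ∈ q := by
      rw [mul_sub, mul_one, he.eq, sub_self]; exact q.zero_mem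
    exact (‹q.IsPrime›.mem_or_mem this).resolve_left heq
  have hkerle : Ideal.span ({1 - e} : Set S) ≤ q := by
    rw [Ideal.span_le, Set.singleton_subset_iff]; exact h1e
  have hmax : ∀ M : Ideal T, M.IsMaximal → M.comap mk.toRingHom = q := by
    intro M hM
    haveI : Algebra.IsIntegral R T := Algebra.IsIntegral.of_finite R T
    have hMm : M.comap (algebraMap R T) = maximalIdeal R := by
      haveI := Ideal.isMaximal_comap_of_isIntegral_of_isMaximal (R := R) M
      exact IsLocalRing.eq_maximalIdeal inferInstance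
    apply huniq _ (Ideal.comap_isPrime _ _)
    · refine ⟨?_⟩
      rw [Ideal.under, Ideal.comap_comap, ← hMm]
      congr 1
    · intro heM
      have h1 : (1 - e) ∈ M.comap mk.toRingHom := by
        rw [Ideal.mem_comap]
        show mk (1 - e) ∈ M
        have : mk (1 - e) = 0 := Ideal.Quotient.eq_zero_iff_mem.mpr (Ideal.mem_span_singleton_self _)
        rw [this]; exact M.zero_mem
      have : (1 : S) ∈ M.comap mk.toRingHom := by
        have := Ideal.add_mem _ heM h1
        rwa [add_sub_cancel] at this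
      exact (Ideal.comap_isPrime mk.toRingHom M).ne_top ((Ideal.eq_top_iff_one _).mpr this)
  haveI : Nontrivial T := Ideal.Quotient.nontrivial_iff.mpr
    (fun htop => ‹q.IsPrime›.ne_top (top_le_iff.mp (htop ▸ hkerle)))
  have hunit : ∀ s : S, s ∉ q → IsUnit (mk s) := by
    intro s hs
    by_contra hnu
    obtain ⟨M, hM, hsM⟩ := exists_max_ideal_of_mem_nonunits hnu
    have := hmax M hM
    apply hs
    rw [← this]
    exact hsM
  haveI : IsLocalization q.primeCompl T := by
    refine ⟨fun ⟨s, hs⟩ => hunit s hs, fun z => ?_, fun {x y} hxy => ?_⟩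
    · obtain ⟨s, rfl⟩ := hmksurj z
      exact ⟨(s, 1), by simp; rfl⟩
    · have hxy' : mk x = mk y := hxy
      have : x - y ∈ Ideal.span ({1 - e} : Set S) := Ideal.Quotient.eq.mp hxy'
      obtain ⟨z, hz⟩ := Ideal.mem_span_singleton'.mp this
      refine ⟨⟨e, heq⟩, ?_⟩
      show e * x = e * y
      have : e * (x - y) = 0 := by
        rw [← hz]
        have : e * (z * (1 - e)) = z * (e * (1 - e)) := by ring
        rw [this, mul_sub, mul_one, he.eq, sub_self, mul_zero]
      rw [mul_sub, sub_eq_zero] at this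
      exact this
  let E : T ≃ₐ[S] Localization.AtPrime q := IsLocalization.algEquiv q.primeCompl T _
  intro z
  obtain ⟨s, hs⟩ := hmksurj (E.symm z)
  refine ⟨s, ?_⟩
  have h1 : algebraMap S T s = mk s := rfl
  rw [← E.commutes s, h1, hs, AlgEquiv.apply_symm_apply]

/-- Key lemma: if `E` is locally (in the filtered colimit sense) quasi-finite at `Q` over a
henselian local ring `R`, then `E → E_Q` is surjective. -/
theorem surjective_algebraMap_localization (R : Type u) [CommRing R] [HenselianLocalRing R]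
    (E : Type u) [CommRing E] [Algebra R E] (Q : Ideal E) [Q.IsPrime]
    [Q.LiesOver (maximalIdeal R)]
    (H : ∀ F : Finset E, ∃ (E₀ : Type u) (_ : CommRing E₀) (_ : Algebra R E₀)
      (_ : Algebra.FiniteType R E₀) (φ : E₀ →ₐ[R] E),
      (↑F : Set E) ⊆ Set.range φ ∧ Algebra.QuasiFiniteAt R (Q.comap φ.toRingHom)) :
    Function.Surjective (algebraMap E (Localization.AtPrime Q)) := by
  classical
  intro z
  obtain ⟨x, s, rfl⟩ := IsLocalization.exists_mk'_eq Q.primeCompl z
  obtain ⟨E₀, _, _, _, φ, hF, hqf⟩ := H {x, (s : E)}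
  obtain ⟨x₀, hx₀⟩ : x ∈ Set.range φ := hF (by simp)
  obtain ⟨s₀, hs₀⟩ : (s : E) ∈ Set.range φ := hF (by simp)
  set Q₀ : Ideal E₀ := Q.comap φ.toRingHom with hQ₀
  haveI : Q₀.IsPrime := Ideal.comap_isPrime _ _
  haveI : Q₀.LiesOver (maximalIdeal R) := by
    refine ⟨?_⟩
    rw [Ideal.LiesOver.over (P := Q) (p := maximalIdeal R), Ideal.under_def, Ideal.under_def, hQ₀,
      Ideal.comap_comap]
    congr 1
    exact (φ.comp_algebraMap).symm
  have hs₀Q : s₀ ∉ Q₀ := by
    intro h
    rw [hQ₀, Ideal.mem_comap] at h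
    have : φ s₀ ∈ Q := h
    rw [hs₀] at this
    exact s.2 this
  have hsurj := surjective_algebraMap_localization_of_quasiFiniteAt R E₀ Q₀
  let s₀' : Q₀.primeCompl := ⟨s₀, hs₀Q⟩
  obtain ⟨t, ht⟩ := hsurj (IsLocalization.mk' (Localization.AtPrime Q₀) (1 : E₀) s₀')
  -- `s₀ * t = 1` in the localization, so `u * (s₀ * t - 1) = 0` for some `u ∉ Q₀`
  have h1 : algebraMap E₀ (Localization.AtPrime Q₀) (s₀ * t) = algebraMap E₀ _ 1 := by
    rw [map_mul, ht, map_one]
    have := IsLocalization.mk'_spec' (Localization.AtPrime Q₀) (1 : E₀) s₀'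
    rw [map_one] at this
    exact this
  obtain ⟨u, hu⟩ := (IsLocalization.eq_iff_exists Q₀.primeCompl (Localization.AtPrime Q₀)).mp h1
  have hu' : (φ u) * ((s : E) * φ t) = φ u := by
    have := congrArg φ hu
    rw [map_mul, map_mul, map_mul, map_one, hs₀, mul_one] at this
    exact this
  have huQ : φ u ∉ Q := fun h => u.2 h
  refine ⟨x * φ t, ?_⟩
  rw [IsLocalization.eq_mk'_iff_mul_eq, ← map_mul]
  apply (IsLocalization.eq_iff_exists Q.primeCompl (Localization.AtPrime Q)).mpr
  refine ⟨⟨φ u, huQ⟩, ?_⟩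
  show φ u * (x * φ t * (s : E)) = φ u * x
  calc φ u * (x * φ t * (s : E)) = x * (φ u * ((s : E) * φ t)) := by ring
    _ = x * φ u := by rw [hu']
    _ = φ u * x := by ring

theorem isIntegral_localization (R : Type u) [CommRing R] [HenselianLocalRing R]
    (E : Type u) [CommRing E] [Algebra R E] (Q : Ideal E) [Q.IsPrime]
    [Q.LiesOver (maximalIdeal R)]
    (H : ∀ F : Finset E, ∃ (E₀ : Type u) (_ : CommRing E₀) (_ : Algebra R E₀)
      (_ : Algebra.FiniteType R E₀) (φ : E₀ →ₐ[R] E),
      (↑F : Set E) ⊆ Set.range φ ∧ Algebra.QuasiFiniteAt R (Q.comap φ.toRingHom)) :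
    Algebra.IsIntegral R (Localization.AtPrime Q) := by
  classical
  have hsurj := surjective_algebraMap_localization R E Q H
  refine ⟨fun z => ?_⟩
  obtain ⟨x, rfl⟩ := hsurj z
  obtain ⟨E₀, _, _, _, φ, hF, hqf⟩ := H {x}
  obtain ⟨x₀, hx₀⟩ : x ∈ Set.range φ := hF (by simp)
  set Q₀ : Ideal E₀ := Q.comap φ.toRingHom with hQ₀
  haveI : Q₀.IsPrime := Ideal.comap_isPrime _ _
  haveI : Q₀.LiesOver (maximalIdeal R) := by
    refine ⟨?_⟩
    rw [Ideal.LiesOver.over (P := Q) (p := maximalIdeal R), Ideal.under_def, Ideal.under_def, hQ₀,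
      Ideal.comap_comap]
    congr 1
    exact (φ.comp_algebraMap).symm
  haveI : Module.Finite R (Localization.AtPrime Q₀) :=
    Groth.Agent.H8.S5035.finite_localization_of_quasiFiniteAt R E₀ Q₀
  have hint : IsIntegral R (algebraMap E₀ (Localization.AtPrime Q₀) x₀) :=
    Algebra.IsIntegral.isIntegral _
  let ψ : Localization.AtPrime Q₀ →+* Localization.AtPrime Q :=
    Localization.localRingHom Q₀ Q φ.toRingHom rfl
  have hψ : ψ (algebraMap E₀ (Localization.AtPrime Q₀) x₀) = algebraMap E _ x := by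
    rw [Localization.localRingHom_to_map]
    congr 1
  rw [← hψ]
  refine hint.map_of_comp_eq (RingHom.id R) ψ ?_
  refine RingHom.ext fun r => ?_
  simp only [RingHom.comp_apply, RingHom.id_apply]
  rw [IsScalarTower.algebraMap_apply R E₀ (Localization.AtPrime Q₀),
    Localization.localRingHom_to_map, IsScalarTower.algebraMap_apply R E (Localization.AtPrime Q)]
  congr 1
  exact (φ.commutes r).symm

end Groth.Agent.H8.Hens.LocInt
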