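import Mathlib
import Groth.Agent.Lib.Helper8.Hens.Henselization
import Groth.Agent.Lib.Helper8.Hens.Strict

/-!
# Transfer of the henselization along maps which are epimorphic for henselian targets
-/

open IsLocalRing TensorProduct

namespace Groth.Agent.H8.Hens

universe u

section Transfer

variable {R : Type u} [CommRing R] [IsLocalRing R]

theorem nonempty_algEquiv_of_isHenselization (S S' : Type u) [CommRing S] [IsLocalRing S]
    [Algebra R S] [IsLocalHom (algebraMap R S)] [Hensel.IsHenselization R S]
    [CommRing S'] [IsLocalRing S'] [Algebra R S'] [IsLocalHom (algebraMap R S')]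
    [Hensel.IsHenselization R S'] : Nonempty (S ≃ₐ[R] S') :=
  ⟨(algEquiv (R := R) S).symm.trans (algEquiv (R := R) S')⟩

theorem isLocalHom_of_isHenselization (S : Type u) [CommRing S] [IsLocalRing S]
    [Algebra R S] [IsLocalHom (algebraMap R S)] [Hensel.IsHenselization R S]
    {T : Type*} [CommRing T] [IsLocalRing T] (g : S →+* T)
    (h : IsLocalHom (g.comp (algebraMap R S))) : IsLocalHom g := by
  have h1 := ((local_hom_TFAE (g.comp (algebraMap R S))).out 0 3).mp h
  rw [← Ideal.comap_comap, ← Ideal.map_le_iff_le_comap,
    map_maximalIdeal_of_isHenselization (R := R) S] at h1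
  exact ((local_hom_TFAE g).out 0 3).mpr h1

/-- If `u : S₀ → D` is a local homomorphism which is an epimorphism with respect to local maps into
henselian local rings, and the henselization `Sh` of `S₀` receives a local map from `D` compatible
with `u`, then `Sh` is a henselization of `D`. -/
theorem isHenselization_of_epi {S₀ D Sh : Type u} [CommRing S₀] [IsLocalRing S₀] [CommRing D]
    [IsLocalRing D] [CommRing Sh] [IsLocalRing Sh] [Algebra S₀ Sh] [IsLocalHom (algebraMap S₀ Sh)]
    [hS : Hensel.IsHenselization S₀ Sh] (u : S₀ →+* D) (hu : IsLocalHom u) [Algebra D Sh]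
    [IsLocalHom (algebraMap D Sh)] (huv : (algebraMap D Sh).comp u = algebraMap S₀ Sh)
    (hepi : ∀ (T : Type u) [CommRing T] [HenselianLocalRing T] (f₁ f₂ : D →+* T),
      IsLocalHom f₁ → IsLocalHom f₂ → f₁.comp u = f₂.comp u → f₁ = f₂) :
    Hensel.IsHenselization D Sh where
  henselian := hS.henselian
  universal T _ _ f hf := by
    have hfu : IsLocalHom (f.comp u) := RingHom.isLocalHom_comp f u
    obtain ⟨g₀, hg₀, hg₀u⟩ := hS.universal T (f.comp u) hfu
    have hg₀loc : IsLocalHom g₀ := isLocalHom_of_isHenselization (R := S₀) Sh g₀ (by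
      rw [hg₀]; exact hfu)
    refine ⟨g₀, ?_, ?_⟩
    · apply hepi T
      · exact RingHom.isLocalHom_comp g₀ (algebraMap D Sh)
      · exact hf
      · rw [RingHom.comp_assoc, huv, hg₀]
    · intro g hg
      apply hg₀u
      change g.comp (algebraMap D Sh) = f at hg
      rw [← huv, ← RingHom.comp_assoc, hg]

end Transfer

end Groth.Agent.H8.Hens
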