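import Mathlib
import Groth.Agent.Lib.Helper8.Hens.Transfer
import Groth.Agent.Lib.Helper8.Hens.AtPrimeColim

open IsLocalRing TensorProduct

namespace Groth.Agent.H8.Hens

universe u

section AtPrimeTensor

variable (R : Type u) [CommRing R] (S : Type u) [CommRing S] [Algebra R S]
  (p : Ideal R) [p.IsPrime] (q : Ideal S) [q.IsPrime] [q.LiesOver p]
  (Rh : Type u) [CommRing Rh] [Algebra (Localization.AtPrime p) Rh]
  [Algebra R Rh] [IsScalarTower R (Localization.AtPrime p) Rh]
  (Sh : Type u) [CommRing Sh] [IsLocalRing Sh] [Algebra (Localization.AtPrime q) Sh]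
  [IsLocalHom (algebraMap (Localization.AtPrime q) Sh)]
  [Algebra S Sh] [IsScalarTower S (Localization.AtPrime q) Sh] [Algebra R Sh] [IsScalarTower R S Sh]
  [Algebra Rh Sh] [IsScalarTower R Rh Sh]

/-- The canonical map `R^h ⊗_R S → S^h`. -/
noncomputable abbrev phi : Rh ⊗[R] S →ₐ[R] Sh :=
  Algebra.TensorProduct.lift (IsScalarTower.toAlgHom R Rh Sh) (IsScalarTower.toAlgHom R S Sh)
    (fun _ _ => Commute.all _ _)

/-- The prime of `R^h ⊗_R S` below the maximal ideal of `S^h`. -/
noncomputable abbrev Qp : Ideal (Rh ⊗[R] S) := Ideal.comap (phi R S Rh Sh) (maximalIdeal Sh)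

theorem Qp_comap_includeRight :
    q = (Qp R S Rh Sh).comap (Algebra.TensorProduct.includeRight : S →ₐ[R] Rh ⊗[R] S).toRingHom := by
  have : (Qp R S Rh Sh).comap
      (Algebra.TensorProduct.includeRight : S →ₐ[R] Rh ⊗[R] S).toRingHom =
      (maximalIdeal Sh).comap (algebraMap S Sh) := by
    ext s
    simp [Qp, phi, Ideal.mem_comap]
  rw [this]
  exact (comap_maximalIdeal_eq q).symm

theorem isUnit_phi (s : (Qp R S Rh Sh).primeCompl) : IsUnit (phi R S Rh Sh (s : Rh ⊗[R] S)) := by
  have h1 : (s : Rh ⊗[R] S) ∉ Qp R S Rh Sh := s.2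
  by_contra hnu
  exact h1 ((mem_maximalIdeal _).mpr hnu)

/-- The induced map `(R^h ⊗_R S)_Q → S^h`. -/
noncomputable def vMap : Localization.AtPrime (Qp R S Rh Sh) →+* Sh :=
  IsLocalization.lift (M := (Qp R S Rh Sh).primeCompl) (g := (phi R S Rh Sh).toRingHom)
    (isUnit_phi R S Rh Sh)

theorem vMap_algebraMap (d : Rh ⊗[R] S) :
    vMap R S Rh Sh (algebraMap _ _ d) = phi R S Rh Sh d :=
  IsLocalization.lift_eq _ _

instance isLocalHom_vMap : IsLocalHom (vMap R S Rh Sh) := by
  constructor
  intro x hx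
  obtain ⟨c, s, rfl⟩ := IsLocalization.exists_mk'_eq (Qp R S Rh Sh).primeCompl x
  have h1 : vMap R S Rh Sh (IsLocalization.mk' _ c s) * phi R S Rh Sh (s : Rh ⊗[R] S) =
      phi R S Rh Sh c := by
    rw [← vMap_algebraMap, ← vMap_algebraMap R S Rh Sh c, ← map_mul, IsLocalization.mk'_spec]
  have h2 : IsUnit (phi R S Rh Sh c) := by
    rw [← h1]
    exact hx.mul (isUnit_phi R S Rh Sh s)
  have h3 : c ∉ Qp R S Rh Sh := by
    intro hc
    exact (mem_maximalIdeal _).mp hc h2
  by_contra hnu
  have h4 : IsLocalization.mk' (Localization.AtPrime (Qp R S Rh Sh)) c s ∈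
      maximalIdeal (Localization.AtPrime (Qp R S Rh Sh)) := (mem_maximalIdeal _).mpr hnu
  rw [IsLocalization.AtPrime.mk'_mem_maximal_iff (Localization.AtPrime (Qp R S Rh Sh))
    (Qp R S Rh Sh) c s] at h4
  exact h3 h4

/-- The map `S_q → (R^h ⊗_R S)_Q`. -/
noncomputable def uMap : Localization.AtPrime q →+* Localization.AtPrime (Qp R S Rh Sh) :=
  Localization.localRingHom q (Qp R S Rh Sh)
    (Algebra.TensorProduct.includeRight : S →ₐ[R] Rh ⊗[R] S).toRingHom
    (Qp_comap_includeRight R S q Rh Sh)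

instance isLocalHom_uMap : IsLocalHom (uMap R S q Rh Sh) :=
  Localization.isLocalHom_localRingHom _ _ _ _

theorem uMap_algebraMap (s : S) :
    uMap R S q Rh Sh (algebraMap S _ s) = algebraMap _ _ ((1 : Rh) ⊗ₜ[R] s) :=
  Localization.localRingHom_to_map _ _ _ _ _

theorem vMap_comp_uMap :
    (vMap R S Rh Sh).comp (uMap R S q Rh Sh) = algebraMap (Localization.AtPrime q) Sh := by
  apply IsLocalization.ringHom_ext q.primeCompl
  ext s
  simp only [RingHom.comp_apply, uMap_algebraMap, vMap_algebraMap]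
  rw [← IsScalarTower.algebraMap_apply S (Localization.AtPrime q) Sh]
  simp [phi]

/-- Two local maps from `(R^h ⊗_R S)_Q` to a henselian local ring which agree on `S_q` are
equal. -/
theorem hepi_atPrime [IsLocalRing Rh] [IsLocalHom (algebraMap (Localization.AtPrime p) Rh)]
    [hR : Hensel.IsHenselization (Localization.AtPrime p) Rh]
    (T : Type u) [CommRing T] [HenselianLocalRing T]
    (f₁ f₂ : Localization.AtPrime (Qp R S Rh Sh) →+* T) (h₁ : IsLocalHom f₁) (h₂ : IsLocalHom f₂)
    (h : f₁.comp (uMap R S q Rh Sh) = f₂.comp (uMap R S q Rh Sh)) : f₁ = f₂ := by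
  apply IsLocalization.ringHom_ext (Qp R S Rh Sh).primeCompl
  -- the two maps from `R^h ⊗ S`
  set D := Localization.AtPrime (Qp R S Rh Sh)
  have hS : ∀ s : S, f₁ (algebraMap _ D ((1 : Rh) ⊗ₜ[R] s)) = f₂ (algebraMap _ D ((1 : Rh) ⊗ₜ[R] s)) := by
    intro s
    have := congrArg (fun w => w (algebraMap S _ s)) h
    simpa only [RingHom.comp_apply, uMap_algebraMap] using this
  let j : Rh →+* D := (algebraMap (Rh ⊗[R] S) D).comp
    (Algebra.TensorProduct.includeLeft : Rh →ₐ[R] Rh ⊗[R] S).toRingHom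
  have hjR : ∀ r : R, j (algebraMap R Rh r) = algebraMap _ D ((1 : Rh) ⊗ₜ[R] algebraMap R S r) := by
    intro r
    show algebraMap _ D (algebraMap R Rh r ⊗ₜ[R] (1 : S)) = _
    rw [Algebra.TensorProduct.tmul_one_eq_one_tmul]
  -- the restrictions to `R_p` agree
  have hRp : (f₁.comp j).comp (algebraMap (Localization.AtPrime p) Rh) =
      (f₂.comp j).comp (algebraMap (Localization.AtPrime p) Rh) := by
    apply IsLocalization.ringHom_ext p.primeCompl
    ext r
    simp only [RingHom.comp_apply, ← IsScalarTower.algebraMap_apply R (Localization.AtPrime p) Rh,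
      hjR, hS]
  -- and are local
  have hloc : IsLocalHom ((f₁.comp j).comp (algebraMap (Localization.AtPrime p) Rh)) := by
    have e1 : (f₁.comp j).comp (algebraMap (Localization.AtPrime p) Rh) =
        (f₁.comp (uMap R S q Rh Sh)).comp (Localization.localRingHom p q (algebraMap R S)
          (Ideal.LiesOver.over (P := q) (p := p))) := by
      apply IsLocalization.ringHom_ext p.primeCompl
      ext r
      simp only [RingHom.comp_apply, ← IsScalarTower.algebraMap_apply R (Localization.AtPrime p) Rh,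
        hjR, Localization.localRingHom_to_map, uMap_algebraMap]
      rfl
    rw [e1]
    haveI := h₁
    haveI : IsLocalHom (f₁.comp (uMap R S q Rh Sh)) := RingHom.isLocalHom_comp _ _
    exact RingHom.isLocalHom_comp _ _
  obtain ⟨g, -, hg⟩ := hR.universal T _ hloc
  have e1 : f₁.comp j = g := hg _ rfl
  have e2 : f₂.comp j = g := hg _ hRp.symm
  have hj : f₁.comp j = f₂.comp j := e1.trans e2.symm
  -- conclude on pure tensors
  refine RingHom.ext fun d => ?_
  simp only [RingHom.comp_apply]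
  induction d using TensorProduct.induction_on with
  | zero => simp
  | tmul x s =>
    have e3 : x ⊗ₜ[R] s = (x ⊗ₜ[R] (1 : S)) * ((1 : Rh) ⊗ₜ[R] s) := by
      rw [Algebra.TensorProduct.tmul_mul_tmul, mul_one, one_mul]
    rw [e3, map_mul, map_mul, map_mul, hS s]
    congr 1
    exact congrArg (fun w => w x) hj
  | add x y hx hy => rw [map_add, map_add, map_add, hx, hy]

end AtPrimeTensor

end Groth.Agent.H8.Hens
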