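import Mathlib
import Groth.Agent.Lib.Helper8.Hens.AtPrimeTensor
import Groth.Agent.Lib.Helper8.Hens.QuasiFiniteLocal
import Groth.Agent.Lib.Helper8.Hens.HenselianFinite

open IsLocalRing TensorProduct

namespace Groth.Agent.H8.Hens

universe u

theorem isHenselization_self (D : Type u) [CommRing D] [hD : HenselianLocalRing D] :
    Hensel.IsHenselization D D where
  henselian := hD
  universal T _ _ f _ := ⟨f, by ext; simp, fun g hg => by rw [← hg]; ext; simp⟩

section QF

variable (R : Type u) [CommRing R] (S : Type u) [CommRing S] [Algebra R S]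
  (p : Ideal R) [p.IsPrime] (q : Ideal S) [q.IsPrime] [q.LiesOver p]
  (Rh : Type u) [CommRing Rh] [IsLocalRing Rh] [Algebra (Localization.AtPrime p) Rh]
  [IsLocalHom (algebraMap (Localization.AtPrime p) Rh)]
  [Algebra R Rh] [IsScalarTower R (Localization.AtPrime p) Rh]
  (Sh : Type u) [CommRing Sh] [IsLocalRing Sh] [Algebra (Localization.AtPrime q) Sh]
  [IsLocalHom (algebraMap (Localization.AtPrime q) Sh)]
  [Algebra S Sh] [IsScalarTower S (Localization.AtPrime q) Sh] [Algebra R Sh] [IsScalarTower R S Sh]
  [Algebra Rh Sh] [IsScalarTower R Rh Sh]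

include S q in
/-- The composite `R_p → R^h → S^h` is local. -/
theorem isLocalHom_comp_atPrime :
    IsLocalHom ((algebraMap Rh Sh).comp (algebraMap (Localization.AtPrime p) Rh)) := by
  have e1 : (algebraMap Rh Sh).comp (algebraMap (Localization.AtPrime p) Rh) =
      (algebraMap (Localization.AtPrime q) Sh).comp (Localization.localRingHom p q (algebraMap R S)
        (Ideal.LiesOver.over (P := q) (p := p))) := by
    apply IsLocalization.ringHom_ext p.primeCompl
    ext r
    simp only [RingHom.comp_apply, ← IsScalarTower.algebraMap_apply R (Localization.AtPrime p) Rh,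
      Localization.localRingHom_to_map, ← IsScalarTower.algebraMap_apply S (Localization.AtPrime q) Sh,
      ← IsScalarTower.algebraMap_apply R Rh Sh, ← IsScalarTower.algebraMap_apply R S Sh]
  rw [e1]
  exact RingHom.isLocalHom_comp _ _

theorem Qp_liesOver [IsLocalHom (algebraMap Rh Sh)] :
    (Qp R S Rh Sh).LiesOver (maximalIdeal Rh) := by
  constructor
  have : (Qp R S Rh Sh).under Rh = (maximalIdeal Sh).comap (algebraMap Rh Sh) := by
    ext x
    simp [Qp, phi, Ideal.under, Ideal.mem_comap, Algebra.TensorProduct.algebraMap_apply]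
  rw [this]
  have h4 : (maximalIdeal Sh).comap (algebraMap Rh Sh) = maximalIdeal Rh :=
    ((local_hom_TFAE (algebraMap Rh Sh)).out 0 4).mp ‹IsLocalHom (algebraMap Rh Sh)›
  exact h4.symm

/-- Quasi-finite at `q` ⇒ the henselization `S_q^h` is finite over `R_p^h`, and equals
`(R^h ⊗_R S)_Q`. -/
theorem bijective_vMap_of_quasiFiniteAt [Algebra.FiniteType R S] [Algebra.QuasiFiniteAt R q]
    [hR : Hensel.IsHenselization (Localization.AtPrime p) Rh]
    [hS : Hensel.IsHenselization (Localization.AtPrime q) Sh] :
    Module.Finite Rh (Localization.AtPrime (Qp R S Rh Sh)) ∧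
      Function.Bijective (vMap R S Rh Sh) := by
  haveI : HenselianLocalRing Rh := hR.henselian
  haveI : IsLocalHom (algebraMap Rh Sh) :=
    isLocalHom_of_isHenselization (R := Localization.AtPrime p) Rh _
      (isLocalHom_comp_atPrime R S p q Rh Sh)
  haveI := Qp_liesOver R S Rh Sh
  haveI : Algebra.QuasiFiniteAt Rh (Qp R S Rh Sh) :=
    Algebra.QuasiFiniteAt.baseChange q (Qp R S Rh Sh) (Qp_comap_includeRight R S q Rh Sh)
  haveI hfin : Module.Finite Rh (Localization.AtPrime (Qp R S Rh Sh)) :=
    Groth.Agent.H8.S5035.finite_localization_of_quasiFiniteAt Rh (Rh ⊗[R] S) (Qp R S Rh Sh)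
  refine ⟨hfin, ?_⟩
  haveI : HenselianLocalRing (Localization.AtPrime (Qp R S Rh Sh)) :=
    henselianLocalRing_of_finite Rh _
  letI : Algebra (Localization.AtPrime (Qp R S Rh Sh)) Sh := (vMap R S Rh Sh).toAlgebra
  haveI : IsLocalHom (algebraMap (Localization.AtPrime (Qp R S Rh Sh)) Sh) :=
    isLocalHom_vMap R S Rh Sh
  haveI : Hensel.IsHenselization (Localization.AtPrime (Qp R S Rh Sh)) Sh :=
    isHenselization_of_epi (uMap R S q Rh Sh) inferInstance
      (vMap_comp_uMap R S q Rh Sh) (hepi_atPrime R S p q Rh Sh)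
  haveI := isHenselization_self (Localization.AtPrime (Qp R S Rh Sh))
  obtain ⟨e⟩ := nonempty_algEquiv_of_isHenselization
    (R := Localization.AtPrime (Qp R S Rh Sh)) (Localization.AtPrime (Qp R S Rh Sh)) Sh
  have : ∀ d, vMap R S Rh Sh d = e d := by
    intro d
    have := e.commutes d
    rw [Algebra.algebraMap_self, RingHom.id_apply] at this
    exact this.symm
  have h2 : (vMap R S Rh Sh : _ → Sh) = e := funext this
  rw [h2]
  exact e.bijective

theorem finite_of_quasiFiniteAt [Algebra.FiniteType R S] [Algebra.QuasiFiniteAt R q]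
    [hR : Hensel.IsHenselization (Localization.AtPrime p) Rh]
    [hS : Hensel.IsHenselization (Localization.AtPrime q) Sh] :
    Module.Finite Rh Sh := by
  obtain ⟨hfin, hbij⟩ := bijective_vMap_of_quasiFiniteAt R S p q Rh Sh
  let L : Localization.AtPrime (Qp R S Rh Sh) →ₗ[Rh] Sh :=
    { toFun := vMap R S Rh Sh
      map_add' := map_add _
      map_smul' := fun r d => by
        rw [RingHom.id_apply, Algebra.smul_def, map_mul, Algebra.smul_def]
        congr 1
        rw [IsScalarTower.algebraMap_apply Rh (Rh ⊗[R] S) (Localization.AtPrime (Qp R S Rh Sh)),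
          vMap_algebraMap]
        simp [phi, Algebra.TensorProduct.algebraMap_apply] }
  exact Module.Finite.of_surjective L hbij.2

end QF

end Groth.Agent.H8.Hens
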