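import Mathlib
import Groth.Agent.Lib.Helper8.Hens.QFHens

open IsLocalRing TensorProduct

namespace Groth.Agent.H8.Hens

universe u

section StrictTransferGeneral

variable {R : Type u} [CommRing R] [IsLocalRing R]

theorem nonempty_algEquiv_of_isStrictHenselization (S S' : Type u) [CommRing S] [IsLocalRing S]
    [Algebra R S] [IsLocalHom (algebraMap R S)] [Hensel.IsStrictHenselization R S]
    [CommRing S'] [IsLocalRing S'] [Algebra R S'] [IsLocalHom (algebraMap R S')]
    [Hensel.IsStrictHenselization R S'] : Nonempty (S ≃ₐ[R] S') :=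
  ⟨(algEquivStrict (R := R) S).symm.trans (algEquivStrict (R := R) S')⟩

theorem isLocalHom_of_isStrictHenselization (S : Type u) [CommRing S] [IsLocalRing S]
    [Algebra R S] [IsLocalHom (algebraMap R S)] [Hensel.IsStrictHenselization R S]
    {T : Type*} [CommRing T] [IsLocalRing T] (g : S →+* T)
    (h : IsLocalHom (g.comp (algebraMap R S))) : IsLocalHom g := by
  have h1 := ((local_hom_TFAE (g.comp (algebraMap R S))).out 0 3).mp h
  rw [← Ideal.comap_comap, ← Ideal.map_le_iff_le_comap,
    map_maximalIdeal_of_isStrictHenselization (R := R) S] at h1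
  exact ((local_hom_TFAE g).out 0 3).mpr h1

theorem isSeparable_of_surjective_algebraMap {K L : Type*} [Field K] [Field L] [Algebra K L]
    (h : Function.Surjective (algebraMap K L)) : Algebra.IsSeparable K L :=
  ⟨fun x => by obtain ⟨y, rfl⟩ := h x; exact isSeparable_algebraMap y⟩

theorem isSepClosure_self_of {k : Type*} [Field k] [hk : IsSepClosed k] (inst : Algebra k k)
    (h : Function.Surjective (@algebraMap k k _ _ inst)) : @IsSepClosure k _ k _ inst := by
  letI := inst
  exact ⟨hk, isSeparable_of_surjective_algebraMap h⟩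

/-- A strictly henselian local ring is its own strict henselization. -/
theorem isStrictHenselization_self (D : Type u) [CommRing D] [hD : HenselianLocalRing D]
    [hsep : IsSepClosed (ResidueField D)] : Hensel.IsStrictHenselization D D where
  henselian := hD
  isSepClosure := by
    refine isSepClosure_self_of _ ?_
    intro x
    obtain ⟨d, rfl⟩ := residue_surjective x
    exact ⟨residue D d, ResidueField.map_residue _ _⟩
  universal T _ _ f _ τ hτ := by
    refine ⟨f, ⟨by ext; simp, fun x => ?_⟩, fun g hg => ?_⟩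
    · have := congrArg (fun w => w (residue D x)) hτ
      simp only [RingHom.comp_apply, ResidueField.map_residue] at this
      exact this.symm
    · rw [← hg.1]; ext; simp

/-- Strict analogue of `isHenselization_of_epi`. -/
theorem isStrictHenselization_of_epi {S₀ D Sh : Type u} [CommRing S₀] [IsLocalRing S₀]
    [CommRing D] [IsLocalRing D] [CommRing Sh] [IsLocalRing Sh] [Algebra S₀ Sh]
    [IsLocalHom (algebraMap S₀ Sh)] [hS : Hensel.IsStrictHenselization S₀ Sh] (u : S₀ →+* D)
    [hu : IsLocalHom u] [Algebra D Sh] [IsLocalHom (algebraMap D Sh)]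
    (huv : (algebraMap D Sh).comp u = algebraMap S₀ Sh)
    (hepi : ∀ (T : Type u) [CommRing T] [HenselianLocalRing T] (f₁ f₂ : D →+* T)
      [IsLocalHom f₁] [IsLocalHom f₂], f₁.comp u = f₂.comp u →
      ResidueField.map f₁ = ResidueField.map f₂ → f₁ = f₂) :
    Hensel.IsStrictHenselization D Sh where
  henselian := hS.henselian
  isSepClosure := by
    have h0 := hS.isSepClosure
    refine ⟨h0.sep_closed, ?_⟩
    letI : Algebra (ResidueField S₀) (ResidueField D) := (ResidueField.map u).toAlgebra
    haveI : IsScalarTower (ResidueField S₀) (ResidueField D) (ResidueField Sh) := by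
      refine IsScalarTower.of_algebraMap_eq fun x => ?_
      obtain ⟨s, rfl⟩ := residue_surjective x
      show ResidueField.map (algebraMap S₀ Sh) (residue S₀ s) =
        ResidueField.map (algebraMap D Sh) (ResidueField.map u (residue S₀ s))
      rw [ResidueField.map_residue, ResidueField.map_residue, ResidueField.map_residue]
      have := congrArg (fun w => w s) huv
      simp only [RingHom.comp_apply] at this
      rw [this]
    haveI := h0.separable
    exact Algebra.isSeparable_tower_top_of_isSeparable (ResidueField S₀) (ResidueField D)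
      (ResidueField Sh)
  universal T _ _ f _ τ hτ := by
    haveI hfu : IsLocalHom (f.comp u) := RingHom.isLocalHom_comp f u
    have hτ₀ : τ.comp (ResidueField.map (algebraMap S₀ Sh)) = ResidueField.map (f.comp u) := by
      ext x
      obtain ⟨s, rfl⟩ := residue_surjective x
      simp only [RingHom.comp_apply, ResidueField.map_residue]
      have h1 := congrArg (fun w => w s) huv
      simp only [RingHom.comp_apply] at h1
      have h2 := congrArg (fun w => w (residue D (u s))) hτ
      simp only [RingHom.comp_apply, ResidueField.map_residue] at h2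
      rw [← h1, h2]
    obtain ⟨g₀, ⟨hg₀1, hg₀2⟩, hg₀u⟩ := hS.universal T (f.comp u) τ hτ₀
    haveI hg₀loc : IsLocalHom g₀ := by
      apply ((local_hom_TFAE g₀).out 0 3).mpr
      intro x hx
      rw [Ideal.mem_comap, ← residue_eq_zero_iff, hg₀2, (residue_eq_zero_iff x).mpr hx, map_zero]
    haveI : IsLocalHom (g₀.comp (algebraMap D Sh)) := RingHom.isLocalHom_comp _ _
    refine ⟨g₀, ⟨?_, hg₀2⟩, ?_⟩
    · apply hepi T
      · rw [RingHom.comp_assoc, huv, hg₀1]
      · ext x
        obtain ⟨d, rfl⟩ := residue_surjective x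
        rw [ResidueField.map_residue, RingHom.comp_apply, hg₀2]
        have h2 := congrArg (fun w => w (residue D d)) hτ
        simp only [RingHom.comp_apply, ResidueField.map_residue] at h2
        rw [h2, ResidueField.map_residue]
    · rintro g ⟨hg1, hg2⟩
      apply hg₀u
      refine ⟨?_, hg2⟩
      change g.comp (algebraMap D Sh) = f at hg1
      rw [← huv, ← RingHom.comp_assoc, hg1]

end StrictTransferGeneral

section AtPrimeStrict

variable (R : Type u) [CommRing R] (S : Type u) [CommRing S] [Algebra R S]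
  (p : Ideal R) [p.IsPrime] (q : Ideal S) [q.IsPrime] [q.LiesOver p]
  (Rh : Type u) [CommRing Rh] [IsLocalRing Rh] [Algebra (Localization.AtPrime p) Rh]
  [IsLocalHom (algebraMap (Localization.AtPrime p) Rh)]
  [Algebra R Rh] [IsScalarTower R (Localization.AtPrime p) Rh]
  (Sh : Type u) [CommRing Sh] [IsLocalRing Sh] [Algebra (Localization.AtPrime q) Sh]
  [IsLocalHom (algebraMap (Localization.AtPrime q) Sh)]
  [Algebra S Sh] [IsScalarTower S (Localization.AtPrime q) Sh] [Algebra R Sh] [IsScalarTower R S Sh]
  [Algebra Rh Sh] [IsScalarTower R Rh Sh]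

/-- The map `R^h → (R^h ⊗_R S)_Q`. -/
noncomputable def jMap : Rh →+* Localization.AtPrime (Qp R S Rh Sh) :=
  (algebraMap (Rh ⊗[R] S) (Localization.AtPrime (Qp R S Rh Sh))).comp
    (Algebra.TensorProduct.includeLeft : Rh →ₐ[R] Rh ⊗[R] S).toRingHom

theorem jMap_apply (x : Rh) : jMap R S Rh Sh x = algebraMap _ _ (x ⊗ₜ[R] (1 : S)) := rfl

theorem vMap_jMap (x : Rh) : vMap R S Rh Sh (jMap R S Rh Sh x) = algebraMap Rh Sh x := by
  rw [jMap_apply, vMap_algebraMap]
  simp [phi]

instance isLocalHom_jMap [IsLocalHom (algebraMap Rh Sh)] : IsLocalHom (jMap R S Rh Sh) := by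
  constructor
  intro x hx
  have h1 : IsUnit (vMap R S Rh Sh (jMap R S Rh Sh x)) := hx.map _
  rw [vMap_jMap] at h1
  exact IsLocalHom.map_nonunit (f := algebraMap Rh Sh) x h1

theorem jMap_algebraMap (r : R) :
    jMap R S Rh Sh (algebraMap R Rh r) = algebraMap _ _ ((1 : Rh) ⊗ₜ[R] algebraMap R S r) := by
  rw [jMap_apply, Algebra.TensorProduct.tmul_one_eq_one_tmul]

/-- Strict analogue of `hepi_atPrime`. -/
theorem hepi_atPrime_strict [IsLocalHom (algebraMap Rh Sh)]
    [hR : Hensel.IsStrictHenselization (Localization.AtPrime p) Rh]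
    (T : Type u) [CommRing T] [HenselianLocalRing T]
    (f₁ f₂ : Localization.AtPrime (Qp R S Rh Sh) →+* T) [h₁ : IsLocalHom f₁] [h₂ : IsLocalHom f₂]
    (h : f₁.comp (uMap R S q Rh Sh) = f₂.comp (uMap R S q Rh Sh))
    (hres : ResidueField.map f₁ = ResidueField.map f₂) : f₁ = f₂ := by
  apply IsLocalization.ringHom_ext (Qp R S Rh Sh).primeCompl
  set D := Localization.AtPrime (Qp R S Rh Sh)
  have hS : ∀ s : S, f₁ (algebraMap _ D ((1 : Rh) ⊗ₜ[R] s)) = f₂ (algebraMap _ D ((1 : Rh) ⊗ₜ[R] s)) := by
    intro s
    have := congrArg (fun w => w (algebraMap S _ s)) h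
    simpa only [RingHom.comp_apply, uMap_algebraMap] using this
  set j : Rh →+* D := jMap R S Rh Sh with hj_def
  have hjR : ∀ r : R, j (algebraMap R Rh r) = algebraMap _ D ((1 : Rh) ⊗ₜ[R] algebraMap R S r) :=
    jMap_algebraMap R S Rh Sh
  have hRp : (f₁.comp j).comp (algebraMap (Localization.AtPrime p) Rh) =
      (f₂.comp j).comp (algebraMap (Localization.AtPrime p) Rh) := by
    apply IsLocalization.ringHom_ext p.primeCompl
    ext r
    simp only [RingHom.comp_apply, ← IsScalarTower.algebraMap_apply R (Localization.AtPrime p) Rh,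
      hjR, hS]
  haveI : IsLocalHom j := isLocalHom_jMap R S Rh Sh
  haveI : IsLocalHom (f₁.comp j) := RingHom.isLocalHom_comp _ _
  haveI : IsLocalHom (f₂.comp j) := RingHom.isLocalHom_comp _ _
  haveI hloc : IsLocalHom ((f₁.comp j).comp (algebraMap (Localization.AtPrime p) Rh)) :=
    RingHom.isLocalHom_comp _ _
  have hτ : (ResidueField.map (f₁.comp j)).comp
      (ResidueField.map (algebraMap (Localization.AtPrime p) Rh)) =
      ResidueField.map ((f₁.comp j).comp (algebraMap (Localization.AtPrime p) Rh)) := by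
    refine RingHom.ext fun x => ?_
    obtain ⟨a, rfl⟩ := residue_surjective x
    simp only [RingHom.comp_apply, ResidueField.map_residue]
  obtain ⟨g, -, hg⟩ := hR.universal T _ (ResidueField.map (f₁.comp j)) hτ
  have e1 : f₁.comp j = g := hg _ ⟨rfl, fun x => (ResidueField.map_residue _ _).symm⟩
  have e2 : f₂.comp j = g := hg _ ⟨hRp.symm, fun x => by
    rw [ResidueField.map_residue, RingHom.comp_apply, RingHom.comp_apply,
      ← ResidueField.map_residue f₁, ← ResidueField.map_residue f₂, hres]⟩
  have hj : f₁.comp j = f₂.comp j := e1.trans e2.symm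
  refine RingHom.ext fun d => ?_
  simp only [RingHom.comp_apply]
  induction d using TensorProduct.induction_on with
  | zero => simp
  | tmul x s =>
    have e3 : x ⊗ₜ[R] s = (x ⊗ₜ[R] (1 : S)) * ((1 : Rh) ⊗ₜ[R] s) := by
      rw [Algebra.TensorProduct.tmul_mul_tmul, mul_one, one_mul]
    rw [e3, map_mul, map_mul, map_mul, hS s]
    congr 1
    exact congrArg (fun w => w x) hj
  | add x y hx hy => rw [map_add, map_add, map_add, hx, hy]

/-- `S^{sh}` is a strict henselization of `(R^{sh} ⊗_R S)_Q`. -/
theorem isStrictHenselization_atPrime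
    [hR : Hensel.IsStrictHenselization (Localization.AtPrime p) Rh]
    [hS : Hensel.IsStrictHenselization (Localization.AtPrime q) Sh] :
    letI : Algebra (Localization.AtPrime (Qp R S Rh Sh)) Sh := (vMap R S Rh Sh).toAlgebra
    haveI : IsLocalHom (algebraMap (Localization.AtPrime (Qp R S Rh Sh)) Sh) :=
      isLocalHom_vMap R S Rh Sh
    Hensel.IsStrictHenselization (Localization.AtPrime (Qp R S Rh Sh)) Sh := by
  letI : Algebra (Localization.AtPrime (Qp R S Rh Sh)) Sh := (vMap R S Rh Sh).toAlgebra
  haveI : IsLocalHom (algebraMap (Localization.AtPrime (Qp R S Rh Sh)) Sh) :=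
    isLocalHom_vMap R S Rh Sh
  haveI : IsLocalHom (algebraMap Rh Sh) :=
    isLocalHom_of_isStrictHenselization (R := Localization.AtPrime p) Rh _
      (isLocalHom_comp_atPrime R S p q Rh Sh)
  exact isStrictHenselization_of_epi (uMap R S q Rh Sh) (vMap_comp_uMap R S q Rh Sh)
    (fun T _ _ f₁ f₂ _ _ h hres => hepi_atPrime_strict R S p q Rh Sh T f₁ f₂ h hres)

end AtPrimeStrict

section QFStrict

variable (R : Type u) [CommRing R] (S : Type u) [CommRing S] [Algebra R S]
  (p : Ideal R) [p.IsPrime] (q : Ideal S) [q.IsPrime] [q.LiesOver p]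
  (Rh : Type u) [CommRing Rh] [IsLocalRing Rh] [Algebra (Localization.AtPrime p) Rh]
  [IsLocalHom (algebraMap (Localization.AtPrime p) Rh)]
  [Algebra R Rh] [IsScalarTower R (Localization.AtPrime p) Rh]
  (Sh : Type u) [CommRing Sh] [IsLocalRing Sh] [Algebra (Localization.AtPrime q) Sh]
  [IsLocalHom (algebraMap (Localization.AtPrime q) Sh)]
  [Algebra S Sh] [IsScalarTower S (Localization.AtPrime q) Sh] [Algebra R Sh] [IsScalarTower R S Sh]
  [Algebra Rh Sh] [IsScalarTower R Rh Sh]

theorem finite_of_bijective_vMap [Module.Finite Rh (Localization.AtPrime (Qp R S Rh Sh))]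
    (hbij : Function.Bijective (vMap R S Rh Sh)) : Module.Finite Rh Sh := by
  let L : Localization.AtPrime (Qp R S Rh Sh) →ₗ[Rh] Sh :=
    { toFun := vMap R S Rh Sh
      map_add' := map_add _
      map_smul' := fun r d => by
        rw [RingHom.id_apply, Algebra.smul_def, map_mul, Algebra.smul_def]
        congr 1
        rw [IsScalarTower.algebraMap_apply Rh (Rh ⊗[R] S) (Localization.AtPrime (Qp R S Rh Sh)),
          vMap_algebraMap]
        simp [phi, Algebra.TensorProduct.algebraMap_apply] }
  exact Module.Finite.of_surjective L hbij.2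

/-- Strict version: quasi-finite at `q` ⇒ `S^{sh}` is finite over `R^{sh}`. -/
theorem finite_of_quasiFiniteAt_strict [Algebra.FiniteType R S] [Algebra.QuasiFiniteAt R q]
    [IsLocalHom (algebraMap Rh Sh)]
    [hR : Hensel.IsStrictHenselization (Localization.AtPrime p) Rh]
    [hS : Hensel.IsStrictHenselization (Localization.AtPrime q) Sh] :
    Module.Finite Rh Sh := by
  haveI : HenselianLocalRing Rh := hR.henselian
  haveI := Qp_liesOver R S Rh Sh
  haveI : Algebra.QuasiFiniteAt Rh (Qp R S Rh Sh) :=
    Algebra.QuasiFiniteAt.baseChange q (Qp R S Rh Sh) (Qp_comap_includeRight R S q Rh Sh)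
  haveI hfin : Module.Finite Rh (Localization.AtPrime (Qp R S Rh Sh)) :=
    Groth.Agent.H8.S5035.finite_localization_of_quasiFiniteAt Rh (Rh ⊗[R] S) (Qp R S Rh Sh)
  haveI : HenselianLocalRing (Localization.AtPrime (Qp R S Rh Sh)) :=
    henselianLocalRing_of_finite Rh _
  haveI : IsLocalHom (algebraMap Rh (Localization.AtPrime (Qp R S Rh Sh))) :=
    isLocalHom_jMap R S Rh Sh
  haveI : IsSepClosed (ResidueField Rh) := hR.isSepClosure.sep_closed
  haveI : IsSepClosed (ResidueField (Localization.AtPrime (Qp R S Rh Sh))) :=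
    Algebra.IsAlgebraic.isSepClosed (F := ResidueField Rh)
  letI : Algebra (Localization.AtPrime (Qp R S Rh Sh)) Sh := (vMap R S Rh Sh).toAlgebra
  haveI : IsLocalHom (algebraMap (Localization.AtPrime (Qp R S Rh Sh)) Sh) :=
    isLocalHom_vMap R S Rh Sh
  haveI := isStrictHenselization_atPrime R S p q Rh Sh
  haveI := isStrictHenselization_self (Localization.AtPrime (Qp R S Rh Sh))
  obtain ⟨e⟩ := nonempty_algEquiv_of_isStrictHenselization
    (R := Localization.AtPrime (Qp R S Rh Sh)) (Localization.AtPrime (Qp R S Rh Sh)) Sh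
  have : ∀ d, vMap R S Rh Sh d = e d := by
    intro d
    have := e.commutes d
    rw [Algebra.algebraMap_self, RingHom.id_apply] at this
    exact this.symm
  have h2 : (vMap R S Rh Sh : _ → Sh) = e := funext this
  apply finite_of_bijective_vMap R S Rh Sh
  rw [h2]
  exact e.bijective

end QFStrict

end Groth.Agent.H8.Hens
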