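import Mathlib
import Groth.Agent.Lib.Helper8.Hens.StrictTransfer

open IsLocalRing TensorProduct

namespace Groth.Agent.H8.Hens.LT

universe u

section Abstract

/-- Localization of a finite algebra over a strictly henselian local ring at a prime over the
maximal ideal is strictly henselian. -/
theorem strictHenselian_localization_of_finite (S : Type u) [CommRing S] [hS : HenselianLocalRing S]
    [IsSepClosed (ResidueField S)] (E : Type u) [CommRing E] [Algebra S E] [Module.Finite S E]
    (Q : Ideal E) [Q.IsPrime] [Q.LiesOver (maximalIdeal S)] :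
    HenselianLocalRing (Localization.AtPrime Q) ∧
      IsSepClosed (ResidueField (Localization.AtPrime Q)) := by
  haveI hfin : Module.Finite S (Localization.AtPrime Q) :=
    Groth.Agent.H8.S5035.finite_localization_of_quasiFiniteAt S E Q
  haveI : HenselianLocalRing (Localization.AtPrime Q) := henselianLocalRing_of_finite S _
  refine ⟨inferInstance, ?_⟩
  haveI : IsLocalHom (algebraMap S (Localization.AtPrime Q)) := by
    constructor
    intro x hx
    by_contra hnu
    have h1 : x ∈ maximalIdeal S := (mem_maximalIdeal _).mpr hnu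
    rw [Ideal.LiesOver.over (P := Q) (p := maximalIdeal S), Ideal.under_def, Ideal.mem_comap] at h1
    have h2 : algebraMap E (Localization.AtPrime Q) (algebraMap S E x) ∈
        maximalIdeal (Localization.AtPrime Q) :=
      (IsLocalization.AtPrime.to_map_mem_maximal_iff (Localization.AtPrime Q) Q _).mpr h1
    rw [← IsScalarTower.algebraMap_apply] at h2
    exact (mem_maximalIdeal _).mp h2 hx
  exact Algebra.IsAlgebraic.isSepClosed (F := ResidueField S)

end Abstract

section

variable (A B S T : Type u) [CommRing A] [CommRing B] [Algebra A B]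
  [CommRing S] [Algebra A S]
  [CommRing T] [IsLocalRing T] [Algebra B T]
  [Algebra A T] [IsScalarTower A B T] [Algebra S T] [IsScalarTower A S T]

/-- The canonical map `B ⊗_A S → T`. -/
noncomputable abbrev phi : B ⊗[A] S →ₐ[A] T :=
  Algebra.TensorProduct.lift (IsScalarTower.toAlgHom A B T) (IsScalarTower.toAlgHom A S T)
    (fun _ _ => Commute.all _ _)

/-- The prime of `B ⊗_A S` below the maximal ideal of `T`. -/
noncomputable abbrev Q : Ideal (B ⊗[A] S) := Ideal.comap (phi A B S T) (maximalIdeal T)

theorem isUnit_phi (s : (Q A B S T).primeCompl) : IsUnit (phi A B S T (s : B ⊗[A] S)) := by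
  have h1 : (s : B ⊗[A] S) ∉ Q A B S T := s.2
  by_contra hnu
  exact h1 ((mem_maximalIdeal _).mpr hnu)

/-- The induced map `(B ⊗_A S)_Q → T`. -/
noncomputable def vMap : Localization.AtPrime (Q A B S T) →+* T :=
  IsLocalization.lift (M := (Q A B S T).primeCompl) (g := (phi A B S T).toRingHom)
    (isUnit_phi A B S T)

theorem vMap_algebraMap (d : B ⊗[A] S) :
    vMap A B S T (algebraMap _ _ d) = phi A B S T d :=
  IsLocalization.lift_eq _ _

instance isLocalHom_vMap : IsLocalHom (vMap A B S T) := by
  constructor
  intro x hx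
  obtain ⟨c, s, rfl⟩ := IsLocalization.exists_mk'_eq (Q A B S T).primeCompl x
  have h1 : vMap A B S T (IsLocalization.mk' _ c s) * phi A B S T (s : B ⊗[A] S) =
      phi A B S T c := by
    rw [← vMap_algebraMap, ← vMap_algebraMap A B S T c, ← map_mul, IsLocalization.mk'_spec]
  have h2 : IsUnit (phi A B S T c) := by
    rw [← h1]
    exact hx.mul (isUnit_phi A B S T s)
  have h3 : c ∉ Q A B S T := by
    intro hc
    exact (mem_maximalIdeal _).mp hc h2
  by_contra hnu
  have h4 : IsLocalization.mk' (Localization.AtPrime (Q A B S T)) c s ∈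
      maximalIdeal (Localization.AtPrime (Q A B S T)) := (mem_maximalIdeal _).mpr hnu
  rw [IsLocalization.AtPrime.mk'_mem_maximal_iff (Localization.AtPrime (Q A B S T))
    (Q A B S T) c s] at h4
  exact h3 h4

/-- The map `B → (B ⊗_A S)_Q`. -/
noncomputable def uMap : B →+* Localization.AtPrime (Q A B S T) :=
  (algebraMap (B ⊗[A] S) (Localization.AtPrime (Q A B S T))).comp
    (Algebra.TensorProduct.includeLeft : B →ₐ[A] B ⊗[A] S).toRingHom

/-- The map `S → (B ⊗_A S)_Q`. -/
noncomputable def jMap : S →+* Localization.AtPrime (Q A B S T) :=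
  (algebraMap (B ⊗[A] S) (Localization.AtPrime (Q A B S T))).comp
    (Algebra.TensorProduct.includeRight : S →ₐ[A] B ⊗[A] S).toRingHom

theorem uMap_apply (b : B) : uMap A B S T b = algebraMap _ _ (b ⊗ₜ[A] (1 : S)) := rfl

theorem jMap_apply (s : S) : jMap A B S T s = algebraMap _ _ ((1 : B) ⊗ₜ[A] s) := rfl

theorem vMap_uMap (b : B) : vMap A B S T (uMap A B S T b) = algebraMap B T b := by
  rw [uMap_apply, vMap_algebraMap]
  simp [phi]

theorem vMap_jMap (s : S) : vMap A B S T (jMap A B S T s) = algebraMap S T s := by
  rw [jMap_apply, vMap_algebraMap]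
  simp [phi]

theorem uMap_algebraMap (a : A) :
    uMap A B S T (algebraMap A B a) = jMap A B S T (algebraMap A S a) := by
  rw [uMap_apply, jMap_apply, Algebra.TensorProduct.tmul_one_eq_one_tmul]

instance isLocalHom_uMap [IsLocalRing B] [IsLocalHom (algebraMap B T)] :
    IsLocalHom (uMap A B S T) := by
  constructor
  intro x hx
  have h1 : IsUnit (vMap A B S T (uMap A B S T x)) := hx.map _
  rw [vMap_uMap] at h1
  exact IsLocalHom.map_nonunit (f := algebraMap B T) x h1

instance isLocalHom_jMap [IsLocalRing S] [IsLocalHom (algebraMap S T)] :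
    IsLocalHom (jMap A B S T) := by
  constructor
  intro x hx
  have h1 : IsUnit (vMap A B S T (jMap A B S T x)) := hx.map _
  rw [vMap_jMap] at h1
  exact IsLocalHom.map_nonunit (f := algebraMap S T) x h1

theorem vMap_comp_uMap : (vMap A B S T).comp (uMap A B S T) = algebraMap B T :=
  RingHom.ext fun b => vMap_uMap A B S T b

/-- Two local maps from `(B ⊗_A S)_Q` to a henselian local ring which agree on `B` and on
residue fields are equal. -/
theorem hepi_strict [IsLocalRing A] [IsLocalRing B] [IsLocalRing S]
    [IsLocalHom (algebraMap A S)] [IsLocalHom (algebraMap S T)] [IsLocalHom (algebraMap B T)]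
    [hS : Hensel.IsStrictHenselization A S]
    (T' : Type u) [CommRing T'] [HenselianLocalRing T']
    (f₁ f₂ : Localization.AtPrime (Q A B S T) →+* T') [h₁ : IsLocalHom f₁] [h₂ : IsLocalHom f₂]
    (h : f₁.comp (uMap A B S T) = f₂.comp (uMap A B S T))
    (hres : ResidueField.map f₁ = ResidueField.map f₂) : f₁ = f₂ := by
  apply IsLocalization.ringHom_ext (Q A B S T).primeCompl
  set D := Localization.AtPrime (Q A B S T)
  have hB : ∀ b : B, f₁ (algebraMap _ D (b ⊗ₜ[A] (1 : S))) = f₂ (algebraMap _ D (b ⊗ₜ[A] (1 : S))) := by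
    intro b
    exact congrArg (fun w => w b) h
  set j : S →+* D := jMap A B S T with hj_def
  have hjA : ∀ a : A, j (algebraMap A S a) = algebraMap _ D (algebraMap A B a ⊗ₜ[A] (1 : S)) :=
    fun a => (uMap_algebraMap A B S T a).symm
  have hAeq : (f₁.comp j).comp (algebraMap A S) = (f₂.comp j).comp (algebraMap A S) := by
    ext a
    simp only [RingHom.comp_apply, hjA, hB]
  haveI : IsLocalHom j := isLocalHom_jMap A B S T
  haveI : IsLocalHom (f₁.comp j) := RingHom.isLocalHom_comp _ _
  haveI : IsLocalHom (f₂.comp j) := RingHom.isLocalHom_comp _ _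
  haveI hloc : IsLocalHom ((f₁.comp j).comp (algebraMap A S)) := RingHom.isLocalHom_comp _ _
  have hτ : (ResidueField.map (f₁.comp j)).comp (ResidueField.map (algebraMap A S)) =
      ResidueField.map ((f₁.comp j).comp (algebraMap A S)) := by
    refine RingHom.ext fun x => ?_
    obtain ⟨a, rfl⟩ := residue_surjective x
    simp only [RingHom.comp_apply, ResidueField.map_residue]
  obtain ⟨g, -, hg⟩ := hS.universal T' _ (ResidueField.map (f₁.comp j)) hτ
  have e1 : f₁.comp j = g := hg _ ⟨rfl, fun x => (ResidueField.map_residue _ _).symm⟩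
  have e2 : f₂.comp j = g := hg _ ⟨hAeq.symm, fun x => by
    rw [ResidueField.map_residue, RingHom.comp_apply, RingHom.comp_apply,
      ← ResidueField.map_residue f₁, ← ResidueField.map_residue f₂, hres]⟩
  have hj : f₁.comp j = f₂.comp j := e1.trans e2.symm
  refine RingHom.ext fun d => ?_
  simp only [RingHom.comp_apply]
  induction d using TensorProduct.induction_on with
  | zero => simp
  | tmul b s =>
    have e3 : b ⊗ₜ[A] s = (b ⊗ₜ[A] (1 : S)) * ((1 : B) ⊗ₜ[A] s) := by
      rw [Algebra.TensorProduct.tmul_mul_tmul, mul_one, one_mul]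
    rw [e3, map_mul, map_mul, map_mul, hB b]
    congr 1
    exact congrArg (fun w => w s) hj
  | add x y hx hy => rw [map_add, map_add, map_add, hx, hy]

/-- `T` is a strict henselization of `(B ⊗_A S)_Q`. -/
theorem isStrictHenselization_localization [IsLocalRing A] [IsLocalRing B] [IsLocalRing S]
    [IsLocalHom (algebraMap A S)] [IsLocalHom (algebraMap S T)] [IsLocalHom (algebraMap B T)]
    [hS : Hensel.IsStrictHenselization A S] [hT : Hensel.IsStrictHenselization B T] :
    letI : Algebra (Localization.AtPrime (Q A B S T)) T := (vMap A B S T).toAlgebra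
    haveI : IsLocalHom (algebraMap (Localization.AtPrime (Q A B S T)) T) :=
      isLocalHom_vMap A B S T
    Hensel.IsStrictHenselization (Localization.AtPrime (Q A B S T)) T := by
  letI : Algebra (Localization.AtPrime (Q A B S T)) T := (vMap A B S T).toAlgebra
  haveI : IsLocalHom (algebraMap (Localization.AtPrime (Q A B S T)) T) :=
    isLocalHom_vMap A B S T
  exact isStrictHenselization_of_epi (uMap A B S T) (vMap_comp_uMap A B S T)
    (fun T' _ _ f₁ f₂ _ _ h hres => hepi_strict A B S T T' f₁ f₂ h hres)

/-- If `(B ⊗_A S)_Q` is strictly henselian, then it is isomorphic to `T`. -/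
theorem bijective_vMap [IsLocalRing A] [IsLocalRing B] [IsLocalRing S]
    [IsLocalHom (algebraMap A S)] [IsLocalHom (algebraMap S T)] [IsLocalHom (algebraMap B T)]
    [hS : Hensel.IsStrictHenselization A S] [hT : Hensel.IsStrictHenselization B T]
    [HenselianLocalRing (Localization.AtPrime (Q A B S T))]
    [IsSepClosed (ResidueField (Localization.AtPrime (Q A B S T)))] :
    Function.Bijective (vMap A B S T) := by
  letI : Algebra (Localization.AtPrime (Q A B S T)) T := (vMap A B S T).toAlgebra
  haveI : IsLocalHom (algebraMap (Localization.AtPrime (Q A B S T)) T) :=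
    isLocalHom_vMap A B S T
  haveI := isStrictHenselization_localization A B S T
  haveI := isStrictHenselization_self (Localization.AtPrime (Q A B S T))
  obtain ⟨e⟩ := nonempty_algEquiv_of_isStrictHenselization
    (R := Localization.AtPrime (Q A B S T)) (Localization.AtPrime (Q A B S T)) T
  have : ∀ d, vMap A B S T d = e d := by
    intro d
    have := e.commutes d
    rw [Algebra.algebraMap_self, RingHom.id_apply] at this
    exact this.symm
  have h2 : (vMap A B S T : _ → T) = e := funext this
  rw [h2]
  exact e.bijective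

end

end Groth.Agent.H8.Hens.LT

namespace Groth.Agent.H8.Hens.LT

universe u

/-- A local map from `A` to a strictly henselian local ring extends to a local map from a strict
henselization of `A`. -/
theorem exists_lift_of_isSepClosed {A S : Type u} [CommRing A] [IsLocalRing A] [CommRing S]
    [IsLocalRing S] [Algebra A S] [IsLocalHom (algebraMap A S)]
    [hS : Hensel.IsStrictHenselization A S] (T : Type u) [CommRing T] [HenselianLocalRing T]
    [IsSepClosed (ResidueField T)] (f : A →+* T) [IsLocalHom f] :
    ∃ ι : S →+* T, ι.comp (algebraMap A S) = f ∧ IsLocalHom ι := by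
  letI : Algebra (ResidueField A) (ResidueField T) := (ResidueField.map f).toAlgebra
  haveI := hS.isSepClosure.separable
  let τ : ResidueField S →ₐ[ResidueField A] ResidueField T := IsSepClosed.lift
  have hτ : τ.toRingHom.comp (ResidueField.map (algebraMap A S)) = ResidueField.map f := by
    refine RingHom.ext fun x => ?_
    exact τ.commutes x
  obtain ⟨g, ⟨hg1, hg2⟩, -⟩ := hS.universal T f τ.toRingHom hτ
  refine ⟨g, hg1, ?_⟩
  apply ((local_hom_TFAE g).out 0 3).mpr
  intro x hx
  rw [Ideal.mem_comap, ← residue_eq_zero_iff, hg2, (residue_eq_zero_iff x).mpr hx, map_zero]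

attribute [local instance] Algebra.TensorProduct.rightAlgebra in
theorem finite_tensor_right (A B S : Type*) [CommRing A] [CommRing B] [Algebra A B]
    [Module.Finite A B] [CommRing S] [Algebra A S] : Module.Finite S (B ⊗[A] S) :=
  Module.Finite.equiv (Algebra.TensorProduct.commRight A S B).toLinearEquiv

theorem isLocalHom_of_finite (A B : Type*) [CommRing A] [IsLocalRing A] [CommRing B]
    [IsLocalRing B] [Algebra A B] [Module.Finite A B] : IsLocalHom (algebraMap A B) := by
  have hker : RingHom.ker (algebraMap A B) ≤ maximalIdeal A := by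
    apply IsLocalRing.le_maximalIdeal
    exact RingHom.ker_ne_top _
  obtain ⟨Q, hQ, hQc⟩ := Ideal.exists_ideal_over_maximal_of_isIntegral (S := B) (maximalIdeal A) hker
  have hQ' : Q = maximalIdeal B := IsLocalRing.eq_maximalIdeal hQ
  rw [hQ'] at hQc
  exact ((local_hom_TFAE (algebraMap A B)).out 0 4).mpr hQc
    
end Groth.Agent.H8.Hens.LT
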