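import Mathlib
import Groth.Agent.Lib.Helper8.Hens.StrictTransfer
import Groth.Agent.Lib.Helper8.Hens.LocalTensor
import Groth.Agent.Lib.Helper8.Hens.PITensor

open IsLocalRing TensorProduct

namespace Groth.Agent.H8.Hens.ShT

universe u

section

variable (A B C : Type u) [CommRing A] [CommRing B]
    [CommRing C] [Algebra A B] [Algebra A C]
    (pA : Ideal A) [pA.IsPrime] (pB : Ideal B) [pB.IsPrime] [pB.LiesOver pA]
    (pC : Ideal C) [pC.IsPrime] [pC.LiesOver pA]
    (pD : Ideal (B ⊗[A] C)) [pD.IsPrime] [pD.LiesOver pB]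
    (Ash : Type u) [CommRing Ash] [IsLocalRing Ash] [Algebra (Localization.AtPrime pA) Ash]
    [IsLocalHom (algebraMap (Localization.AtPrime pA) Ash)]
    [Algebra A Ash]
    [IsScalarTower A (Localization.AtPrime pA) Ash]
    (Bsh : Type u) [CommRing Bsh] [IsLocalRing Bsh] [Algebra (Localization.AtPrime pB) Bsh]
    [IsLocalHom (algebraMap (Localization.AtPrime pB) Bsh)]
    [Algebra B Bsh]
    [IsScalarTower B (Localization.AtPrime pB) Bsh] [Algebra A Bsh] [IsScalarTower A B Bsh]
    [Algebra Ash Bsh] [IsScalarTower A Ash Bsh] [IsLocalHom (algebraMap Ash Bsh)]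
    (Csh : Type u) [CommRing Csh] [IsLocalRing Csh] [Algebra (Localization.AtPrime pC) Csh]
    [IsLocalHom (algebraMap (Localization.AtPrime pC) Csh)]
    [Algebra C Csh]
    [IsScalarTower C (Localization.AtPrime pC) Csh] [Algebra A Csh] [IsScalarTower A C Csh]
    [Algebra Ash Csh] [IsScalarTower A Ash Csh] [IsLocalHom (algebraMap Ash Csh)]
    (Dsh : Type u) [CommRing Dsh] [IsLocalRing Dsh] [Algebra (Localization.AtPrime pD) Dsh]
    [IsLocalHom (algebraMap (Localization.AtPrime pD) Dsh)]
    [Algebra (B ⊗[A] C) Dsh]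
    [IsScalarTower (B ⊗[A] C) (Localization.AtPrime pD) Dsh]
    [Algebra Bsh Dsh] [IsLocalHom (algebraMap Bsh Dsh)] [Algebra B Dsh] [IsScalarTower B Bsh Dsh]
    [IsScalarTower B (B ⊗[A] C) Dsh]
    [Algebra Csh Dsh] [IsLocalHom (algebraMap Csh Dsh)]
    [Algebra Ash Dsh] [IsScalarTower Ash Bsh Dsh] [IsScalarTower Ash Csh Dsh]

/-- The comparison map `B^sh ⊗_{A^sh} C^sh → D^sh`. -/
noncomputable abbrev Phi : Bsh ⊗[Ash] Csh →ₐ[Ash] Dsh :=
  Algebra.TensorProduct.lift (IsScalarTower.toAlgHom Ash Bsh Dsh)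
      (IsScalarTower.toAlgHom Ash Csh Dsh) (fun _ _ => Commute.all _ _)

/-- `B → B^sh ⊗ C^sh`. -/
noncomputable def gB : B →+* Bsh ⊗[Ash] Csh :=
  (Algebra.TensorProduct.includeLeftRingHom : Bsh →+* Bsh ⊗[Ash] Csh).comp (algebraMap B Bsh)

/-- `C → B^sh ⊗ C^sh`. -/
noncomputable def gC : C →+* Bsh ⊗[Ash] Csh :=
  (Algebra.TensorProduct.includeRight : Csh →ₐ[Ash] Bsh ⊗[Ash] Csh).toRingHom.comp
    (algebraMap C Csh)

theorem gB_algebraMap (a : A) :
    gB B Ash Bsh Csh (algebraMap A B a) = gC C Ash Bsh Csh (algebraMap A C a) := by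
  simp only [gB, gC, RingHom.comp_apply, AlgHom.toRingHom_eq_coe, RingHom.coe_coe,
    Algebra.TensorProduct.includeLeftRingHom_apply, Algebra.TensorProduct.includeRight_apply]
  rw [← IsScalarTower.algebraMap_apply A B Bsh, ← IsScalarTower.algebraMap_apply A C Csh,
    IsScalarTower.algebraMap_apply A Ash Bsh, IsScalarTower.algebraMap_apply A Ash Csh,
    Algebra.TensorProduct.tmul_one_eq_one_tmul]

/-- `B ⊗_A C → B^sh ⊗ C^sh`. -/
noncomputable def gMap : B ⊗[A] C →+* Bsh ⊗[Ash] Csh :=
  letI : Algebra A (Bsh ⊗[Ash] Csh) := ((gB B Ash Bsh Csh).comp (algebraMap A B)).toAlgebra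
  (Algebra.TensorProduct.productMap (⟨gB B Ash Bsh Csh, fun _ => rfl⟩ : B →ₐ[A] Bsh ⊗[Ash] Csh)
    (⟨gC C Ash Bsh Csh, fun a => (gB_algebraMap A B C Ash Bsh Csh a).symm⟩ :
      C →ₐ[A] Bsh ⊗[Ash] Csh)).toRingHom

theorem gMap_tmul (b : B) (c : C) : gMap A B C Ash Bsh Csh (b ⊗ₜ[A] c) =
    algebraMap B Bsh b ⊗ₜ[Ash] algebraMap C Csh c := by
  simp only [gMap, gB, gC, AlgHom.toRingHom_eq_coe, RingHom.coe_coe,
    Algebra.TensorProduct.productMap_apply_tmul]
  show (algebraMap B Bsh b ⊗ₜ[Ash] (1 : Csh)) * ((1 : Bsh) ⊗ₜ[Ash] algebraMap C Csh c) = _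
  rw [Algebra.TensorProduct.tmul_mul_tmul, mul_one, one_mul]

theorem Phi_gMap
    (hC : ∀ c : C, algebraMap Csh Dsh (algebraMap C Csh c) = algebraMap (B ⊗[A] C) Dsh (1 ⊗ₜ[A] c))
    (x : B ⊗[A] C) :
    Phi Ash Bsh Csh Dsh (gMap A B C Ash Bsh Csh x) = algebraMap (B ⊗[A] C) Dsh x := by
  induction x using TensorProduct.induction_on with
  | zero => simp
  | tmul b c =>
    have e3 : b ⊗ₜ[A] c = (b ⊗ₜ[A] (1 : C)) * ((1 : B) ⊗ₜ[A] c) := by
      rw [Algebra.TensorProduct.tmul_mul_tmul, mul_one, one_mul]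
    rw [gMap_tmul, Phi, Algebra.TensorProduct.lift_tmul, IsScalarTower.coe_toAlgHom',
      IsScalarTower.coe_toAlgHom', hC, ← IsScalarTower.algebraMap_apply B Bsh Dsh,
      IsScalarTower.algebraMap_apply B (B ⊗[A] C) Dsh, Algebra.TensorProduct.algebraMap_apply,
      Algebra.algebraMap_self, RingHom.id_apply, ← map_mul, ← e3]
  | add x y hx hy => rw [map_add, map_add, map_add, hx, hy]

/-- If `B^sh ⊗ C^sh` is strictly henselian and the comparison map is local, then it is bijective. -/
theorem bijective_Phi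
    [hB : Hensel.IsStrictHenselization (Localization.AtPrime pB) Bsh]
    [hCs : Hensel.IsStrictHenselization (Localization.AtPrime pC) Csh]
    [hD : Hensel.IsStrictHenselization (Localization.AtPrime pD) Dsh]
    (hC : ∀ c : C, algebraMap Csh Dsh (algebraMap C Csh c) = algebraMap (B ⊗[A] C) Dsh (1 ⊗ₜ[A] c))
    [hM : HenselianLocalRing (Bsh ⊗[Ash] Csh)] [IsSepClosed (ResidueField (Bsh ⊗[Ash] Csh))]
    [hΦ : IsLocalHom (Phi Ash Bsh Csh Dsh).toRingHom] :
    Function.Bijective (Phi Ash Bsh Csh Dsh) := by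
  set M := Bsh ⊗[Ash] Csh with hMdef
  set Φ : M →+* Dsh := (Phi Ash Bsh Csh Dsh).toRingHom with hΦdef
  set g := gMap A B C Ash Bsh Csh with hgdef
  have hΦg : ∀ x, Φ (g x) = algebraMap (B ⊗[A] C) Dsh x :=
    Phi_gMap A B C Ash Bsh Csh Dsh hC
  have hunit : ∀ s : pD.primeCompl, IsUnit (g s) := by
    intro s
    have h1 : IsUnit (Φ (g s)) := by
      rw [hΦg, IsScalarTower.algebraMap_apply (B ⊗[A] C) (Localization.AtPrime pD) Dsh]
      exact (IsLocalization.map_units (Localization.AtPrime pD) s).map _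
    exact IsLocalHom.map_nonunit (f := Φ) _ h1
  let g' : Localization.AtPrime pD →+* M :=
    IsLocalization.lift (M := pD.primeCompl) (g := g) hunit
  have hg' : ∀ x, g' (algebraMap _ _ x) = g x := fun x => IsLocalization.lift_eq _ _
  have hΦg' : Φ.comp g' = algebraMap (Localization.AtPrime pD) Dsh := by
    apply IsLocalization.ringHom_ext pD.primeCompl
    refine RingHom.ext fun x => ?_
    simp only [RingHom.comp_apply, hg', hΦg]
    rw [← IsScalarTower.algebraMap_apply]
  haveI hg'loc : IsLocalHom g' := by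
    constructor
    intro x hx
    have h1 : IsUnit (Φ (g' x)) := hx.map Φ
    have h2 : Φ (g' x) = algebraMap (Localization.AtPrime pD) Dsh x :=
      congrArg (fun w => w x) hΦg'
    rw [h2] at h1
    exact IsLocalHom.map_nonunit (f := algebraMap (Localization.AtPrime pD) Dsh) x h1
  have hκbij : Function.Bijective (ResidueField.map Φ) := by
    refine ⟨(ResidueField.map Φ).injective, ?_⟩
    letI : Algebra (ResidueField M) (ResidueField Dsh) := (ResidueField.map Φ).toAlgebra
    letI : Algebra (ResidueField (Localization.AtPrime pD)) (ResidueField M) :=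
      (ResidueField.map g').toAlgebra
    haveI : IsScalarTower (ResidueField (Localization.AtPrime pD)) (ResidueField M)
        (ResidueField Dsh) := by
      refine IsScalarTower.of_algebraMap_eq fun x => ?_
      obtain ⟨d, rfl⟩ := residue_surjective x
      show ResidueField.map (algebraMap _ Dsh) (residue _ d) =
        ResidueField.map Φ (ResidueField.map g' (residue _ d))
      rw [ResidueField.map_residue, ResidueField.map_residue, ResidueField.map_residue]
      rw [← congrArg (fun w => w d) hΦg']; rfl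
    haveI := hD.isSepClosure.separable
    haveI : Algebra.IsSeparable (ResidueField M) (ResidueField Dsh) :=
      Algebra.isSeparable_tower_top_of_isSeparable (ResidueField (Localization.AtPrime pD)) _ _
    exact IsSepClosed.algebraMap_surjective (ResidueField M) (ResidueField Dsh)
  let eκ : ResidueField M ≃+* ResidueField Dsh := RingEquiv.ofBijective _ hκbij
  let τ : ResidueField Dsh →+* ResidueField M := eκ.symm.toRingHom
  have hτΦ : ∀ x, τ (ResidueField.map Φ x) = x := fun x => eκ.symm_apply_apply x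
  have hΦτ : ∀ y, ResidueField.map Φ (τ y) = y := fun y => eκ.apply_symm_apply y
  have hτ : τ.comp (ResidueField.map (algebraMap (Localization.AtPrime pD) Dsh)) =
      ResidueField.map g' := by
    refine RingHom.ext fun x => ?_
    obtain ⟨d, rfl⟩ := residue_surjective x
    simp only [RingHom.comp_apply, ResidueField.map_residue]
    rw [← congrArg (fun w => w d) hΦg', RingHom.comp_apply, ← ResidueField.map_residue Φ, hτΦ]
  obtain ⟨ψ, ⟨hψ1, hψ2⟩, -⟩ := hD.universal M g' τ hτ
  have key : ∀ z : M, residue M (ψ (Φ z)) = residue M z := fun z => by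
    rw [hψ2, ← ResidueField.map_residue Φ, hτΦ]
  have h12 : Φ.comp ψ = RingHom.id Dsh := by
    haveI : HenselianLocalRing Dsh := hD.henselian
    have hτid : (RingHom.id (ResidueField Dsh)).comp
        (ResidueField.map (algebraMap (Localization.AtPrime pD) Dsh)) =
        ResidueField.map (algebraMap (Localization.AtPrime pD) Dsh) := RingHom.id_comp _
    obtain ⟨g₀, -, huniq⟩ :=
      hD.universal Dsh (algebraMap (Localization.AtPrime pD) Dsh) (RingHom.id _) hτid
    have e1 : Φ.comp ψ = g₀ := huniq _ ⟨by rw [RingHom.comp_assoc, hψ1, hΦg'], fun x => by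
      rw [RingHom.comp_apply, ← ResidueField.map_residue Φ, hψ2, hΦτ]; rfl⟩
    have e2 : RingHom.id Dsh = g₀ := huniq _ ⟨RingHom.id_comp _, fun x => rfl⟩
    rw [e1, e2]
  -- the `B^sh` part
  have hBpart : ∀ x : Bsh, ψ (Φ (x ⊗ₜ[Ash] (1 : Csh))) = x ⊗ₜ[Ash] (1 : Csh) := by
    let jB : Bsh →+* M := Algebra.TensorProduct.includeLeftRingHom
    have hΦj : Φ.comp jB = algebraMap Bsh Dsh := by
      refine RingHom.ext fun x => ?_
      show Phi Ash Bsh Csh Dsh (x ⊗ₜ[Ash] (1 : Csh)) = _
      simp [Phi]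
    haveI : IsLocalHom (Φ.comp jB) := by rw [hΦj]; infer_instance
    haveI : IsLocalHom jB := isLocalHom_of_comp jB Φ
    let fB : Localization.AtPrime pB →+* M := jB.comp (algebraMap (Localization.AtPrime pB) Bsh)
    haveI : IsLocalHom fB := RingHom.isLocalHom_comp _ _
    have hτB : (ResidueField.map jB).comp
        (ResidueField.map (algebraMap (Localization.AtPrime pB) Bsh)) = ResidueField.map fB := by
      refine RingHom.ext fun x => ?_
      obtain ⟨d, rfl⟩ := residue_surjective x
      simp only [RingHom.comp_apply, ResidueField.map_residue, fB]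
    obtain ⟨g₀, -, huniq⟩ := hB.universal M fB (ResidueField.map jB) hτB
    have e1 : jB = g₀ := huniq _ ⟨rfl, fun x => (ResidueField.map_residue _ _).symm⟩
    have e2 : (ψ.comp Φ).comp jB = g₀ := by
      refine huniq _ ⟨?_, fun x => ?_⟩
      · apply IsLocalization.ringHom_ext pB.primeCompl
        refine RingHom.ext fun b => ?_
        simp only [RingHom.comp_apply, fB, ← IsScalarTower.algebraMap_apply B
          (Localization.AtPrime pB) Bsh]
        have h1 : jB (algebraMap B Bsh b) = g (b ⊗ₜ[A] (1 : C)) := by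
          rw [hgdef, gMap_tmul, map_one]; rfl
        rw [h1, hΦg, IsScalarTower.algebraMap_apply (B ⊗[A] C) (Localization.AtPrime pD) Dsh]
        have h2 := congrArg (fun w => w (algebraMap (B ⊗[A] C) (Localization.AtPrime pD)
          (b ⊗ₜ[A] (1 : C)))) hψ1
        simp only [RingHom.comp_apply] at h2
        rw [h2, hg']
      · rw [RingHom.comp_apply, RingHom.comp_apply, key, ResidueField.map_residue]
    intro x
    exact congrArg (fun w => w x) (e2.trans e1.symm)
  have hCpart : ∀ y : Csh, ψ (Φ ((1 : Bsh) ⊗ₜ[Ash] y)) = (1 : Bsh) ⊗ₜ[Ash] y := by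
    let jC : Csh →+* M := (Algebra.TensorProduct.includeRight : Csh →ₐ[Ash] M).toRingHom
    have hΦj : Φ.comp jC = algebraMap Csh Dsh := by
      refine RingHom.ext fun x => ?_
      show Phi Ash Bsh Csh Dsh ((1 : Bsh) ⊗ₜ[Ash] x) = _
      simp [Phi]
    haveI : IsLocalHom (Φ.comp jC) := by rw [hΦj]; infer_instance
    haveI : IsLocalHom jC := isLocalHom_of_comp jC Φ
    let fC : Localization.AtPrime pC →+* M := jC.comp (algebraMap (Localization.AtPrime pC) Csh)
    haveI : IsLocalHom fC := RingHom.isLocalHom_comp _ _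
    have hτC : (ResidueField.map jC).comp
        (ResidueField.map (algebraMap (Localization.AtPrime pC) Csh)) = ResidueField.map fC := by
      refine RingHom.ext fun x => ?_
      obtain ⟨d, rfl⟩ := residue_surjective x
      simp only [RingHom.comp_apply, ResidueField.map_residue, fC]
    obtain ⟨g₀, -, huniq⟩ := hCs.universal M fC (ResidueField.map jC) hτC
    have e1 : jC = g₀ := huniq _ ⟨rfl, fun x => (ResidueField.map_residue _ _).symm⟩
    have e2 : (ψ.comp Φ).comp jC = g₀ := by
      refine huniq _ ⟨?_, fun x => ?_⟩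
      · apply IsLocalization.ringHom_ext pC.primeCompl
        refine RingHom.ext fun c => ?_
        simp only [RingHom.comp_apply, fC, ← IsScalarTower.algebraMap_apply C
          (Localization.AtPrime pC) Csh]
        have h1 : jC (algebraMap C Csh c) = g ((1 : B) ⊗ₜ[A] c) := by
          rw [hgdef, gMap_tmul, map_one]; rfl
        rw [h1, hΦg, IsScalarTower.algebraMap_apply (B ⊗[A] C) (Localization.AtPrime pD) Dsh]
        have h2 := congrArg (fun w => w (algebraMap (B ⊗[A] C) (Localization.AtPrime pD)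
          ((1 : B) ⊗ₜ[A] c))) hψ1
        simp only [RingHom.comp_apply] at h2
        rw [h2, hg']
      · rw [RingHom.comp_apply, RingHom.comp_apply, key, ResidueField.map_residue]
    intro y
    exact congrArg (fun w => w y) (e2.trans e1.symm)
  have h13 : ∀ z : M, ψ (Φ z) = z := by
    intro z
    induction z using TensorProduct.induction_on with
    | zero => simp
    | tmul x y =>
      have e3 : x ⊗ₜ[Ash] y = (x ⊗ₜ[Ash] (1 : Csh)) * ((1 : Bsh) ⊗ₜ[Ash] y) := by
        rw [Algebra.TensorProduct.tmul_mul_tmul, mul_one, one_mul]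
      rw [e3, map_mul, map_mul, hBpart, hCpart]
    | add x y hx hy => rw [map_add, map_add, hx, hy]
  refine ⟨?_, ?_⟩
  · intro z₁ z₂ h
    have : ψ (Φ z₁) = ψ (Φ z₂) := congrArg ψ h
    rwa [h13, h13] at this
  · intro d
    exact ⟨ψ d, congrArg (fun w => w d) h12⟩

end

section Finite

attribute [local instance] Algebra.TensorProduct.rightAlgebra

variable (K B' C' : Type u) [CommRing K] [IsLocalRing K]
    [CommRing B'] [IsLocalRing B'] [Algebra K B'] [IsLocalHom (algebraMap K B')]
    [CommRing C'] [Algebra K C']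

/-- A ring map from a local ring `M` integral over `C'` which is local on `C'` is local. -/
theorem isLocalHom_of_isIntegral_of_comp {C' M D' : Type*} [CommRing C'] [IsLocalRing C']
    [CommRing M] [IsLocalRing M] [Algebra C' M] [Algebra.IsIntegral C' M]
    [CommRing D'] [IsLocalRing D'] (Φ : M →+* D') [h : IsLocalHom (Φ.comp (algebraMap C' M))] :
    IsLocalHom Φ := by
  haveI : ((maximalIdeal D').comap Φ).IsPrime := Ideal.comap_isPrime _ _
  have h1 : ((maximalIdeal D').comap Φ).comap (algebraMap C' M) = maximalIdeal C' := by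
    rw [Ideal.comap_comap]
    exact ((local_hom_TFAE (Φ.comp (algebraMap C' M))).out 0 4).mp h
  haveI : ((maximalIdeal D').comap Φ).IsMaximal := by
    apply Ideal.isMaximal_of_isIntegral_of_isMaximal_comap (R := C')
    rw [h1]; infer_instance
  exact ((local_hom_TFAE Φ).out 0 4).mpr (IsLocalRing.eq_maximalIdeal inferInstance)

variable [Module.Finite K B']

theorem henselian_tensor_of_finite [HenselianLocalRing C'] [IsLocalRing (B' ⊗[K] C')] :
    HenselianLocalRing (B' ⊗[K] C') := by
  haveI : Module.Finite C' (B' ⊗[K] C') := LT.finite_tensor_right K B' C'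
  exact henselianLocalRing_of_finite C' (B' ⊗[K] C')

theorem isSepClosed_tensor_of_finite [IsLocalRing C'] [IsSepClosed (ResidueField C')]
    [IsLocalRing (B' ⊗[K] C')] : IsSepClosed (ResidueField (B' ⊗[K] C')) := by
  haveI : Module.Finite C' (B' ⊗[K] C') := LT.finite_tensor_right K B' C'
  haveI : IsLocalHom (algebraMap C' (B' ⊗[K] C')) := LT.isLocalHom_of_finite C' (B' ⊗[K] C')
  exact Algebra.IsAlgebraic.isSepClosed (F := ResidueField C')

end Finite

end Groth.Agent.H8.Hens.ShT
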