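import Mathlib
import Groth.Agent.Lib.Helper8.Hens.ShTensor
import Groth.Agent.Lib.Helper8.Hens.LocIntegral
import Groth.Agent.Lib.Helper8.Hens.IntegralBaseChange

open IsLocalRing TensorProduct

namespace Groth.Agent.H8.Hens.ShT

universe u

section General

/-- A nontrivial local ring integral over a local ring: the structure map is local. -/
theorem isLocalHom_of_isIntegral (A B : Type*) [CommRing A] [IsLocalRing A] [CommRing B]
    [IsLocalRing B] [Algebra A B] [Algebra.IsIntegral A B] : IsLocalHom (algebraMap A B) := by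
  have hker : RingHom.ker (algebraMap A B) ≤ maximalIdeal A := by
    apply IsLocalRing.le_maximalIdeal
    exact RingHom.ker_ne_top _
  obtain ⟨Q, hQ, hQc⟩ := Ideal.exists_ideal_over_maximal_of_isIntegral (S := B) (maximalIdeal A) hker
  have hQ' : Q = maximalIdeal B := IsLocalRing.eq_maximalIdeal hQ
  rw [hQ'] at hQc
  exact ((local_hom_TFAE (algebraMap A B)).out 0 4).mpr hQc

/-- Integral local extension induces an algebraic residue field extension. -/
theorem isAlgebraic_residueField (R D : Type*) [CommRing R] [IsLocalRing R] [CommRing D]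
    [IsLocalRing D] [Algebra R D] [IsLocalHom (algebraMap R D)] [Algebra.IsIntegral R D] :
    Algebra.IsAlgebraic (ResidueField R) (ResidueField D) := by
  haveI : Algebra.IsIntegral (ResidueField R) (ResidueField D) := by
    refine ⟨fun x => ?_⟩
    obtain ⟨d, rfl⟩ := residue_surjective x
    have hd : IsIntegral R d := Algebra.IsIntegral.isIntegral d
    refine hd.map_of_comp_eq (residue R) (residue D) ?_
    refine RingHom.ext fun r => ?_
    simp only [RingHom.comp_apply]
    exact (ResidueField.map_residue (algebraMap R D) r)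
  infer_instance

/-- Localization at a prime over the maximal ideal of a locally quasi-finite algebra over a
strictly henselian ring is strictly henselian. -/
theorem strictHenselian_localization (R : Type u) [CommRing R] [HenselianLocalRing R]
    [IsSepClosed (ResidueField R)]
    (E : Type u) [CommRing E] [Algebra R E] (Q : Ideal E) [Q.IsPrime]
    [Q.LiesOver (maximalIdeal R)]
    (H : ∀ F : Finset E, ∃ (E₀ : Type u) (_ : CommRing E₀) (_ : Algebra R E₀)
      (_ : Algebra.FiniteType R E₀) (φ : E₀ →ₐ[R] E),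
      (↑F : Set E) ⊆ Set.range φ ∧ Algebra.QuasiFiniteAt R (Q.comap φ.toRingHom)) :
    Algebra.IsIntegral R (Localization.AtPrime Q) ∧
    HenselianLocalRing (Localization.AtPrime Q) ∧
      IsSepClosed (ResidueField (Localization.AtPrime Q)) := by
  haveI hint : Algebra.IsIntegral R (Localization.AtPrime Q) :=
    LocInt.isIntegral_localization R E Q H
  haveI : HenselianLocalRing (Localization.AtPrime Q) := henselianLocalRing_of_isIntegral R _
  refine ⟨hint, inferInstance, ?_⟩
  haveI : IsLocalHom (algebraMap R (Localization.AtPrime Q)) := isLocalHom_of_isIntegral R _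
  haveI := isAlgebraic_residueField R (Localization.AtPrime Q)
  exact Algebra.IsAlgebraic.isSepClosed (F := ResidueField R)

end General

section AtPrime

variable (R : Type u) [CommRing R] (S : Type u) [CommRing S] [Algebra R S]
  (p : Ideal R) [p.IsPrime] (q : Ideal S) [q.IsPrime] [q.LiesOver p]
  (Rh : Type u) [CommRing Rh] [IsLocalRing Rh] [Algebra (Localization.AtPrime p) Rh]
  [IsLocalHom (algebraMap (Localization.AtPrime p) Rh)]
  [Algebra R Rh] [IsScalarTower R (Localization.AtPrime p) Rh]
  (Sh : Type u) [CommRing Sh] [IsLocalRing Sh] [Algebra (Localization.AtPrime q) Sh]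
  [IsLocalHom (algebraMap (Localization.AtPrime q) Sh)]
  [Algebra S Sh] [IsScalarTower S (Localization.AtPrime q) Sh] [Algebra R Sh] [IsScalarTower R S Sh]
  [Algebra Rh Sh] [IsScalarTower R Rh Sh]

/-- If `R^sh ⊗_R S` is locally quasi-finite at `Q`, then `S^sh` is integral over `R^sh`. -/
theorem isIntegral_of_locally_quasiFinite [IsLocalHom (algebraMap Rh Sh)]
    [hR : Hensel.IsStrictHenselization (Localization.AtPrime p) Rh]
    [hS : Hensel.IsStrictHenselization (Localization.AtPrime q) Sh]
    (H : ∀ F : Finset (Rh ⊗[R] S), ∃ (E₀ : Type u) (_ : CommRing E₀) (_ : Algebra Rh E₀)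
      (_ : Algebra.FiniteType Rh E₀) (φ : E₀ →ₐ[Rh] Rh ⊗[R] S),
      (↑F : Set (Rh ⊗[R] S)) ⊆ Set.range φ ∧
        Algebra.QuasiFiniteAt Rh ((Qp R S Rh Sh).comap φ.toRingHom)) :
    Algebra.IsIntegral Rh Sh := by
  haveI : HenselianLocalRing Rh := hR.henselian
  haveI : IsSepClosed (ResidueField Rh) := hR.isSepClosure.sep_closed
  haveI := Qp_liesOver R S Rh Sh
  obtain ⟨hint, hhens, hsep⟩ := strictHenselian_localization Rh (Rh ⊗[R] S) (Qp R S Rh Sh) H
  letI : Algebra (Localization.AtPrime (Qp R S Rh Sh)) Sh := (vMap R S Rh Sh).toAlgebra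
  haveI : IsLocalHom (algebraMap (Localization.AtPrime (Qp R S Rh Sh)) Sh) :=
    isLocalHom_vMap R S Rh Sh
  haveI := isStrictHenselization_atPrime R S p q Rh Sh
  haveI := isStrictHenselization_self (Localization.AtPrime (Qp R S Rh Sh))
  obtain ⟨e⟩ := nonempty_algEquiv_of_isStrictHenselization
    (R := Localization.AtPrime (Qp R S Rh Sh)) (Localization.AtPrime (Qp R S Rh Sh)) Sh
  have hve : ∀ d, vMap R S Rh Sh d = e d := by
    intro d
    have := e.commutes d
    rw [Algebra.algebraMap_self, RingHom.id_apply] at this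
    exact this.symm
  refine ⟨fun y => ?_⟩
  obtain ⟨d, rfl⟩ := e.surjective y
  rw [← hve]
  have hd : IsIntegral Rh d := Algebra.IsIntegral.isIntegral d
  refine hd.map_of_comp_eq (RingHom.id Rh) (vMap R S Rh Sh) ?_
  refine RingHom.ext fun r => ?_
  simp only [RingHom.comp_apply, RingHom.id_apply]
  rw [IsScalarTower.algebraMap_apply Rh (Rh ⊗[R] S) (Localization.AtPrime (Qp R S Rh Sh)),
    vMap_algebraMap]
  simp [phi, Algebra.TensorProduct.algebraMap_apply]

end AtPrime

section Main

variable (A B C : Type u) [CommRing A] [CommRing B]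
    [CommRing C] [Algebra A B] [Algebra A C]
    (pA : Ideal A) [pA.IsPrime] (pB : Ideal B) [pB.IsPrime] [pB.LiesOver pA]
    (pC : Ideal C) [pC.IsPrime] [pC.LiesOver pA]
    (pD : Ideal (B ⊗[A] C)) [pD.IsPrime] [pD.LiesOver pB]
    (Ash : Type u) [CommRing Ash] [IsLocalRing Ash] [Algebra (Localization.AtPrime pA) Ash]
    [IsLocalHom (algebraMap (Localization.AtPrime pA) Ash)]
    [Algebra A Ash]
    [IsScalarTower A (Localization.AtPrime pA) Ash]
    (Bsh : Type u) [CommRing Bsh] [IsLocalRing Bsh] [Algebra (Localization.AtPrime pB) Bsh]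
    [IsLocalHom (algebraMap (Localization.AtPrime pB) Bsh)]
    [Algebra B Bsh]
    [IsScalarTower B (Localization.AtPrime pB) Bsh] [Algebra A Bsh] [IsScalarTower A B Bsh]
    [Algebra Ash Bsh] [IsScalarTower A Ash Bsh] [IsLocalHom (algebraMap Ash Bsh)]
    (Csh : Type u) [CommRing Csh] [IsLocalRing Csh] [Algebra (Localization.AtPrime pC) Csh]
    [IsLocalHom (algebraMap (Localization.AtPrime pC) Csh)]
    [Algebra C Csh]
    [IsScalarTower C (Localization.AtPrime pC) Csh] [Algebra A Csh] [IsScalarTower A C Csh]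
    [Algebra Ash Csh] [IsScalarTower A Ash Csh] [IsLocalHom (algebraMap Ash Csh)]
    (Dsh : Type u) [CommRing Dsh] [IsLocalRing Dsh] [Algebra (Localization.AtPrime pD) Dsh]
    [IsLocalHom (algebraMap (Localization.AtPrime pD) Dsh)]
    [Algebra (B ⊗[A] C) Dsh]
    [IsScalarTower (B ⊗[A] C) (Localization.AtPrime pD) Dsh]
    [Algebra Bsh Dsh] [IsLocalHom (algebraMap Bsh Dsh)] [Algebra B Dsh] [IsScalarTower B Bsh Dsh]
    [IsScalarTower B (B ⊗[A] C) Dsh]
    [Algebra Csh Dsh] [IsLocalHom (algebraMap Csh Dsh)]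
    [Algebra Ash Dsh] [IsScalarTower Ash Bsh Dsh] [IsScalarTower Ash Csh Dsh]

/-- If `B^sh` is integral over `A^sh`, the comparison map is bijective. -/
theorem bijective_Phi_of_isIntegral
    [hA : Hensel.IsStrictHenselization (Localization.AtPrime pA) Ash]
    [hB : Hensel.IsStrictHenselization (Localization.AtPrime pB) Bsh]
    [hCs : Hensel.IsStrictHenselization (Localization.AtPrime pC) Csh]
    [hD : Hensel.IsStrictHenselization (Localization.AtPrime pD) Dsh]
    (hC : ∀ c : C, algebraMap Csh Dsh (algebraMap C Csh c) = algebraMap (B ⊗[A] C) Dsh (1 ⊗ₜ[A] c))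
    [Algebra.IsIntegral Ash Bsh] :
    Function.Bijective (Phi Ash Bsh Csh Dsh) := by
  haveI : IsSepClosed (ResidueField Ash) := hA.isSepClosure.sep_closed
  haveI : IsSepClosed (ResidueField Csh) := hCs.isSepClosure.sep_closed
  haveI : HenselianLocalRing Csh := hCs.henselian
  haveI := isAlgebraic_residueField Ash Bsh
  haveI : IsPurelyInseparable (ResidueField Ash) (ResidueField Bsh) :=
    Algebra.IsAlgebraic.isPurelyInseparable_of_isSepClosed
  haveI : Nontrivial (Bsh ⊗[Ash] Csh) := RingHom.domain_nontrivial (Phi Ash Bsh Csh Dsh).toRingHom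
  haveI : IsLocalRing (Bsh ⊗[Ash] Csh) := PI.isLocalRing_tensor' Ash Csh Bsh
  letI : Algebra Csh (Bsh ⊗[Ash] Csh) := Algebra.TensorProduct.rightAlgebra
  haveI : Algebra.IsIntegral Csh (Bsh ⊗[Ash] Csh) := isIntegral_tensor_right Ash Bsh Csh
  haveI : HenselianLocalRing (Bsh ⊗[Ash] Csh) := henselianLocalRing_of_isIntegral Csh _
  haveI : IsLocalHom (algebraMap Csh (Bsh ⊗[Ash] Csh)) := isLocalHom_of_isIntegral Csh _
  haveI := isAlgebraic_residueField Csh (Bsh ⊗[Ash] Csh)
  haveI : IsSepClosed (ResidueField (Bsh ⊗[Ash] Csh)) :=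
    Algebra.IsAlgebraic.isSepClosed (F := ResidueField Csh)
  haveI : IsLocalHom (Phi Ash Bsh Csh Dsh).toRingHom := by
    have h1 : (Phi Ash Bsh Csh Dsh).toRingHom.comp (algebraMap Csh (Bsh ⊗[Ash] Csh)) =
        algebraMap Csh Dsh := by
      refine RingHom.ext fun x => ?_
      show Phi Ash Bsh Csh Dsh ((1 : Bsh) ⊗ₜ[Ash] x) = _
      simp [Phi]
    haveI : IsLocalHom ((Phi Ash Bsh Csh Dsh).toRingHom.comp
        (algebraMap Csh (Bsh ⊗[Ash] Csh))) := by rw [h1]; infer_instance
    exact isLocalHom_of_isIntegral_of_comp (C' := Csh) _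
  exact bijective_Phi A B C pB pC pD Ash Bsh Csh Dsh hC

end Main

end Groth.Agent.H8.Hens.ShT
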