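import Mathlib
import Groth.Agent.Lib.Helper8.Hens.ShTensorIntegral
import Groth.Agent.Lib.Helper8.Hens.PITensor2

open IsLocalRing TensorProduct

namespace Groth.Agent.H8.Hens.SIB

universe u

attribute [local instance] Algebra.TensorProduct.rightAlgebra

section

variable (A B S : Type u) [CommRing A] [IsLocalRing A]
    [CommRing B] [IsLocalRing B] [Algebra A B] [IsLocalHom (algebraMap A B)] [Algebra.IsIntegral A B]
    [CommRing S] [IsLocalRing S] [Algebra A S] [IsLocalHom (algebraMap A S)]
    [hS : Hensel.IsStrictHenselization A S]

include hS in
theorem isLocalRing_tensor [IsPurelyInseparable (ResidueField A) (ResidueField B)] :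
    IsLocalRing (B ⊗[A] S) := by
  haveI : Nontrivial (S ⊗[A] B) := PI.nontrivial_tensor A S B
  haveI : Nontrivial (B ⊗[A] S) := (Algebra.TensorProduct.comm A B S).toEquiv.nontrivial
  exact PI.isLocalRing_tensor' A S B

include hS in
theorem isLocalHom_tensor : IsLocalHom (algebraMap B (B ⊗[A] S)) := by
  haveI : Module.FaithfullyFlat A S := faithfullyFlat_of_isStrictHenselization (R := A) S
  infer_instance

theorem isSeparable_residue_tensor [IsLocalRing (B ⊗[A] S)]
    [IsLocalHom (algebraMap B (B ⊗[A] S))] [IsLocalHom (algebraMap S (B ⊗[A] S))]
    [Algebra.IsSeparable (ResidueField A) (ResidueField S)] :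
    Algebra.IsSeparable (ResidueField B) (ResidueField (B ⊗[A] S)) := by
  set T := B ⊗[A] S
  haveI : IsLocalHom (algebraMap A T) := by
    have : algebraMap A T = (algebraMap B T).comp (algebraMap A B) :=
      IsScalarTower.algebraMap_eq A B T
    rw [this]
    exact RingHom.isLocalHom_comp _ _
  haveI : IsScalarTower (ResidueField A) (ResidueField B) (ResidueField T) := by
    refine IsScalarTower.of_algebraMap_eq fun x => ?_
    obtain ⟨a, rfl⟩ := residue_surjective x
    show ResidueField.map (algebraMap A T) (residue A a) =
      ResidueField.map (algebraMap B T) (ResidueField.map (algebraMap A B) (residue A a))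
    rw [ResidueField.map_residue, ResidueField.map_residue, ResidueField.map_residue,
      ← IsScalarTower.algebraMap_apply]
  haveI : IsScalarTower (ResidueField A) (ResidueField S) (ResidueField T) := by
    refine IsScalarTower.of_algebraMap_eq fun x => ?_
    obtain ⟨a, rfl⟩ := residue_surjective x
    show ResidueField.map (algebraMap A T) (residue A a) =
      ResidueField.map (algebraMap S T) (ResidueField.map (algebraMap A S) (residue A a))
    rw [ResidueField.map_residue, ResidueField.map_residue, ResidueField.map_residue]
    congr 1
    show algebraMap A T a = (1 : B) ⊗ₜ[A] algebraMap A S a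
    rw [Algebra.TensorProduct.algebraMap_apply, Algebra.TensorProduct.tmul_one_eq_one_tmul]
  refine ⟨fun x => ?_⟩
  obtain ⟨t, rfl⟩ := residue_surjective x
  induction t using TensorProduct.induction_on with
  | zero =>
    rw [map_zero, ← map_zero (algebraMap (ResidueField B) (ResidueField T))]
    exact isSeparable_algebraMap (0 : ResidueField B)
  | tmul b s =>
    have e3 : b ⊗ₜ[A] s = algebraMap B T b * algebraMap S T s := by
      show _ = (b ⊗ₜ[A] (1 : S)) * ((1 : B) ⊗ₜ[A] s)
      rw [Algebra.TensorProduct.tmul_mul_tmul, mul_one, one_mul]
    rw [e3, map_mul]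
    apply Field.isSeparable_mul
    · rw [← ResidueField.map_residue (algebraMap B T)]
      exact isSeparable_algebraMap (residue B b)
    · rw [← ResidueField.map_residue (algebraMap S T)]
      have h1 : IsSeparable (ResidueField A) (residue S s) :=
        Algebra.IsSeparable.isSeparable _ _
      have h2 : IsSeparable (ResidueField A)
          (IsScalarTower.toAlgHom (ResidueField A) (ResidueField S) (ResidueField T)
            (residue S s)) :=
        h1.map _ (RingHom.injective _)
      exact IsSeparable.tower_top (L := ResidueField B) h2
  | add x y hx hy => rw [map_add]; exact Field.isSeparable_add hx hy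

include hS in
/-- The base change of a strict henselization along an integral local homomorphism with purely
inseparable residue field extension is a strict henselization. -/
theorem isStrictHenselization_tensor
    [IsLocalRing (B ⊗[A] S)] [IsLocalHom (algebraMap B (B ⊗[A] S))] :
    Hensel.IsStrictHenselization B (B ⊗[A] S) := by
  set T := B ⊗[A] S
  haveI hSh : HenselianLocalRing S := hS.henselian
  haveI : IsSepClosed (ResidueField S) := hS.isSepClosure.sep_closed
  haveI : Algebra.IsSeparable (ResidueField A) (ResidueField S) := hS.isSepClosure.separable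
  haveI : Algebra.IsIntegral S T := isIntegral_tensor_right A B S
  haveI : IsLocalHom (algebraMap S T) := ShT.isLocalHom_of_isIntegral S T
  haveI hTh : HenselianLocalRing T := henselianLocalRing_of_isIntegral S T
  refine ⟨hTh, ⟨?_, isSeparable_residue_tensor A B S⟩, ?_⟩
  · haveI := ShT.isAlgebraic_residueField S T
    exact Algebra.IsAlgebraic.isSepClosed (F := ResidueField S)
  · intro T' _ _ f _ τ hτ
    let φ : A →+* T' := f.comp (algebraMap A B)
    haveI : IsLocalHom φ := RingHom.isLocalHom_comp f (algebraMap A B)
    let τ₀ : ResidueField S →+* ResidueField T' := τ.comp (ResidueField.map (algebraMap S T))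
    have hτ₀ : τ₀.comp (ResidueField.map (algebraMap A S)) = ResidueField.map φ := by
      refine RingHom.ext fun x => ?_
      obtain ⟨a, rfl⟩ := residue_surjective x
      simp only [RingHom.comp_apply, ResidueField.map_residue, τ₀, φ]
      have h1 : algebraMap S T (algebraMap A S a) = algebraMap B T (algebraMap A B a) := by
        show (1 : B) ⊗ₜ[A] algebraMap A S a = _
        rw [Algebra.TensorProduct.algebraMap_apply, Algebra.algebraMap_self, RingHom.id_apply,
          Algebra.TensorProduct.tmul_one_eq_one_tmul]
      have h2 := congrArg (fun w => w (residue B (algebraMap A B a))) hτ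
      simp only [RingHom.comp_apply, ResidueField.map_residue] at h2
      rw [h1, h2]
    obtain ⟨h, ⟨hh1, hh2⟩, huniq⟩ := hS.universal T' φ τ₀ hτ₀
    letI : Algebra A T' := φ.toAlgebra
    let fA : B →ₐ[A] T' := ⟨f, fun a => rfl⟩
    let hA : S →ₐ[A] T' := ⟨h, fun a => RingHom.congr_fun hh1 a⟩
    let g : T →ₐ[A] T' := Algebra.TensorProduct.productMap fA hA
    have hgB : ∀ b : B, g (algebraMap B T b) = f b := by
      intro b
      show g (b ⊗ₜ[A] (1 : S)) = f b
      rw [Algebra.TensorProduct.productMap_apply_tmul, map_one, mul_one]
      rfl
    have hgS : ∀ s : S, g (algebraMap S T s) = h s := by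
      intro s
      show g ((1 : B) ⊗ₜ[A] s) = h s
      rw [Algebra.TensorProduct.productMap_apply_tmul, map_one, one_mul]
      rfl
    have hτB : ∀ b : B, τ (residue T (algebraMap B T b)) = residue T' (f b) := by
      intro b
      have h2 := congrArg (fun w => w (residue B b)) hτ
      simp only [RingHom.comp_apply, ResidueField.map_residue] at h2
      exact h2
    have hτS : ∀ s : S, τ (residue T (algebraMap S T s)) = residue T' (h s) := by
      intro s
      rw [hh2]
      simp only [τ₀, RingHom.comp_apply, ResidueField.map_residue]
      rfl
    have hmul : ∀ (b : B) (s : S), b ⊗ₜ[A] s = algebraMap B T b * algebraMap S T s := by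
      intro b s
      show _ = (b ⊗ₜ[A] (1 : S)) * ((1 : B) ⊗ₜ[A] s)
      rw [Algebra.TensorProduct.tmul_mul_tmul, mul_one, one_mul]
    refine ⟨g.toRingHom, ⟨?_, ?_⟩, ?_⟩
    · exact RingHom.ext fun b => hgB b
    · intro t
      show residue T' (g t) = τ (residue T t)
      induction t using TensorProduct.induction_on with
      | zero => simp
      | tmul b s =>
        rw [hmul, map_mul, map_mul, map_mul, map_mul, hgB, hgS, hτB, hτS]
      | add x y hx hy => rw [map_add, map_add, map_add, map_add, hx, hy]
    · rintro g' ⟨hg'1, hg'2⟩
      have h1 : g'.comp (algebraMap S T) = h := by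
        apply huniq
        refine ⟨?_, fun s => ?_⟩
        · refine RingHom.ext fun a => ?_
          have h1 : algebraMap S T (algebraMap A S a) = algebraMap B T (algebraMap A B a) := by
            show (1 : B) ⊗ₜ[A] algebraMap A S a = _
            rw [Algebra.TensorProduct.algebraMap_apply, Algebra.algebraMap_self, RingHom.id_apply,
              Algebra.TensorProduct.tmul_one_eq_one_tmul]
          simp only [RingHom.comp_apply, h1, φ]
          exact RingHom.congr_fun hg'1 _
        · rw [RingHom.comp_apply, hg'2]
          simp only [τ₀, RingHom.comp_apply, ResidueField.map_residue]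
      refine RingHom.ext fun t => ?_
      induction t using TensorProduct.induction_on with
      | zero => simp
      | tmul b s =>
        have e1 : g' (algebraMap B T b) = f b := RingHom.congr_fun hg'1 b
        have e2 : g' (algebraMap S T s) = h s := RingHom.congr_fun h1 s
        rw [hmul, map_mul, e1, e2]
        show _ = g (algebraMap B T b * algebraMap S T s)
        rw [map_mul, hgB, hgS]
      | add x y hx hy => rw [map_add, map_add, hx, hy]

end

end Groth.Agent.H8.Hens.SIB
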