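import Mathlib
import Groth.Agent.Lib.Helper8.Hens.IntegralBaseChange
import Groth.Agent.Lib.Helper8.Hens.Normal

/-!
# Unibranch local rings and the henselization (helper8)
-/

universe u
open IsLocalRing TensorProduct

namespace Groth.Agent.H8.Hens

attribute [local instance] Algebra.TensorProduct.rightAlgebra

section Unibranch

variable (R₀ S₀ : Type u) [CommRing R₀] [IsLocalRing R₀] [IsDomain R₀] [CommRing S₀] [IsLocalRing S₀]
  [Algebra R₀ S₀] [IsLocalHom (algebraMap R₀ S₀)] [Hensel.IsHenselization R₀ S₀]

/-- If the normalization of the local domain `R₀` is local, its henselization is a domain. -/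
theorem isDomain_of_isLocalRing_integralClosure
    [IsLocalRing (integralClosure R₀ (FractionRing R₀))] : IsDomain S₀ := by
  haveI : IsIntegrallyClosed (integralClosure R₀ (FractionRing R₀)) :=
    integralClosure.isIntegrallyClosedOfFiniteExtension (FractionRing R₀)
  have hinj0 : Function.Injective (algebraMap R₀ (integralClosure R₀ (FractionRing R₀))) := by
    intro a b hab
    have := congrArg (algebraMap (integralClosure R₀ (FractionRing R₀)) (FractionRing R₀)) hab
    rw [← IsScalarTower.algebraMap_apply, ← IsScalarTower.algebraMap_apply] at this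
    exact IsFractionRing.injective R₀ (FractionRing R₀) this
  haveI : FaithfulSMul R₀ (integralClosure R₀ (FractionRing R₀)) :=
    (faithfulSMul_iff_algebraMap_injective _ _).mpr hinj0
  haveI : IsLocalHom (algebraMap R₀ (integralClosure R₀ (FractionRing R₀))) := inferInstance
  haveI := isLocalRing_tensor_of_isHenselization R₀ (integralClosure R₀ (FractionRing R₀)) S₀
  haveI := isLocalHom_tensor_of_isHenselization R₀ (integralClosure R₀ (FractionRing R₀)) S₀
  haveI hT := isHenselization_tensor_of_isIntegral R₀ (integralClosure R₀ (FractionRing R₀)) S₀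
  obtain ⟨hd, -⟩ := (normal_iff_of_isHenselization (R := integralClosure R₀ (FractionRing R₀))
    ((integralClosure R₀ (FractionRing R₀)) ⊗[R₀] S₀)).mp ⟨inferInstance, inferInstance⟩
  haveI : Module.Flat R₀ S₀ := flat_of_isHenselization (R := R₀) S₀
  have hinj : Function.Injective
      (Algebra.TensorProduct.includeRight :
        S₀ →ₐ[R₀] (integralClosure R₀ (FractionRing R₀)) ⊗[R₀] S₀) :=
    Algebra.TensorProduct.includeRight_injective hinj0
  exact hinj.isDomain (Algebra.TensorProduct.includeRight :
        S₀ →ₐ[R₀] (integralClosure R₀ (FractionRing R₀)) ⊗[R₀] S₀).toRingHom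

/-- If the henselization of the local domain `R₀` is a domain, the normalization of `R₀` is
local. -/
theorem isLocalRing_integralClosure_of_isDomain [IsDomain S₀] :
    IsLocalRing (integralClosure R₀ (FractionRing R₀)) := by
  haveI hS : HenselianLocalRing S₀ := Hensel.IsHenselization.henselian (R := R₀)
  haveI : Module.FaithfullyFlat R₀ S₀ := faithfullyFlat_of_isHenselization (R := R₀) S₀
  have hinjRS : Function.Injective (algebraMap R₀ S₀) := FaithfulSMul.algebraMap_injective R₀ S₀
  -- `K ⊗ S₀` is a domain
  haveI : IsDomain ((FractionRing R₀) ⊗[R₀] S₀) := by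
    refine IsLocalization.isDomain_of_le_nonZeroDivisors (R := S₀)
      (M := Algebra.algebraMapSubmonoid S₀ (nonZeroDivisors R₀)) _ ?_
    rintro _ ⟨r, hr, rfl⟩
    rw [mem_nonZeroDivisors_iff_ne_zero]
    intro h0
    rw [map_eq_zero_iff _ hinjRS] at h0
    exact nonZeroDivisors.ne_zero hr h0
  -- `R' ⊗ S₀` embeds into it
  have hinj₁ : Function.Injective (Algebra.TensorProduct.map
      (integralClosure R₀ (FractionRing R₀)).val (AlgHom.id R₀ S₀)) :=
    Module.Flat.rTensor_preserves_injective_linearMap
      (integralClosure R₀ (FractionRing R₀)).val.toLinearMap Subtype.val_injective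
  haveI : IsDomain ((integralClosure R₀ (FractionRing R₀)) ⊗[R₀] S₀) :=
    hinj₁.isDomain (Algebra.TensorProduct.map
      (integralClosure R₀ (FractionRing R₀)).val (AlgHom.id R₀ S₀)).toRingHom
  haveI : Algebra.IsIntegral S₀ ((integralClosure R₀ (FractionRing R₀)) ⊗[R₀] S₀) :=
    isIntegral_tensor_right R₀ _ S₀
  haveI hTloc : IsLocalRing ((integralClosure R₀ (FractionRing R₀)) ⊗[R₀] S₀) :=
    isLocalRing_of_isDomain_of_isIntegral S₀ ((integralClosure R₀ (FractionRing R₀)) ⊗[R₀] S₀)
  -- descend
  haveI : Module.FaithfullyFlat (integralClosure R₀ (FractionRing R₀))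
      ((integralClosure R₀ (FractionRing R₀)) ⊗[R₀] S₀) := inferInstance
  set R' := integralClosure R₀ (FractionRing R₀)
  set T := R' ⊗[R₀] S₀
  apply IsLocalRing.of_unique_max_ideal
  let n₀ : Ideal R' := (maximalIdeal T).comap (algebraMap R' T)
  have hn₀ : n₀ ≠ ⊤ := by
    intro h
    have : (1 : R') ∈ n₀ := by rw [h]; trivial
    rw [Ideal.mem_comap, map_one] at this
    exact (Ideal.ne_top_iff_one _).mp (maximalIdeal.isMaximal T).ne_top this
  have key : ∀ n : Ideal R', n.IsMaximal → n = n₀ := by
    intro n hn
    have h1 : n.map (algebraMap R' T) ≠ ⊤ := by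
      intro h
      have := Ideal.comap_map_eq_self_of_faithfullyFlat (B := T) n
      rw [h, Ideal.comap_top] at this
      exact hn.ne_top this.symm
    have h2 : n.map (algebraMap R' T) ≤ maximalIdeal T := le_maximalIdeal h1
    have h3 : n ≤ n₀ := Ideal.map_le_iff_le_comap.mp h2
    exact hn.eq_of_le hn₀ h3
  obtain ⟨n, hn⟩ := Ideal.exists_maximal R'
  exact ⟨n, hn, fun n' hn' => (key n' hn').trans (key n hn).symm⟩

end Unibranch

section BaseEquiv

/-- Transport of a henselization along an isomorphism of the base ring. -/
theorem isHenselization_of_ringEquiv {R R₀ S : Type u} [CommRing R] [IsLocalRing R] [CommRing R₀]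
    [IsLocalRing R₀] [CommRing S] [IsLocalRing S] [Algebra R S] [IsLocalHom (algebraMap R S)]
    [hS : Hensel.IsHenselization R S] [Algebra R₀ S] [IsLocalHom (algebraMap R₀ S)] (e : R ≃+* R₀)
    (he : (algebraMap R₀ S).comp (e : R →+* R₀) = algebraMap R S) : Hensel.IsHenselization R₀ S where
  henselian := hS.henselian
  universal T _ _ f hf := by
    haveI : IsLocalHom (e : R →+* R₀) := ⟨fun a ha => by
      have := ha.map (e.symm : R₀ →+* R)
      simpa using this⟩
    have hfe : IsLocalHom (f.comp (e : R →+* R₀)) := RingHom.isLocalHom_comp _ _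
    obtain ⟨g, hg, hgu⟩ := hS.universal T (f.comp (e : R →+* R₀)) hfe
    refine ⟨g, ?_, ?_⟩
    · refine RingHom.ext fun x => ?_
      obtain ⟨r, rfl⟩ := e.surjective x
      have h1 := congrArg (fun w => w r) hg
      have h2 := congrArg (fun w => w r) he
      simp only [RingHom.comp_apply, RingHom.coe_coe] at h1 h2
      rw [RingHom.comp_apply, h2, h1]
    · intro g' hg'
      apply hgu
      rw [← he, ← RingHom.comp_assoc, hg']

end BaseEquiv

section Main

variable (R S : Type u) [CommRing R] [IsLocalRing R] [CommRing S] [IsLocalRing S] [Algebra R S]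
  [IsLocalHom (algebraMap R S)] [Hensel.IsHenselization R S]

/-- A local ring is reduced and unibranch iff its henselization is a domain. -/
theorem unibranch_iff_isDomain :
    (IsReduced R ∧ IsDomain (R ⧸ nilradical R) ∧
      IsLocalRing (integralClosure (R ⧸ nilradical R) (FractionRing (R ⧸ nilradical R)))) ↔
      IsDomain S := by
  haveI : Module.FaithfullyFlat R S := faithfullyFlat_of_isHenselization (R := R) S
  have hinjRS : Function.Injective (algebraMap R S) := FaithfulSMul.algebraMap_injective R S
  -- common set-up, assuming `nilradical R = ⊥`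
  have main : nilradical R = ⊥ →
      ((IsDomain (R ⧸ nilradical R) ∧
        IsLocalRing (integralClosure (R ⧸ nilradical R) (FractionRing (R ⧸ nilradical R)))) ↔
        IsDomain S) := by
    intro hnil
    let e : R ≃+* R ⧸ nilradical R :=
      (RingEquiv.quotientBot R).symm.trans (Ideal.quotEquivOfEq hnil.symm)
    have he : ∀ r, e r = Ideal.Quotient.mk _ r := fun r => rfl
    haveI : IsLocalRing (R ⧸ nilradical R) := e.isLocalRing
    letI : Algebra (R ⧸ nilradical R) S :=
      ((algebraMap R S).comp (e.symm : R ⧸ nilradical R →+* R)).toAlgebra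
    have hcomp : (algebraMap (R ⧸ nilradical R) S).comp (e : R →+* R ⧸ nilradical R) =
        algebraMap R S := by
      refine RingHom.ext fun r => ?_
      show algebraMap R S (e.symm (e r)) = _
      rw [e.symm_apply_apply]
    haveI : IsLocalHom (algebraMap (R ⧸ nilradical R) S) := by
      haveI : IsLocalHom (e.symm : R ⧸ nilradical R →+* R) := ⟨fun a ha => by
        have := ha.map (e : R →+* R ⧸ nilradical R)
        simpa using this⟩
      exact RingHom.isLocalHom_comp _ _
    haveI : Hensel.IsHenselization (R ⧸ nilradical R) S := isHenselization_of_ringEquiv e hcomp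
    constructor
    · rintro ⟨hd, hl⟩
      exact isDomain_of_isLocalRing_integralClosure (R ⧸ nilradical R) S
    · intro hS
      haveI hdR : IsDomain R := hinjRS.isDomain (algebraMap R S)
      haveI : IsDomain (R ⧸ nilradical R) := e.symm.injective.isDomain (e.symm : _ →+* R)
      exact ⟨inferInstance, isLocalRing_integralClosure_of_isDomain (R ⧸ nilradical R) S⟩
  constructor
  · rintro ⟨hred, h⟩
    exact (main (nilradical_eq_zero R)).mp h
  · intro hS
    haveI hdR : IsDomain R := hinjRS.isDomain (algebraMap R S)
    exact ⟨inferInstance, (main (nilradical_eq_zero R)).mpr hS⟩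

end Main

end Groth.Agent.H8.Hens
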