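import Mathlib
import Groth.Agent.Lib.Helper8.Hens.StrictIntegralBaseChange
import Groth.Agent.Lib.Helper8.Hens.Unibranch
import Groth.Prelude.Def_CAlg2

universe u
open IsLocalRing TensorProduct

namespace Groth.Agent.H8.Hens.GU

attribute [local instance] Algebra.TensorProduct.rightAlgebra

section BaseEquiv

/-- Transport of a strict henselization along an isomorphism of the base ring. -/
theorem isStrictHenselization_of_ringEquiv {R R₀ S : Type u} [CommRing R] [IsLocalRing R]
    [CommRing R₀] [IsLocalRing R₀] [CommRing S] [IsLocalRing S] [Algebra R S]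
    [IsLocalHom (algebraMap R S)]
    [hS : Hensel.IsStrictHenselization R S] [Algebra R₀ S] [IsLocalHom (algebraMap R₀ S)]
    (e : R ≃+* R₀)
    (he : (algebraMap R₀ S).comp (e : R →+* R₀) = algebraMap R S) :
    Hensel.IsStrictHenselization R₀ S := by
  haveI heloc : IsLocalHom (e : R →+* R₀) := ⟨fun a ha => by
    have := ha.map (e.symm : R₀ →+* R)
    simpa using this⟩
  have heS : ∀ r, algebraMap R₀ S (e r) = algebraMap R S r := fun r =>
    congrArg (fun w => w r) he
  refine ⟨hS.henselian, ⟨hS.isSepClosure.sep_closed, ?_⟩, ?_⟩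
  · letI : Algebra (ResidueField R) (ResidueField R₀) :=
      (ResidueField.map (e : R →+* R₀)).toAlgebra
    haveI : IsScalarTower (ResidueField R) (ResidueField R₀) (ResidueField S) := by
      refine IsScalarTower.of_algebraMap_eq fun x => ?_
      obtain ⟨r, rfl⟩ := residue_surjective x
      show ResidueField.map (algebraMap R S) (residue R r) =
        ResidueField.map (algebraMap R₀ S) (ResidueField.map (e : R →+* R₀) (residue R r))
      rw [ResidueField.map_residue, ResidueField.map_residue, ResidueField.map_residue]
      congr 1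
      exact (heS r).symm
    haveI := hS.isSepClosure.separable
    exact Algebra.isSeparable_tower_top_of_isSeparable (ResidueField R) (ResidueField R₀)
      (ResidueField S)
  · intro T _ _ f _ τ hτ
    haveI hfe : IsLocalHom (f.comp (e : R →+* R₀)) := RingHom.isLocalHom_comp _ _
    have hτ' : τ.comp (ResidueField.map (algebraMap R S)) =
        ResidueField.map (f.comp (e : R →+* R₀)) := by
      refine RingHom.ext fun x => ?_
      obtain ⟨r, rfl⟩ := residue_surjective x
      simp only [RingHom.comp_apply, ResidueField.map_residue]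
      have h2 := congrArg (fun w => w (residue R₀ (e r))) hτ
      simp only [RingHom.comp_apply, ResidueField.map_residue] at h2
      rw [← heS r]
      exact h2
    obtain ⟨g, ⟨hg1, hg2⟩, hgu⟩ := hS.universal T (f.comp (e : R →+* R₀)) τ hτ'
    refine ⟨g, ⟨?_, hg2⟩, ?_⟩
    · refine RingHom.ext fun x => ?_
      obtain ⟨r, rfl⟩ := e.surjective x
      have h1 := congrArg (fun w => w r) hg1
      simp only [RingHom.comp_apply, RingHom.coe_coe] at h1
      rw [RingHom.comp_apply, heS r, h1]
    · rintro g' ⟨hg'1, hg'2⟩
      apply hgu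
      refine ⟨?_, hg'2⟩
      rw [← he, ← RingHom.comp_assoc, hg'1]

end BaseEquiv

section Domain

variable (R₀ S₀ : Type u) [CommRing R₀] [IsLocalRing R₀] [IsDomain R₀] [CommRing S₀] [IsLocalRing S₀]
  [Algebra R₀ S₀] [IsLocalHom (algebraMap R₀ S₀)]

local notation "R'" => integralClosure R₀ (FractionRing R₀)

theorem injective_algebraMap_integralClosure :
    Function.Injective (algebraMap R₀ (integralClosure R₀ (FractionRing R₀))) := by
  intro a b hab
  have := congrArg (algebraMap (integralClosure R₀ (FractionRing R₀)) (FractionRing R₀)) hab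
  rw [← IsScalarTower.algebraMap_apply, ← IsScalarTower.algebraMap_apply] at this
  exact IsFractionRing.injective R₀ (FractionRing R₀) this

instance faithfulSMul_integralClosure :
    FaithfulSMul R₀ (integralClosure R₀ (FractionRing R₀)) :=
  (faithfulSMul_iff_algebraMap_injective _ _).mpr (injective_algebraMap_integralClosure R₀)

/-- If the normalization of the local domain `R₀` is local with purely inseparable residue field
extension, the strict henselization of `R₀` is a domain. -/
theorem isDomain_of_geomUnibranch [hS : Hensel.IsStrictHenselization R₀ S₀]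
    [IsLocalRing (integralClosure R₀ (FractionRing R₀))]
    [IsPurelyInseparable (ResidueField R₀)
      (ResidueField (integralClosure R₀ (FractionRing R₀)))] : IsDomain S₀ := by
  haveI : IsIntegrallyClosed (integralClosure R₀ (FractionRing R₀)) :=
    integralClosure.isIntegrallyClosedOfFiniteExtension (FractionRing R₀)
  have hinj0 := injective_algebraMap_integralClosure R₀
  haveI := SIB.isLocalRing_tensor R₀ (integralClosure R₀ (FractionRing R₀)) S₀
  haveI := SIB.isLocalHom_tensor R₀ (integralClosure R₀ (FractionRing R₀)) S₀
  haveI hT := SIB.isStrictHenselization_tensor R₀ (integralClosure R₀ (FractionRing R₀)) S₀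
  obtain ⟨hd, -⟩ := (normal_iff_of_isStrictHenselization
    (R := integralClosure R₀ (FractionRing R₀))
    ((integralClosure R₀ (FractionRing R₀)) ⊗[R₀] S₀)).mp ⟨inferInstance, inferInstance⟩
  haveI : Module.Flat R₀ S₀ := flat_of_isStrictHenselization (R := R₀) S₀
  have hinj : Function.Injective
      (Algebra.TensorProduct.includeRight :
        S₀ →ₐ[R₀] (integralClosure R₀ (FractionRing R₀)) ⊗[R₀] S₀) :=
    Algebra.TensorProduct.includeRight_injective hinj0
  exact hinj.isDomain (Algebra.TensorProduct.includeRight :
        S₀ →ₐ[R₀] (integralClosure R₀ (FractionRing R₀)) ⊗[R₀] S₀).toRingHom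

/-- If `S₀` is a henselian local domain, faithfully flat over `R₀`, then both `R' ⊗ S₀` and the
normalization `R'` are local. -/
theorem isLocalRing_of_isDomain [HenselianLocalRing S₀] [Module.FaithfullyFlat R₀ S₀]
    [IsDomain S₀] :
    IsLocalRing ((integralClosure R₀ (FractionRing R₀)) ⊗[R₀] S₀) ∧
      IsLocalRing (integralClosure R₀ (FractionRing R₀)) := by
  have hinjRS : Function.Injective (algebraMap R₀ S₀) := FaithfulSMul.algebraMap_injective R₀ S₀
  haveI : IsDomain ((FractionRing R₀) ⊗[R₀] S₀) := by
    refine IsLocalization.isDomain_of_le_nonZeroDivisors (R := S₀)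
      (M := Algebra.algebraMapSubmonoid S₀ (nonZeroDivisors R₀)) _ ?_
    rintro _ ⟨r, hr, rfl⟩
    rw [mem_nonZeroDivisors_iff_ne_zero]
    intro h0
    rw [map_eq_zero_iff _ hinjRS] at h0
    exact nonZeroDivisors.ne_zero hr h0
  have hinj₁ : Function.Injective (Algebra.TensorProduct.map
      (integralClosure R₀ (FractionRing R₀)).val (AlgHom.id R₀ S₀)) :=
    Module.Flat.rTensor_preserves_injective_linearMap
      (integralClosure R₀ (FractionRing R₀)).val.toLinearMap Subtype.val_injective
  haveI : IsDomain ((integralClosure R₀ (FractionRing R₀)) ⊗[R₀] S₀) :=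
    hinj₁.isDomain (Algebra.TensorProduct.map
      (integralClosure R₀ (FractionRing R₀)).val (AlgHom.id R₀ S₀)).toRingHom
  haveI : Algebra.IsIntegral S₀ ((integralClosure R₀ (FractionRing R₀)) ⊗[R₀] S₀) :=
    isIntegral_tensor_right R₀ _ S₀
  haveI hTloc : IsLocalRing ((integralClosure R₀ (FractionRing R₀)) ⊗[R₀] S₀) :=
    isLocalRing_of_isDomain_of_isIntegral S₀ ((integralClosure R₀ (FractionRing R₀)) ⊗[R₀] S₀)
  refine ⟨hTloc, ?_⟩
  haveI : Module.FaithfullyFlat (integralClosure R₀ (FractionRing R₀))
      ((integralClosure R₀ (FractionRing R₀)) ⊗[R₀] S₀) := inferInstance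
  set R'' := integralClosure R₀ (FractionRing R₀)
  set T := R'' ⊗[R₀] S₀
  apply IsLocalRing.of_unique_max_ideal
  let n₀ : Ideal R'' := (maximalIdeal T).comap (algebraMap R'' T)
  have hn₀ : n₀ ≠ ⊤ := by
    intro h
    have : (1 : R'') ∈ n₀ := by rw [h]; trivial
    rw [Ideal.mem_comap, map_one] at this
    exact (Ideal.ne_top_iff_one _).mp (maximalIdeal.isMaximal T).ne_top this
  have key : ∀ n : Ideal R'', n.IsMaximal → n = n₀ := by
    intro n hn
    have h1 : n.map (algebraMap R'' T) ≠ ⊤ := by
      intro h
      have := Ideal.comap_map_eq_self_of_faithfullyFlat (B := T) n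
      rw [h, Ideal.comap_top] at this
      exact hn.ne_top this.symm
    have h2 : n.map (algebraMap R'' T) ≤ maximalIdeal T := le_maximalIdeal h1
    have h3 : n ≤ n₀ := Ideal.map_le_iff_le_comap.mp h2
    exact hn.eq_of_le hn₀ h3
  obtain ⟨n, hn⟩ := Ideal.exists_maximal R''
  exact ⟨n, hn, fun n' hn' => (key n' hn').trans (key n hn).symm⟩

end Domain

section PurelyInsep

variable (A B S : Type u) [CommRing A] [IsLocalRing A]
    [CommRing B] [IsLocalRing B] [Algebra A B] [IsLocalHom (algebraMap A B)] [Algebra.IsIntegral A B]
    [CommRing S] [IsLocalRing S] [Algebra A S] [IsLocalHom (algebraMap A S)]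

/-- If `B ⊗_A S` is local, where `κ(S)` is a separable closure of `κ(A)`, then `κ(B)/κ(A)` is
purely inseparable. -/
theorem isPurelyInseparable_of_isLocalRing_tensor
    [Algebra.IsSeparable (ResidueField A) (ResidueField S)] [IsSepClosed (ResidueField S)]
    [IsLocalRing (B ⊗[A] S)] :
    IsPurelyInseparable (ResidueField A) (ResidueField B) := by
  set T := B ⊗[A] S
  set Ω := AlgebraicClosure (ResidueField B)
  haveI : Algebra.IsIntegral S T := isIntegral_tensor_right A B S
  haveI : IsLocalHom (algebraMap S T) := ShT.isLocalHom_of_isIntegral S T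
  haveI := ShT.isAlgebraic_residueField S T
  haveI : IsPurelyInseparable (ResidueField S) (ResidueField T) :=
    Algebra.IsAlgebraic.isPurelyInseparable_of_isSepClosed
  rw [isPurelyInseparable_iff_subsingleton_emb]
  let ι : ResidueField S →ₐ[ResidueField A] Ω := IsSepClosed.lift
  letI : Algebra A Ω := ((algebraMap (ResidueField A) Ω).comp (residue A)).toAlgebra
  let hι : S →ₐ[A] Ω :=
    { toRingHom := ι.toRingHom.comp (residue S)
      commutes' := fun a => by
        show ι (residue S (algebraMap A S a)) = algebraMap (ResidueField A) Ω (residue A a)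
        rw [← ResidueField.map_residue (algebraMap A S)]
        exact ι.commutes _ }
  let fσ : (ResidueField B →ₐ[ResidueField A] Ω) → (B →ₐ[A] Ω) := fun σ =>
    { toRingHom := σ.toRingHom.comp (residue B)
      commutes' := fun a => by
        show σ (residue B (algebraMap A B a)) = algebraMap (ResidueField A) Ω (residue A a)
        rw [← ResidueField.map_residue (algebraMap A B)]
        exact σ.commutes _ }
  let Φ : (ResidueField B →ₐ[ResidueField A] Ω) → (T →ₐ[A] Ω) := fun σ =>
    Algebra.TensorProduct.productMap (fσ σ) hι
  have hΦB : ∀ σ (b : B), Φ σ (algebraMap B T b) = σ (residue B b) := by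
    intro σ b
    show Algebra.TensorProduct.productMap (fσ σ) hι (b ⊗ₜ[A] (1 : S)) = _
    rw [Algebra.TensorProduct.productMap_apply_tmul, map_one, mul_one]
    rfl
  have hΦS : ∀ σ (s : S), Φ σ (algebraMap S T s) = ι (residue S s) := by
    intro σ s
    show Algebra.TensorProduct.productMap (fσ σ) hι ((1 : B) ⊗ₜ[A] s) = _
    rw [Algebra.TensorProduct.productMap_apply_tmul, map_one, one_mul]
    rfl
  have hker : ∀ σ, RingHom.ker (Φ σ).toRingHom = maximalIdeal T := by
    intro σ
    haveI : (RingHom.ker (Φ σ).toRingHom).IsPrime := RingHom.ker_isPrime _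
    have h1 : (RingHom.ker (Φ σ).toRingHom).comap (algebraMap S T) = maximalIdeal S := by
      ext s
      rw [Ideal.mem_comap, RingHom.mem_ker]
      show Φ σ (algebraMap S T s) = 0 ↔ _
      rw [hΦS, map_eq_zero_iff ι ι.toRingHom.injective, residue_eq_zero_iff]
    haveI : (RingHom.ker (Φ σ).toRingHom).IsMaximal := by
      apply Ideal.isMaximal_of_isIntegral_of_isMaximal_comap (R := S)
      rw [h1]; infer_instance
    exact IsLocalRing.eq_maximalIdeal inferInstance
  have hloc : ∀ σ, IsLocalHom (Φ σ).toRingHom := by
    intro σ
    constructor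
    intro x hx
    by_contra hnu
    have h1 : x ∈ maximalIdeal T := (mem_maximalIdeal _).mpr hnu
    rw [← hker σ, RingHom.mem_ker] at h1
    rw [h1] at hx
    exact not_isUnit_zero hx
  refine ⟨fun σ₁ σ₂ => ?_⟩
  haveI := hloc σ₁
  haveI := hloc σ₂
  let Φ₁ : ResidueField T →+* Ω := ResidueField.lift (Φ σ₁).toRingHom
  let Φ₂ : ResidueField T →+* Ω := ResidueField.lift (Φ σ₂).toRingHom
  have h12 : Φ₁ = Φ₂ := by
    apply IsPurelyInseparable.injective_comp_algebraMap (ResidueField S) (ResidueField T) Ω
    refine RingHom.ext fun x => ?_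
    obtain ⟨s, rfl⟩ := residue_surjective x
    show Φ₁ (ResidueField.map (algebraMap S T) (residue S s)) =
      Φ₂ (ResidueField.map (algebraMap S T) (residue S s))
    rw [ResidueField.map_residue]
    show ResidueField.lift (Φ σ₁).toRingHom (residue T _) =
      ResidueField.lift (Φ σ₂).toRingHom (residue T _)
    rw [ResidueField.lift_residue_apply, ResidueField.lift_residue_apply]
    show Φ σ₁ (algebraMap S T s) = Φ σ₂ (algebraMap S T s)
    rw [hΦS, hΦS]
  refine AlgHom.ext fun x => ?_
  obtain ⟨b, rfl⟩ := residue_surjective x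
  rw [← hΦB σ₁, ← hΦB σ₂]
  have e1 : Φ σ₁ (algebraMap B T b) = Φ₁ (residue T (algebraMap B T b)) :=
    (ResidueField.lift_residue_apply (Φ σ₁).toRingHom _).symm
  have e2 : Φ σ₂ (algebraMap B T b) = Φ₂ (residue T (algebraMap B T b)) :=
    (ResidueField.lift_residue_apply (Φ σ₂).toRingHom _).symm
  rw [e1, e2, h12]

end PurelyInsep

section Main

variable (R S : Type u) [CommRing R] [IsLocalRing R] [CommRing S] [IsLocalRing S] [Algebra R S]
  [IsLocalHom (algebraMap R S)] [hS : Hensel.IsStrictHenselization R S]

/-- A local ring is reduced and geometrically unibranch iff its strict henselization is a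
domain. -/
theorem geomUnibranch_iff_isDomain :
    (IsReduced R ∧ CAlg2.IsGeomUnibranch R) ↔ IsDomain S := by
  haveI : Module.FaithfullyFlat R S := faithfullyFlat_of_isStrictHenselization (R := R) S
  have hinjRS : Function.Injective (algebraMap R S) := FaithfulSMul.algebraMap_injective R S
  have main : nilradical R = ⊥ → (CAlg2.IsGeomUnibranch R ↔ IsDomain S) := by
    intro hnil
    let e : R ≃+* R ⧸ nilradical R :=
      (RingEquiv.quotientBot R).symm.trans (Ideal.quotEquivOfEq hnil.symm)
    have he : ∀ r, e r = Ideal.Quotient.mk _ r := fun r => rfl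
    haveI : IsLocalRing (R ⧸ nilradical R) := e.isLocalRing
    letI : Algebra (R ⧸ nilradical R) S :=
      ((algebraMap R S).comp (e.symm : R ⧸ nilradical R →+* R)).toAlgebra
    have hcomp : (algebraMap (R ⧸ nilradical R) S).comp (e : R →+* R ⧸ nilradical R) =
        algebraMap R S := by
      refine RingHom.ext fun r => ?_
      show algebraMap R S (e.symm (e r)) = _
      rw [e.symm_apply_apply]
    haveI : IsLocalHom (algebraMap (R ⧸ nilradical R) S) := by
      haveI : IsLocalHom (e.symm : R ⧸ nilradical R →+* R) := ⟨fun a ha => by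
        have := ha.map (e : R →+* R ⧸ nilradical R)
        simpa using this⟩
      exact RingHom.isLocalHom_comp _ _
    haveI hS₀ : Hensel.IsStrictHenselization (R ⧸ nilradical R) S :=
      isStrictHenselization_of_ringEquiv e hcomp
    constructor
    · rintro ⟨⟨hd, hl⟩, hpi⟩
      haveI : IsDomain (R ⧸ nilradical R) := hd
      haveI : IsLocalRing (integralClosure (R ⧸ nilradical R)
        (FractionRing (R ⧸ nilradical R))) := hl
      haveI : IsPurelyInseparable (ResidueField (R ⧸ nilradical R))
          (ResidueField (integralClosure (R ⧸ nilradical R)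
            (FractionRing (R ⧸ nilradical R)))) := by
        have h1 := hpi (maximalIdeal (integralClosure (R ⧸ nilradical R)
          (FractionRing (R ⧸ nilradical R))))
        haveI : ExpChar (ResidueField (R ⧸ nilradical R))
            (ringExpChar (ResidueField (integralClosure (R ⧸ nilradical R)
              (FractionRing (R ⧸ nilradical R))))) :=
          (algebraMap (ResidueField (R ⧸ nilradical R))
            (ResidueField (integralClosure (R ⧸ nilradical R)
              (FractionRing (R ⧸ nilradical R))))).expChar (RingHom.injective _) _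
        rw [isPurelyInseparable_iff_pow_mem (ResidueField (R ⧸ nilradical R))
          (ringExpChar (ResidueField (integralClosure (R ⧸ nilradical R)
              (FractionRing (R ⧸ nilradical R)))))]
        intro x
        obtain ⟨n, r, hr⟩ := h1 x
        refine ⟨n, residue (R ⧸ nilradical R) (Ideal.Quotient.mk _ r), ?_⟩
        exact hr
      exact isDomain_of_geomUnibranch (R ⧸ nilradical R) S
    · intro hSd
      haveI hdR : IsDomain R := hinjRS.isDomain (algebraMap R S)
      haveI : IsDomain (R ⧸ nilradical R) := e.symm.injective.isDomain (e.symm : _ →+* R)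
      haveI : HenselianLocalRing S := hS.henselian
      haveI : Module.FaithfullyFlat (R ⧸ nilradical R) S :=
        faithfullyFlat_of_isStrictHenselization (R := R ⧸ nilradical R) S
      obtain ⟨hT, hR'⟩ := isLocalRing_of_isDomain (R ⧸ nilradical R) S
      haveI := hT
      haveI := hR'
      haveI := hS₀.isSepClosure.separable
      haveI := hS₀.isSepClosure.sep_closed
      haveI hpi := isPurelyInseparable_of_isLocalRing_tensor (R ⧸ nilradical R)
        (integralClosure (R ⧸ nilradical R) (FractionRing (R ⧸ nilradical R))) S
      refine ⟨⟨inferInstance, hR'⟩, ?_⟩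
      intro m' hm'
      obtain rfl : m' = maximalIdeal (integralClosure (R ⧸ nilradical R)
          (FractionRing (R ⧸ nilradical R))) := IsLocalRing.eq_maximalIdeal hm'
      intro x
      haveI : ExpChar (ResidueField (R ⧸ nilradical R))
          (ringExpChar (ResidueField (integralClosure (R ⧸ nilradical R)
            (FractionRing (R ⧸ nilradical R))))) :=
        (algebraMap (ResidueField (R ⧸ nilradical R))
          (ResidueField (integralClosure (R ⧸ nilradical R)
            (FractionRing (R ⧸ nilradical R))))).expChar (RingHom.injective _) _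
      let x' : ResidueField (integralClosure (R ⧸ nilradical R)
            (FractionRing (R ⧸ nilradical R))) := x
      obtain ⟨n, y, hy⟩ := IsPurelyInseparable.pow_mem (ResidueField (R ⧸ nilradical R))
        (ringExpChar (ResidueField (integralClosure (R ⧸ nilradical R)
            (FractionRing (R ⧸ nilradical R))))) x'
      obtain ⟨r₀, rfl⟩ := residue_surjective y
      obtain ⟨r, rfl⟩ := Ideal.Quotient.mk_surjective r₀
      exact ⟨n, r, hy⟩
  constructor
  · rintro ⟨hred, h⟩
    exact (main (nilradical_eq_zero R)).mp h
  · intro hSd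
    haveI hdR : IsDomain R := hinjRS.isDomain (algebraMap R S)
    exact ⟨inferInstance, (main (nilradical_eq_zero R)).mpr hSd⟩

end Main

end Groth.Agent.H8.Hens.GU
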