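import Mathlib
import Groth.Agent.Lib.Helper8.Hens.Reduced

/-!
# The nilradical of a henselization (helper8)
-/

universe u
open IsLocalRing

namespace Groth.Agent.H8.Hens

/-- For a smooth algebra, the nilradical is the extension of the nilradical of the base. -/
theorem nilradical_le_map_of_smooth (A E : Type u) [CommRing A] [CommRing E] [Algebra A E]
    [Algebra.Smooth A E] : nilradical E ≤ (nilradical A).map (algebraMap A E) := by
  haveI : IsReduced (A ⧸ nilradical A) :=
    (Ideal.isRadical_iff_quotient_reduced _).mp (Ideal.radical_isRadical _)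
  haveI : Algebra.Smooth (A ⧸ nilradical A) (E ⧸ (nilradical A).map (algebraMap A E)) :=
    Algebra.Smooth.of_equiv (Algebra.TensorProduct.quotIdealMapEquivQuotTensor E (nilradical A)).symm
  haveI : IsReduced (E ⧸ (nilradical A).map (algebraMap A E)) :=
    isReduced_of_smooth (A ⧸ nilradical A) _
  intro x hx
  rw [mem_nilradical] at hx
  rw [← Ideal.Quotient.eq_zero_iff_mem]
  exact IsReduced.eq_zero _ (hx.map (Ideal.Quotient.mk _))

/-- Nilpotents in a localization. -/
theorem nilradical_localization_le {E : Type*} [CommRing E] (M : Submonoid E) (L : Type*)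
    [CommRing L] [Algebra E L] [IsLocalization M L] :
    nilradical L ≤ (nilradical E).map (algebraMap E L) := by
  intro x hx
  rw [mem_nilradical] at hx
  obtain ⟨n, hn⟩ := hx
  obtain ⟨e, s, rfl⟩ := IsLocalization.exists_mk'_eq M x
  rw [← IsLocalization.mk'_pow, IsLocalization.mk'_eq_zero_iff] at hn
  obtain ⟨t, ht⟩ := hn
  have h1 : IsNilpotent ((t : E) * e) := ⟨n + 1, by
    have : ((t : E) * e) ^ (n + 1) = ((t : E) * e ^ n) * ((t : E) ^ n * e) := by ring
    rw [this, ht, zero_mul]⟩
  have h2 : algebraMap E L ((t : E) * e) ∈ (nilradical E).map (algebraMap E L) :=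
    Ideal.mem_map_of_mem _ (mem_nilradical.mpr h1)
  have h3 : IsLocalization.mk' L e s =
      IsLocalization.mk' L (1 : E) (t * s) * algebraMap E L ((t : E) * e) := by
    rw [mul_comm, IsLocalization.mul_mk'_eq_mk'_of_mul, mul_one]
    apply IsLocalization.mk'_eq_of_eq
    rw [Submonoid.coe_mul]
    ring
  rw [h3]
  exact Ideal.mul_mem_left _ _ h2

namespace H

variable {R K : Type u} [CommRing R] [Field K] [Algebra R K]

theorem nilradical_eq : (nilradical R).map (algebraMap R (H R K)) = nilradical (H R K) := by
  apply le_antisymm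
  · rw [Ideal.map_le_iff_le_comap]
    intro r hr
    rw [Ideal.mem_comap, mem_nilradical]
    exact (mem_nilradical.mp hr).map _
  · intro z hz
    rw [mem_nilradical] at hz
    obtain ⟨n, hn⟩ := hz
    obtain ⟨i, x, rfl⟩ := exists_of z
    rw [← map_pow] at hn
    obtain ⟨j, hij, hj⟩ := of_eq_zero hn
    rw [map_pow] at hj
    have h1 : EtPt.trans hij x ∈ nilradical j.Loc := mem_nilradical.mpr ⟨n, hj⟩
    have h2 := nilradical_localization_le (ptIdeal j.pt).primeCompl j.Loc h1
    have h3 : (nilradical j.Ring).map (algebraMap j.Ring j.Loc) ≤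
        (nilradical R).map (algebraMap R j.Loc) := by
      rw [IsScalarTower.algebraMap_eq R j.Ring j.Loc, ← Ideal.map_map]
      exact Ideal.map_mono (nilradical_le_map_of_smooth R j.Ring)
    have h4 := h3 h2
    rw [← of_trans hij]
    have h5 : (nilradical R).map (algebraMap R (H R K)) =
        ((nilradical R).map (algebraMap R j.Loc)).map (of j) := by
      rw [Ideal.map_map]
      congr 1
      ext r
      exact algebraMap_eq j r
    rw [h5]
    exact Ideal.mem_map_of_mem _ h4

end H

variable {R : Type u} [CommRing R] [IsLocalRing R] (S : Type u) [CommRing S] [IsLocalRing S]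
  [Algebra R S] [IsLocalHom (algebraMap R S)]

theorem map_nilradical_of_algEquiv {S' : Type u} [CommRing S'] [Algebra R S'] (e : S' ≃ₐ[R] S)
    (h : (nilradical R).map (algebraMap R S') = nilradical S') :
    (nilradical R).map (algebraMap R S) = nilradical S := by
  have h1 : (nilradical R).map (algebraMap R S) = ((nilradical R).map (algebraMap R S')).map
      (e : S' →+* S) := by
    rw [Ideal.map_map]
    congr 1
    ext r
    simp
  rw [h1, h]
  ext y
  rw [mem_nilradical]
  constructor
  · intro hy
    rw [Ideal.mem_map_iff_of_surjective (e : S' →+* S) e.surjective] at hy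
    obtain ⟨x, hx, rfl⟩ := hy
    exact (mem_nilradical.mp hx).map _
  · intro hy
    rw [Ideal.mem_map_iff_of_surjective (e : S' →+* S) e.surjective]
    exact ⟨e.symm y, mem_nilradical.mpr (hy.map e.symm), by simp⟩

theorem map_nilradical_of_isHenselization [Hensel.IsHenselization R S] :
    (nilradical R).map (algebraMap R S) = nilradical S :=
  map_nilradical_of_algEquiv S (algEquiv (R := R) S) H.nilradical_eq

theorem map_nilradical_of_isStrictHenselization [Hensel.IsStrictHenselization R S] :
    (nilradical R).map (algebraMap R S) = nilradical S :=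
  map_nilradical_of_algEquiv S (algEquivStrict (R := R) S) H.nilradical_eq

end Groth.Agent.H8.Hens
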