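import Mathlib
import Groth.Prelude.Def_Hensel

/-!
# Quotients of henselizations (helper8)
-/

universe u
open IsLocalRing Polynomial

namespace Groth.Agent.H8.Hens

/-- A quotient of a henselian local ring which is local is henselian. -/
theorem henselianLocalRing_quotient {S : Type*} [CommRing S] [HenselianLocalRing S] (J : Ideal S)
    [IsLocalRing (S ⧸ J)] : HenselianLocalRing (S ⧸ J) where
  is_henselian f hf a₀ h1 h2 := by
    have hloc : IsLocalHom (Ideal.Quotient.mk J) :=
      .of_surjective _ Ideal.Quotient.mk_surjective
    have hlift : f ∈ Polynomial.lifts (Ideal.Quotient.mk J) :=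
      (Polynomial.mem_lifts _).mpr (Polynomial.map_surjective _ Ideal.Quotient.mk_surjective f)
    obtain ⟨q, hq, -, hqmon⟩ := Polynomial.lifts_and_degree_eq_and_monic hlift hf
    obtain ⟨b, rfl⟩ := Ideal.Quotient.mk_surjective a₀
    have e1 : q.eval b ∈ maximalIdeal S := by
      rw [mem_maximalIdeal, mem_nonunits_iff]
      intro hu
      have : IsUnit (f.eval (Ideal.Quotient.mk J b)) := by
        rw [← hq, eval_map_apply]; exact hu.map _
      exact h1 this
    have e2 : IsUnit (q.derivative.eval b) := by
      apply isUnit_of_map_unit (Ideal.Quotient.mk J)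
      rw [← eval_map_apply, ← derivative_map, hq]; exact h2
    obtain ⟨a, ha, hab⟩ := HenselianLocalRing.is_henselian q hqmon b e1 e2
    refine ⟨Ideal.Quotient.mk J a, ?_, ?_⟩
    · rw [IsRoot.def, ← hq, eval_map_apply, ha, map_zero]
    · rw [← map_sub, mem_maximalIdeal, mem_nonunits_iff]
      intro hu
      exact hab (isUnit_of_map_unit _ _ hu)

/-- The quotient `S/IS` of a henselization `S` of `A` is a henselization of `A/I`. -/
theorem isHenselization_quotient {A S : Type u} [CommRing A] [IsLocalRing A] [CommRing S]
    [IsLocalRing S] [Algebra A S] [IsLocalHom (algebraMap A S)] [Hensel.IsHenselization A S]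
    (I : Ideal A)
    [IsLocalRing (A ⧸ I)] [IsLocalRing (S ⧸ I.map (algebraMap A S))]
    [IsLocalHom (algebraMap (A ⧸ I) (S ⧸ I.map (algebraMap A S)))] :
    Hensel.IsHenselization (A ⧸ I) (S ⧸ I.map (algebraMap A S)) where
  henselian :=
    haveI := Hensel.IsHenselization.henselian (R := A) (S := S)
    henselianLocalRing_quotient _
  universal T _ _ f hf := by
    have hloc : IsLocalHom (Ideal.Quotient.mk I) :=
      .of_surjective _ Ideal.Quotient.mk_surjective
    have hf' : IsLocalHom (f.comp (Ideal.Quotient.mk I)) := RingHom.isLocalHom_comp _ _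
    obtain ⟨g', hg', huniq⟩ := Hensel.IsHenselization.universal (R := A) (S := S) T
      (f.comp (Ideal.Quotient.mk I)) hf'
    have hker : ∀ s ∈ I.map (algebraMap A S), g' s = 0 := by
      intro s hs
      have : I.map (algebraMap A S) ≤ RingHom.ker g' := by
        rw [Ideal.map_le_iff_le_comap]
        intro a ha
        rw [Ideal.mem_comap, RingHom.mem_ker]
        have := congrArg (fun φ => φ a) hg'
        simp only [RingHom.comp_apply] at this
        rw [this, Ideal.Quotient.eq_zero_iff_mem.mpr ha, map_zero]
      exact this hs
    refine ⟨Ideal.Quotient.lift _ g' hker, ?_, ?_⟩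
    · ext a
      have := congrArg (fun φ => φ a) hg'
      simp only [RingHom.comp_apply] at this
      simp only [RingHom.comp_apply]
      rw [Ideal.Quotient.algebraMap_quotient_map_quotient, Ideal.Quotient.lift_mk, this]
    · intro g₁ hg₁
      have h1 : g₁.comp (Ideal.Quotient.mk _) = g' := by
        apply huniq
        ext a
        have := congrArg (fun φ => φ (Ideal.Quotient.mk I a)) hg₁
        simp only [RingHom.comp_apply] at this
        simp only [RingHom.comp_apply]
        rw [← this, Ideal.Quotient.algebraMap_quotient_map_quotient]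
      ext s
      simp only [RingHom.comp_apply]
      rw [Ideal.Quotient.lift_mk, ← h1]
      rfl

end Groth.Agent.H8.Hens
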