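import Mathlib
import Groth.Agent.Lib.Helper8.Hens.GeomUnibranch
import Groth.Agent.Lib.Helper8.Hens.Nilrad
import Groth.Agent.Lib.Helper8.Hens.QuotHens
import Groth.Prelude.Def_CAlgX

universe u
open IsLocalRing TensorProduct

namespace Groth.Agent.H8.Hens.UMP

/-- A ring has a unique minimal prime iff its nilradical is prime. -/
theorem hasUniqueMinimalPrime_iff (B : Type u) [CommRing B] :
    CAlgX.HasUniqueMinimalPrime B ↔ (nilradical B).IsPrime := by
  constructor
  · rintro ⟨P, hP, huniq⟩
    have h1 : nilradical B = P := by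
      rw [nilradical, ← Ideal.sInf_minimalPrimes]
      apply le_antisymm
      · exact sInf_le hP
      · apply le_sInf
        intro Q hQ
        rw [huniq Q hQ]
    rw [h1]
    exact hP.1.1
  · intro hN
    have hmin : nilradical B ∈ minimalPrimes B := by
      refine ⟨⟨hN, bot_le⟩, ?_⟩
      rintro Q ⟨hQ, -⟩ hQN
      exact nilradical_le_prime Q
    refine ⟨nilradical B, hmin, ?_⟩
    intro Q hQ
    have h1 : nilradical B ≤ Q := @nilradical_le_prime _ _ Q hQ.1.1
    exact le_antisymm (hQ.2 ⟨hN, bot_le⟩ h1) h1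

theorem isDomain_quotient_nilradical_iff (B : Type u) [CommRing B] :
    IsDomain (B ⧸ nilradical B) ↔ CAlgX.HasUniqueMinimalPrime B := by
  rw [hasUniqueMinimalPrime_iff, Ideal.Quotient.isDomain_iff_prime]

section Quot

variable {A S : Type u} [CommRing A] [IsLocalRing A] [CommRing S] [IsLocalRing S] [Algebra A S]
  [IsLocalHom (algebraMap A S)] (I : Ideal A)

theorem map_ne_top (hI : I ≠ ⊤) : I.map (algebraMap A S) ≠ ⊤ := by
  intro h
  have h1 : I ≤ maximalIdeal A := le_maximalIdeal hI
  have h2 : I.map (algebraMap A S) ≤ maximalIdeal S := by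
    rw [Ideal.map_le_iff_le_comap]
    refine h1.trans ?_
    exact ((local_hom_TFAE (algebraMap A S)).out 0 3).mp ‹_›
  rw [h] at h2
  exact (maximalIdeal.isMaximal S).ne_top (top_le_iff.mp h2)

theorem isLocalRing_quotient (hI : I ≠ ⊤) : IsLocalRing (A ⧸ I) := by
  haveI : Nontrivial (A ⧸ I) := Ideal.Quotient.nontrivial_iff.mpr hI
  exact IsLocalRing.of_surjective' (Ideal.Quotient.mk I) Ideal.Quotient.mk_surjective

theorem isLocalHom_quotient [IsLocalRing (A ⧸ I)] [IsLocalRing (S ⧸ I.map (algebraMap A S))] :
    IsLocalHom (algebraMap (A ⧸ I) (S ⧸ I.map (algebraMap A S))) := by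
  constructor
  intro x hx
  obtain ⟨a, rfl⟩ := Ideal.Quotient.mk_surjective x
  rw [Ideal.Quotient.algebraMap_quotient_map_quotient] at hx
  haveI : IsLocalHom (Ideal.Quotient.mk (I.map (algebraMap A S))) :=
    .of_surjective _ Ideal.Quotient.mk_surjective
  have h1 : IsUnit (algebraMap A S a) := isUnit_of_map_unit (Ideal.Quotient.mk _) _ hx
  have h2 : IsUnit a := isUnit_of_map_unit (algebraMap A S) _ h1
  exact h2.map _

end Quot

section Unibranch

variable {A Ah : Type u} [CommRing A] [IsLocalRing A]
    [CommRing Ah] [IsLocalRing Ah] [Algebra A Ah] [IsLocalHom (algebraMap A Ah)]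

theorem nilradical_ne_top (B : Type*) [CommRing B] [Nontrivial B] : nilradical B ≠ ⊤ := by
  intro h
  have : (1 : B) ∈ nilradical B := by rw [h]; trivial
  exact not_isNilpotent_one (mem_nilradical.mp this)

/-- A local ring is unibranch iff its henselization has a unique minimal prime. -/
theorem isUnibranch_iff [hS : Hensel.IsHenselization A Ah] :
    CAlg2.IsUnibranch A ↔ CAlgX.HasUniqueMinimalPrime Ah := by
  rw [← isDomain_quotient_nilradical_iff]
  have hN : (nilradical A).map (algebraMap A Ah) = nilradical Ah :=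
    map_nilradical_of_isHenselization (R := A) Ah
  haveI : IsLocalRing (A ⧸ nilradical A) := isLocalRing_quotient _ (nilradical_ne_top A)
  haveI : IsLocalRing (Ah ⧸ (nilradical A).map (algebraMap A Ah)) :=
    isLocalRing_quotient _ (map_ne_top _ (nilradical_ne_top A))
  haveI := isLocalHom_quotient (S := Ah) (nilradical A)
  haveI := isHenselization_quotient (A := A) (S := Ah) (nilradical A)
  have hiff : IsDomain (Ah ⧸ nilradical Ah) ↔
      IsDomain (Ah ⧸ (nilradical A).map (algebraMap A Ah)) := by rw [hN]
  rw [hiff]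
  constructor
  · rintro ⟨hd, hl⟩
    haveI : IsDomain (A ⧸ nilradical A) := hd
    haveI : IsLocalRing (integralClosure (A ⧸ nilradical A)
      (FractionRing (A ⧸ nilradical A))) := hl
    exact isDomain_of_isLocalRing_integralClosure (A ⧸ nilradical A)
      (Ah ⧸ (nilradical A).map (algebraMap A Ah))
  · intro hSd
    haveI := faithfullyFlat_of_isHenselization (R := A ⧸ nilradical A)
      (Ah ⧸ (nilradical A).map (algebraMap A Ah))
    haveI : IsDomain (A ⧸ nilradical A) :=
      (FaithfulSMul.algebraMap_injective (A ⧸ nilradical A)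
        (Ah ⧸ (nilradical A).map (algebraMap A Ah))).isDomain _
    exact ⟨inferInstance, isLocalRing_integralClosure_of_isDomain (A ⧸ nilradical A)
      (Ah ⧸ (nilradical A).map (algebraMap A Ah))⟩

end Unibranch

end Groth.Agent.H8.Hens.UMP
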