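import Mathlib
import Groth.Agent.Lib.Helper8.Hens.UniqueMinPrime

universe u
open IsLocalRing TensorProduct

namespace Groth.Agent.H8.Hens.UMP

/-- The quotient `S/IS` of a strict henselization `S` of `A` is a strict henselization of
`A/I`. -/
theorem isStrictHenselization_quotient {A S : Type u} [CommRing A] [IsLocalRing A] [CommRing S]
    [IsLocalRing S] [Algebra A S] [IsLocalHom (algebraMap A S)]
    [hS : Hensel.IsStrictHenselization A S]
    (I : Ideal A)
    [IsLocalRing (A ⧸ I)] [IsLocalRing (S ⧸ I.map (algebraMap A S))]
    [IsLocalHom (algebraMap (A ⧸ I) (S ⧸ I.map (algebraMap A S)))] :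
    Hensel.IsStrictHenselization (A ⧸ I) (S ⧸ I.map (algebraMap A S)) := by
  set J := I.map (algebraMap A S) with hJ
  haveI hSh : HenselianLocalRing S := hS.henselian
  haveI : IsSepClosed (ResidueField S) := hS.isSepClosure.sep_closed
  haveI : Algebra.IsSeparable (ResidueField A) (ResidueField S) := hS.isSepClosure.separable
  haveI hlocA : IsLocalHom (Ideal.Quotient.mk I) :=
    .of_surjective _ Ideal.Quotient.mk_surjective
  haveI hlocS : IsLocalHom (Ideal.Quotient.mk J) :=
    .of_surjective _ Ideal.Quotient.mk_surjective
  have hcomm : ∀ a : A, algebraMap (A ⧸ I) (S ⧸ J) (Ideal.Quotient.mk I a) =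
      Ideal.Quotient.mk J (algebraMap A S a) := fun a =>
    Ideal.Quotient.algebraMap_quotient_map_quotient _
  -- residue field of `S ⧸ J` as an algebra over that of `S`
  letI : Algebra (ResidueField S) (ResidueField (S ⧸ J)) :=
    (ResidueField.map (Ideal.Quotient.mk J)).toAlgebra
  have hsurj : Function.Surjective (algebraMap (ResidueField S) (ResidueField (S ⧸ J))) := by
    intro x
    obtain ⟨y, rfl⟩ := residue_surjective x
    obtain ⟨s, rfl⟩ := Ideal.Quotient.mk_surjective y
    exact ⟨residue S s, ResidueField.map_residue _ _⟩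
  haveI : Algebra.IsAlgebraic (ResidueField S) (ResidueField (S ⧸ J)) := by
    refine ⟨fun x => ?_⟩
    obtain ⟨y, rfl⟩ := hsurj x
    exact isAlgebraic_algebraMap y
  letI : Algebra (ResidueField A) (ResidueField (A ⧸ I)) :=
    (ResidueField.map (Ideal.Quotient.mk I)).toAlgebra
  letI : Algebra (ResidueField A) (ResidueField (S ⧸ J)) :=
    ((algebraMap (ResidueField S) (ResidueField (S ⧸ J))).comp
      (algebraMap (ResidueField A) (ResidueField S))).toAlgebra
  haveI : IsScalarTower (ResidueField A) (ResidueField S) (ResidueField (S ⧸ J)) :=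
    IsScalarTower.of_algebraMap_eq fun _ => rfl
  haveI : IsScalarTower (ResidueField A) (ResidueField (A ⧸ I)) (ResidueField (S ⧸ J)) := by
    refine IsScalarTower.of_algebraMap_eq fun x => ?_
    obtain ⟨a, rfl⟩ := residue_surjective x
    show ResidueField.map (Ideal.Quotient.mk J) (ResidueField.map (algebraMap A S) (residue A a)) =
      ResidueField.map (algebraMap (A ⧸ I) (S ⧸ J))
        (ResidueField.map (Ideal.Quotient.mk I) (residue A a))
    rw [ResidueField.map_residue, ResidueField.map_residue, ResidueField.map_residue,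
      ResidueField.map_residue, hcomm]
  refine ⟨henselianLocalRing_quotient J, ⟨?_, ?_⟩, ?_⟩
  · exact Algebra.IsAlgebraic.isSepClosed (F := ResidueField S)
  · refine ⟨fun x => ?_⟩
    obtain ⟨y, rfl⟩ := hsurj x
    have h1 : IsSeparable (ResidueField A) y := Algebra.IsSeparable.isSeparable _ _
    have h2 : IsSeparable (ResidueField A)
        (IsScalarTower.toAlgHom (ResidueField A) (ResidueField S) (ResidueField (S ⧸ J)) y) :=
      h1.map _ (RingHom.injective _)
    exact IsSeparable.tower_top (L := ResidueField (A ⧸ I)) h2
  · intro T _ _ f _ τ hτ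
    haveI hf' : IsLocalHom (f.comp (Ideal.Quotient.mk I)) := RingHom.isLocalHom_comp _ _
    let τ' : ResidueField S →+* ResidueField T :=
      τ.comp (ResidueField.map (Ideal.Quotient.mk J))
    have hτ' : τ'.comp (ResidueField.map (algebraMap A S)) =
        ResidueField.map (f.comp (Ideal.Quotient.mk I)) := by
      refine RingHom.ext fun x => ?_
      obtain ⟨a, rfl⟩ := residue_surjective x
      simp only [RingHom.comp_apply, ResidueField.map_residue, τ']
      have h2 := congrArg (fun w => w (residue (A ⧸ I) (Ideal.Quotient.mk I a))) hτ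
      simp only [RingHom.comp_apply, ResidueField.map_residue] at h2
      rw [← hcomm, h2]
    obtain ⟨g', ⟨hg'1, hg'2⟩, huniq⟩ := hS.universal T (f.comp (Ideal.Quotient.mk I)) τ' hτ'
    have hker : ∀ s ∈ J, g' s = 0 := by
      intro s hs
      have : J ≤ RingHom.ker g' := by
        rw [hJ, Ideal.map_le_iff_le_comap]
        intro a ha
        rw [Ideal.mem_comap, RingHom.mem_ker]
        have := congrArg (fun φ => φ a) hg'1
        simp only [RingHom.comp_apply] at this
        rw [this, Ideal.Quotient.eq_zero_iff_mem.mpr ha, map_zero]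
      exact this hs
    refine ⟨Ideal.Quotient.lift _ g' hker, ⟨?_, ?_⟩, ?_⟩
    · refine RingHom.ext fun x => ?_
      obtain ⟨a, rfl⟩ := Ideal.Quotient.mk_surjective x
      have := congrArg (fun φ => φ a) hg'1
      simp only [RingHom.comp_apply] at this
      rw [RingHom.comp_apply, hcomm, Ideal.Quotient.lift_mk, this]
    · intro x
      obtain ⟨s, rfl⟩ := Ideal.Quotient.mk_surjective x
      rw [Ideal.Quotient.lift_mk, hg'2]
      simp only [τ', RingHom.comp_apply, ResidueField.map_residue]
      rfl
    · rintro g₁ ⟨hg₁1, hg₁2⟩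
      have h1 : g₁.comp (Ideal.Quotient.mk J) = g' := by
        apply huniq
        refine ⟨?_, fun s => ?_⟩
        · refine RingHom.ext fun a => ?_
          have := congrArg (fun φ => φ (Ideal.Quotient.mk I a)) hg₁1
          simp only [RingHom.comp_apply] at this ⊢
          rw [← hcomm, this]
        · rw [RingHom.comp_apply, hg₁2]
          simp only [τ', RingHom.comp_apply, ResidueField.map_residue]
      refine RingHom.ext fun x => ?_
      obtain ⟨s, rfl⟩ := Ideal.Quotient.mk_surjective x
      rw [Ideal.Quotient.lift_mk, ← h1]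
      rfl

end Groth.Agent.H8.Hens.UMP

namespace Groth.Agent.H8.Hens.UMP

open Groth.Agent.H8.Hens.GU

/-- Core: `A` is geometrically unibranch iff a strict henselization of `A_red` is a domain. -/
theorem isGeomUnibranch_iff_isDomain (A : Type u) [CommRing A] [IsLocalRing A]
    [IsLocalRing (A ⧸ nilradical A)] (S : Type u) [CommRing S] [IsLocalRing S]
    [Algebra (A ⧸ nilradical A) S] [IsLocalHom (algebraMap (A ⧸ nilradical A) S)]
    [hS₀ : Hensel.IsStrictHenselization (A ⧸ nilradical A) S] :
    CAlg2.IsGeomUnibranch A ↔ IsDomain S := by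
  constructor
  · rintro ⟨⟨hd, hl⟩, hpi⟩
    haveI : IsDomain (A ⧸ nilradical A) := hd
    haveI : IsLocalRing (integralClosure (A ⧸ nilradical A)
      (FractionRing (A ⧸ nilradical A))) := hl
    haveI : IsPurelyInseparable (ResidueField (A ⧸ nilradical A))
        (ResidueField (integralClosure (A ⧸ nilradical A)
          (FractionRing (A ⧸ nilradical A)))) := by
      have h1 := hpi (maximalIdeal (integralClosure (A ⧸ nilradical A)
        (FractionRing (A ⧸ nilradical A))))
      haveI : ExpChar (ResidueField (A ⧸ nilradical A))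
          (ringExpChar (ResidueField (integralClosure (A ⧸ nilradical A)
            (FractionRing (A ⧸ nilradical A))))) :=
        (algebraMap (ResidueField (A ⧸ nilradical A))
          (ResidueField (integralClosure (A ⧸ nilradical A)
            (FractionRing (A ⧸ nilradical A))))).expChar (RingHom.injective _) _
      rw [isPurelyInseparable_iff_pow_mem (ResidueField (A ⧸ nilradical A))
        (ringExpChar (ResidueField (integralClosure (A ⧸ nilradical A)
            (FractionRing (A ⧸ nilradical A)))))]
      intro x
      obtain ⟨n, r, hr⟩ := h1 x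
      refine ⟨n, residue (A ⧸ nilradical A) (Ideal.Quotient.mk _ r), ?_⟩
      exact hr
    exact isDomain_of_geomUnibranch (A ⧸ nilradical A) S
  · intro hSd
    haveI : HenselianLocalRing S := hS₀.henselian
    haveI : Module.FaithfullyFlat (A ⧸ nilradical A) S :=
      faithfullyFlat_of_isStrictHenselization (R := A ⧸ nilradical A) S
    haveI : IsDomain (A ⧸ nilradical A) :=
      (FaithfulSMul.algebraMap_injective (A ⧸ nilradical A) S).isDomain _
    obtain ⟨hT, hR'⟩ := isLocalRing_of_isDomain (A ⧸ nilradical A) S
    haveI := hT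
    haveI := hR'
    haveI := hS₀.isSepClosure.separable
    haveI := hS₀.isSepClosure.sep_closed
    haveI hpi := isPurelyInseparable_of_isLocalRing_tensor (A ⧸ nilradical A)
      (integralClosure (A ⧸ nilradical A) (FractionRing (A ⧸ nilradical A))) S
    refine ⟨⟨inferInstance, hR'⟩, ?_⟩
    intro m' hm'
    obtain rfl : m' = maximalIdeal (integralClosure (A ⧸ nilradical A)
        (FractionRing (A ⧸ nilradical A))) := IsLocalRing.eq_maximalIdeal hm'
    intro x
    haveI : ExpChar (ResidueField (A ⧸ nilradical A))
        (ringExpChar (ResidueField (integralClosure (A ⧸ nilradical A)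
          (FractionRing (A ⧸ nilradical A))))) :=
      (algebraMap (ResidueField (A ⧸ nilradical A))
        (ResidueField (integralClosure (A ⧸ nilradical A)
          (FractionRing (A ⧸ nilradical A))))).expChar (RingHom.injective _) _
    let x' : ResidueField (integralClosure (A ⧸ nilradical A)
          (FractionRing (A ⧸ nilradical A))) := x
    obtain ⟨n, y, hy⟩ := IsPurelyInseparable.pow_mem (ResidueField (A ⧸ nilradical A))
      (ringExpChar (ResidueField (integralClosure (A ⧸ nilradical A)
          (FractionRing (A ⧸ nilradical A))))) x'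
    obtain ⟨r₀, rfl⟩ := residue_surjective y
    obtain ⟨r, rfl⟩ := Ideal.Quotient.mk_surjective r₀
    exact ⟨n, r, hy⟩

/-- A local ring is geometrically unibranch iff its strict henselization has a unique minimal
prime. -/
theorem isGeomUnibranch_iff {A Ash : Type u} [CommRing A] [IsLocalRing A]
    [CommRing Ash] [IsLocalRing Ash] [Algebra A Ash] [IsLocalHom (algebraMap A Ash)]
    [hS : Hensel.IsStrictHenselization A Ash] :
    CAlg2.IsGeomUnibranch A ↔ CAlgX.HasUniqueMinimalPrime Ash := by
  rw [← isDomain_quotient_nilradical_iff]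
  have hN : (nilradical A).map (algebraMap A Ash) = nilradical Ash :=
    map_nilradical_of_isStrictHenselization (R := A) Ash
  haveI : IsLocalRing (A ⧸ nilradical A) := isLocalRing_quotient _ (nilradical_ne_top A)
  haveI : IsLocalRing (Ash ⧸ (nilradical A).map (algebraMap A Ash)) :=
    isLocalRing_quotient _ (map_ne_top _ (nilradical_ne_top A))
  haveI := isLocalHom_quotient (S := Ash) (nilradical A)
  haveI := isStrictHenselization_quotient (A := A) (S := Ash) (nilradical A)
  have hiff : IsDomain (Ash ⧸ nilradical Ash) ↔
      IsDomain (Ash ⧸ (nilradical A).map (algebraMap A Ash)) := by rw [hN]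
  rw [hiff]
  exact isGeomUnibranch_iff_isDomain A (Ash ⧸ (nilradical A).map (algebraMap A Ash))

end Groth.Agent.H8.Hens.UMP
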