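import Mathlib
import Groth.Agent.Lib.Helper8.Hens.QuasiFiniteSplit
import Groth.Agent.Lib.Helper8.Hens.EtaleLift

/-!
# Unramified algebras over strictly henselian local rings (helper8)

* `surjective_algebraMap_of_unramified_of_isSepClosed`
* `exists_decomposition_of_unramified` (Stacks 04GL)
-/

universe u
open IsLocalRing TensorProduct

namespace Groth.Agent.H8.Hens

/-- A local ring, finite and formally unramified over a local ring with separably closed residue
field, is a quotient of it. -/
theorem surjective_algebraMap_of_unramified_of_isSepClosed (R : Type*) [CommRing R]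
    [IsLocalRing R] [IsSepClosed (ResidueField R)] (A : Type*) [CommRing A] [IsLocalRing A]
    [Algebra R A] [Module.Finite R A] [Algebra.FormallyUnramified R A] :
    Function.Surjective (algebraMap R A) := by
  have hjac : (maximalIdeal R).map (algebraMap R A) ≤ maximalIdeal A := by
    have := map_maximalIdeal_le_jacobson_bot (A := R) A
    rwa [IsLocalRing.jacobson_eq_maximalIdeal ⊥ bot_ne_top] at this
  haveI : IsLocalHom (algebraMap R A) :=
    ((IsLocalRing.local_hom_TFAE (algebraMap R A)).out 0 2 rfl rfl).mpr hjac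
  have hmap := Algebra.FormallyUnramified.map_maximalIdeal (R := R) (S := A)
  have hres : ∀ a : A, ∃ r : R, a - algebraMap R A r ∈ maximalIdeal A := by
    intro a
    obtain ⟨r', hr'⟩ := IsSepClosed.algebraMap_surjective (ResidueField R) (ResidueField A)
      (residue A a)
    obtain ⟨r, rfl⟩ := residue_surjective r'
    refine ⟨r, ?_⟩
    rw [← residue_eq_zero_iff, map_sub, ← hr', sub_eq_zero]
    rfl
  have hN : (⊤ : Submodule R A) ≤ LinearMap.range (Algebra.linearMap R A) := by
    apply Submodule.le_of_le_smul_of_le_jacobson_bot Module.Finite.fg_top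
      (IsLocalRing.jacobson_eq_maximalIdeal ⊥ bot_ne_top).ge
    rintro a -
    obtain ⟨r, hr⟩ := hres a
    rw [← hmap] at hr
    have : a = algebraMap R A r + (a - algebraMap R A r) := by ring
    rw [this]
    refine Submodule.add_mem_sup ⟨r, rfl⟩ ?_
    rw [Ideal.smul_top_eq_map]
    exact hr
  intro a
  exact hN (Submodule.mem_top (x := a))

/-- Stacks 04GL: an unramified algebra over a strictly henselian local ring is a finite product of
quotients of the base times an algebra with empty closed fibre. -/
theorem exists_decomposition_of_unramified (R : Type u) [CommRing R]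
    [HenselianLocalRing R] [IsSepClosed (IsLocalRing.ResidueField R)] (S : Type u) [CommRing S]
    [Algebra R S] [Algebra.Unramified R S] :
    ∃ (ι : Type u) (_ : Fintype ι) (A : ι → Type u) (_ : ∀ i, CommRing (A i))
      (_ : ∀ i, Algebra R (A i)) (B : Type u) (_ : CommRing B) (_ : Algebra R B),
      (∀ i, Function.Surjective (algebraMap R (A i))) ∧
      Ideal.map (algebraMap R B) (IsLocalRing.maximalIdeal R) = ⊤ ∧
      Nonempty (S ≃ₐ[R] ((∀ i, A i) × B)) := by
  classical
  obtain ⟨e, he, hfin, htop⟩ := exists_idempotent_of_quasiFinite R S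
  haveI := hfin
  obtain ⟨n, ε, hε, hloc⟩ :=
    exists_completeOrthogonalIdempotents_of_finite R (S ⧸ Ideal.span ({1 - e} : Set S))
  let ε' : ULift.{u} (Fin n) → S ⧸ Ideal.span ({1 - e} : Set S) := ε ∘ Equiv.ulift
  have hε' : CompleteOrthogonalIdempotents ε' := (CompleteOrthogonalIdempotents.equiv Equiv.ulift).mpr hε
  let e₁ : S ≃ₐ[R] (S ⧸ Ideal.span ({1 - e} : Set S)) × (S ⧸ Ideal.span ({e} : Set S)) :=
    AlgEquiv.ofBijective ((Ideal.Quotient.mkₐ R _).prod (Ideal.Quotient.mkₐ R _))
      (RingHom.prod_bijective_of_isIdempotentElem he.one_sub he (by ring)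
        (by rw [sub_mul, one_mul, he.eq, sub_self]))
  let e₂ : (S ⧸ Ideal.span ({1 - e} : Set S)) ≃ₐ[R]
      (∀ i : ULift.{u} (Fin n), (S ⧸ Ideal.span ({1 - e} : Set S)) ⧸ Ideal.span {1 - ε' i}) :=
    AlgEquiv.ofBijective (AlgHom.pi fun i => Ideal.Quotient.mkₐ R (Ideal.span {1 - ε' i}))
      hε'.bijective_pi
  refine ⟨ULift.{u} (Fin n), inferInstance,
    fun i => (S ⧸ Ideal.span ({1 - e} : Set S)) ⧸ Ideal.span {1 - ε' i}, inferInstance,
    inferInstance, S ⧸ Ideal.span ({e} : Set S), inferInstance, inferInstance, ?_, htop,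
    ⟨e₁.trans (AlgEquiv.prodCongr e₂ AlgEquiv.refl)⟩⟩
  intro i
  haveI : IsLocalRing ((S ⧸ Ideal.span ({1 - e} : Set S)) ⧸ Ideal.span {1 - ε' i}) := hloc i.down
  haveI : Algebra.FormallyUnramified R (S ⧸ Ideal.span ({1 - e} : Set S)) :=
    Algebra.FormallyUnramified.of_surjective (Ideal.Quotient.mkₐ R _)
      (Ideal.Quotient.mkₐ_surjective R _)
  haveI : Algebra.FormallyUnramified R
      ((S ⧸ Ideal.span ({1 - e} : Set S)) ⧸ Ideal.span {1 - ε' i}) :=
    Algebra.FormallyUnramified.of_surjective (Ideal.Quotient.mkₐ R _)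
      (Ideal.Quotient.mkₐ_surjective R _)
  exact surjective_algebraMap_of_unramified_of_isSepClosed R _

end Groth.Agent.H8.Hens
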