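import Mathlib
import Groth.Agent.Lib.Helper8.Hens.StrictTransfer
import Groth.Agent.Lib.Helper8.Hens.UnramifiedSplit
import Groth.Agent.Lib.Helper8.Hens.StrictQuot

/-!
# Strict henselization along an étale map (helper8)

If `R → S` is étale and `q` lies over `p`, then `(R_p)^{sh} → (S_q)^{sh}` is an isomorphism.
-/

universe u
open IsLocalRing TensorProduct

namespace Groth.Agent.H8.Hens

section EtaleStrict

variable (R : Type u) [CommRing R] (S : Type u) [CommRing S] [Algebra R S]
  (p : Ideal R) [p.IsPrime] (q : Ideal S) [q.IsPrime] [q.LiesOver p]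
  (Rh : Type u) [CommRing Rh] [IsLocalRing Rh] [Algebra (Localization.AtPrime p) Rh]
  [IsLocalHom (algebraMap (Localization.AtPrime p) Rh)]
  [Algebra R Rh] [IsScalarTower R (Localization.AtPrime p) Rh]
  (Sh : Type u) [CommRing Sh] [IsLocalRing Sh] [Algebra (Localization.AtPrime q) Sh]
  [IsLocalHom (algebraMap (Localization.AtPrime q) Sh)]
  [Algebra S Sh] [IsScalarTower S (Localization.AtPrime q) Sh] [Algebra R Sh] [IsScalarTower R S Sh]
  [Algebra Rh Sh] [IsScalarTower R Rh Sh]

/-- Quasi-finite at `q` ⇒ `(R^{sh} ⊗_R S)_Q → S^{sh}` is bijective. -/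
theorem bijective_vMap_of_quasiFiniteAt_strict [Algebra.FiniteType R S] [Algebra.QuasiFiniteAt R q]
    [IsLocalHom (algebraMap Rh Sh)]
    [hR : Hensel.IsStrictHenselization (Localization.AtPrime p) Rh]
    [hS : Hensel.IsStrictHenselization (Localization.AtPrime q) Sh] :
    Function.Bijective (vMap R S Rh Sh) := by
  haveI : HenselianLocalRing Rh := hR.henselian
  haveI := Qp_liesOver R S Rh Sh
  haveI : Algebra.QuasiFiniteAt Rh (Qp R S Rh Sh) :=
    Algebra.QuasiFiniteAt.baseChange q (Qp R S Rh Sh) (Qp_comap_includeRight R S q Rh Sh)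
  haveI hfin : Module.Finite Rh (Localization.AtPrime (Qp R S Rh Sh)) :=
    Groth.Agent.H8.S5035.finite_localization_of_quasiFiniteAt Rh (Rh ⊗[R] S) (Qp R S Rh Sh)
  haveI : HenselianLocalRing (Localization.AtPrime (Qp R S Rh Sh)) :=
    henselianLocalRing_of_finite Rh _
  haveI : IsLocalHom (algebraMap Rh (Localization.AtPrime (Qp R S Rh Sh))) :=
    isLocalHom_jMap R S Rh Sh
  haveI : IsSepClosed (ResidueField Rh) := hR.isSepClosure.sep_closed
  haveI : IsSepClosed (ResidueField (Localization.AtPrime (Qp R S Rh Sh))) :=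
    Algebra.IsAlgebraic.isSepClosed (F := ResidueField Rh)
  letI : Algebra (Localization.AtPrime (Qp R S Rh Sh)) Sh := (vMap R S Rh Sh).toAlgebra
  haveI : IsLocalHom (algebraMap (Localization.AtPrime (Qp R S Rh Sh)) Sh) :=
    isLocalHom_vMap R S Rh Sh
  haveI := isStrictHenselization_atPrime R S p q Rh Sh
  haveI := isStrictHenselization_self (Localization.AtPrime (Qp R S Rh Sh))
  obtain ⟨e⟩ := nonempty_algEquiv_of_isStrictHenselization
    (R := Localization.AtPrime (Qp R S Rh Sh)) (Localization.AtPrime (Qp R S Rh Sh)) Sh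
  have : ∀ d, vMap R S Rh Sh d = e d := by
    intro d
    have := e.commutes d
    rw [Algebra.algebraMap_self, RingHom.id_apply] at this
    exact this.symm
  have h2 : (vMap R S Rh Sh : _ → Sh) = e := funext this
  rw [h2]
  exact e.bijective

/-- Étale ⇒ `R^{sh} → (R^{sh} ⊗_R S)_Q` is bijective. -/
theorem bijective_jMap_of_etale [Algebra.Etale R S]
    [IsLocalHom (algebraMap Rh Sh)]
    [hR : Hensel.IsStrictHenselization (Localization.AtPrime p) Rh]
    [hS : Hensel.IsStrictHenselization (Localization.AtPrime q) Sh] :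
    Function.Bijective (jMap R S Rh Sh) := by
  haveI : HenselianLocalRing Rh := hR.henselian
  haveI := Qp_liesOver R S Rh Sh
  haveI : Algebra.QuasiFiniteAt R q := inferInstance
  haveI : Algebra.QuasiFiniteAt Rh (Qp R S Rh Sh) :=
    Algebra.QuasiFiniteAt.baseChange q (Qp R S Rh Sh) (Qp_comap_includeRight R S q Rh Sh)
  haveI hfin : Module.Finite Rh (Localization.AtPrime (Qp R S Rh Sh)) :=
    Groth.Agent.H8.S5035.finite_localization_of_quasiFiniteAt Rh (Rh ⊗[R] S) (Qp R S Rh Sh)
  haveI : IsLocalHom (algebraMap Rh (Localization.AtPrime (Qp R S Rh Sh))) :=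
    isLocalHom_jMap R S Rh Sh
  haveI : IsSepClosed (ResidueField Rh) := hR.isSepClosure.sep_closed
  haveI : Algebra.FormallyUnramified Rh (Rh ⊗[R] S) := inferInstance
  haveI : Algebra.FormallyUnramified (Rh ⊗[R] S) (Localization.AtPrime (Qp R S Rh Sh)) :=
    Algebra.FormallyUnramified.of_isLocalization (Qp R S Rh Sh).primeCompl
  haveI : Algebra.FormallyUnramified Rh (Localization.AtPrime (Qp R S Rh Sh)) :=
    Algebra.FormallyUnramified.comp Rh (Rh ⊗[R] S) _
  haveI : Module.Flat R S := inferInstance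
  haveI : Module.Flat Rh (Rh ⊗[R] S) := inferInstance
  haveI : Module.Flat Rh (Localization.AtPrime (Qp R S Rh Sh)) :=
    Module.Flat.trans Rh (Rh ⊗[R] S) _
  haveI : Module.FaithfullyFlat Rh (Localization.AtPrime (Qp R S Rh Sh)) :=
    Module.FaithfullyFlat.of_flat_of_isLocalHom
  have hj : (jMap R S Rh Sh : Rh → _) = algebraMap Rh (Localization.AtPrime (Qp R S Rh Sh)) := by
    funext x
    rw [jMap_apply, IsScalarTower.algebraMap_apply Rh (Rh ⊗[R] S)]
    rfl
  rw [hj]
  exact ⟨FaithfulSMul.algebraMap_injective _ _,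
    surjective_algebraMap_of_unramified_of_isSepClosed Rh _⟩

/-- Étale ⇒ `(R_p)^{sh} → (S_q)^{sh}` is bijective. -/
theorem bijective_algebraMap_of_etale [Algebra.Etale R S]
    [IsLocalHom (algebraMap Rh Sh)]
    [hR : Hensel.IsStrictHenselization (Localization.AtPrime p) Rh]
    [hS : Hensel.IsStrictHenselization (Localization.AtPrime q) Sh] :
    Function.Bijective (algebraMap Rh Sh) := by
  haveI : Algebra.QuasiFiniteAt R q := inferInstance
  have h1 := bijective_vMap_of_quasiFiniteAt_strict R S p q Rh Sh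
  have h2 := bijective_jMap_of_etale R S p q Rh Sh
  have h3 : (algebraMap Rh Sh : Rh → Sh) = vMap R S Rh Sh ∘ jMap R S Rh Sh := by
    funext x
    exact (vMap_jMap R S Rh Sh x).symm
  rw [h3]
  exact h1.comp h2

end EtaleStrict

end Groth.Agent.H8.Hens
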