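import Mathlib
import Groth.Agent.Lib.Helper8.Hens.EtaleStrict
import Groth.Agent.Lib.Helper8.Hens.LocalTensor

/-!
# Geometric unibranchness along étale maps (helper8)
-/

universe u
open IsLocalRing TensorProduct

namespace Groth.Agent.H8.Hens

section

variable (R : Type u) [CommRing R] (S : Type u) [CommRing S] [Algebra R S]
  (p : Ideal R) [p.IsPrime] (q : Ideal S) [q.IsPrime] [q.LiesOver p]
  (Rh : Type u) [CommRing Rh] [IsLocalRing Rh] [Algebra (Localization.AtPrime p) Rh]
  [IsLocalHom (algebraMap (Localization.AtPrime p) Rh)]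
  (Sh : Type u) [CommRing Sh] [IsLocalRing Sh] [Algebra (Localization.AtPrime q) Sh]
  [IsLocalHom (algebraMap (Localization.AtPrime q) Sh)]

/-- For étale `R → S` and `q` over `p`, the strict henselizations of `R_p` and `S_q` are
isomorphic, compatibly with `R_p → S_q`. -/
theorem exists_ringEquiv_of_etale [Algebra.Etale R S]
    [hR : Hensel.IsStrictHenselization (Localization.AtPrime p) Rh]
    [hS : Hensel.IsStrictHenselization (Localization.AtPrime q) Sh] :
    ∃ e : Rh ≃+* Sh, (e : Rh →+* Sh).comp (algebraMap (Localization.AtPrime p) Rh) =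
      (algebraMap (Localization.AtPrime q) Sh).comp
        (Localization.localRingHom p q (algebraMap R S) (Ideal.LiesOver.over (P := q) (p := p))) := by
  set φ := Localization.localRingHom p q (algebraMap R S) (Ideal.LiesOver.over (P := q) (p := p))
    with hφ
  haveI : IsLocalHom φ := Localization.isLocalHom_localRingHom _ _ _ _
  let f : Localization.AtPrime p →+* Sh := (algebraMap (Localization.AtPrime q) Sh).comp φ
  haveI : IsLocalHom f := RingHom.isLocalHom_comp _ _
  haveI : HenselianLocalRing Sh := hS.henselian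
  haveI : IsSepClosed (ResidueField Sh) := hS.isSepClosure.sep_closed
  obtain ⟨ι, hι, hιloc⟩ := LT.exists_lift_of_isSepClosed (A := Localization.AtPrime p) (S := Rh) Sh f
  letI : Algebra R Rh :=
    ((algebraMap (Localization.AtPrime p) Rh).comp (algebraMap R (Localization.AtPrime p))).toAlgebra
  haveI : IsScalarTower R (Localization.AtPrime p) Rh := IsScalarTower.of_algebraMap_eq fun _ => rfl
  letI : Algebra S Sh :=
    ((algebraMap (Localization.AtPrime q) Sh).comp (algebraMap S (Localization.AtPrime q))).toAlgebra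
  haveI : IsScalarTower S (Localization.AtPrime q) Sh := IsScalarTower.of_algebraMap_eq fun _ => rfl
  letI : Algebra R Sh := ((algebraMap S Sh).comp (algebraMap R S)).toAlgebra
  haveI : IsScalarTower R S Sh := IsScalarTower.of_algebraMap_eq fun _ => rfl
  letI : Algebra Rh Sh := ι.toAlgebra
  haveI : IsScalarTower R Rh Sh := by
    refine IsScalarTower.of_algebraMap_eq fun r => ?_
    have h1 := congrArg (fun w => w (algebraMap R (Localization.AtPrime p) r)) hι
    simp only [RingHom.comp_apply] at h1
    show algebraMap (Localization.AtPrime q) Sh (algebraMap S (Localization.AtPrime q)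
      (algebraMap R S r)) = ι (algebraMap (Localization.AtPrime p) Rh
        (algebraMap R (Localization.AtPrime p) r))
    rw [h1]
    show _ = algebraMap (Localization.AtPrime q) Sh (φ (algebraMap R (Localization.AtPrime p) r))
    rw [hφ, Localization.localRingHom_to_map]
  haveI : IsLocalHom (algebraMap Rh Sh) := hιloc
  have hbij : Function.Bijective (algebraMap Rh Sh) := bijective_algebraMap_of_etale R S p q Rh Sh
  refine ⟨RingEquiv.ofBijective (algebraMap Rh Sh) hbij, ?_⟩
  exact hι

end

section GU

variable (R : Type u) [CommRing R] (S : Type u) [CommRing S] [Algebra R S]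
  (p : Ideal R) [p.IsPrime] (q : Ideal S) [q.IsPrime] [q.LiesOver p]

theorem hasUniqueMinimalPrime_of_ringEquiv {A B : Type u} [CommRing A] [CommRing B] (e : A ≃+* B)
    (h : CAlgX.HasUniqueMinimalPrime A) : CAlgX.HasUniqueMinimalPrime B := by
  rw [UMP.hasUniqueMinimalPrime_iff] at h ⊢
  have : nilradical B = Ideal.comap (e.symm : B →+* A) (nilradical A) := by
    ext x
    rw [Ideal.mem_comap, mem_nilradical, mem_nilradical]
    constructor
    · intro hx
      exact hx.map (e.symm : B →+* A)
    · intro hx
      have := hx.map (e : A →+* B)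
      simpa using this
  rw [this]
  exact Ideal.comap_isPrime _ _

/-- Geometric unibranchness transfers along étale maps, in both directions. -/
theorem isGeomUnibranch_iff_of_etale [Algebra.Etale R S] :
    CAlg2.IsGeomUnibranch (Localization.AtPrime q) ↔ CAlg2.IsGeomUnibranch (Localization.AtPrime p) := by
  haveI := isStrictHenselization (R := Localization.AtPrime p)
  haveI := isStrictHenselization (R := Localization.AtPrime q)
  obtain ⟨e, -⟩ := exists_ringEquiv_of_etale R S p q (StrictHenselization (Localization.AtPrime p))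
    (StrictHenselization (Localization.AtPrime q))
  rw [UMP.isGeomUnibranch_iff (A := Localization.AtPrime p)
      (Ash := StrictHenselization (Localization.AtPrime p)),
    UMP.isGeomUnibranch_iff (A := Localization.AtPrime q)
      (Ash := StrictHenselization (Localization.AtPrime q))]
  exact ⟨hasUniqueMinimalPrime_of_ringEquiv e.symm, hasUniqueMinimalPrime_of_ringEquiv e⟩

/-- Stacks-style: if `R_p` is a geometrically unibranch domain and `R → S` is étale, then `S_q` is a
geometrically unibranch domain. -/
theorem isDomain_and_isGeomUnibranch_of_etale [Algebra.Etale R S]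
    (hD : IsDomain (Localization.AtPrime p)) (hG : CAlg2.IsGeomUnibranch (Localization.AtPrime p)) :
    IsDomain (Localization.AtPrime q) ∧ CAlg2.IsGeomUnibranch (Localization.AtPrime q) := by
  refine ⟨?_, (isGeomUnibranch_iff_of_etale R S p q).mpr hG⟩
  haveI := isStrictHenselization (R := Localization.AtPrime p)
  haveI := isStrictHenselization (R := Localization.AtPrime q)
  obtain ⟨e, -⟩ := exists_ringEquiv_of_etale R S p q (StrictHenselization (Localization.AtPrime p))
    (StrictHenselization (Localization.AtPrime q))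
  have h1 : IsDomain (StrictHenselization (Localization.AtPrime p)) :=
    (GU.geomUnibranch_iff_isDomain (Localization.AtPrime p) _).mp ⟨inferInstance, hG⟩
  haveI h2 : IsDomain (StrictHenselization (Localization.AtPrime q)) := e.symm.toMulEquiv.isDomain
  haveI : Module.FaithfullyFlat (Localization.AtPrime q)
      (StrictHenselization (Localization.AtPrime q)) :=
    faithfullyFlat_of_isStrictHenselization (R := Localization.AtPrime q) _
  exact (FaithfulSMul.algebraMap_injective (Localization.AtPrime q)
    (StrictHenselization (Localization.AtPrime q))).isDomain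

end GU

end Groth.Agent.H8.Hens

namespace Groth.Agent.H8.Hens

section Transfer

theorem isGeomUnibranch_of_ringEquiv {A A' : Type u} [CommRing A] [IsLocalRing A] [CommRing A']
    [IsLocalRing A'] (e : A ≃+* A') (h : CAlg2.IsGeomUnibranch A) : CAlg2.IsGeomUnibranch A' := by
  haveI := isStrictHenselization (R := A)
  letI : Algebra A' (StrictHenselization A) :=
    ((algebraMap A (StrictHenselization A)).comp (e.symm : A' →+* A)).toAlgebra
  have he : (algebraMap A' (StrictHenselization A)).comp (e : A →+* A') =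
      algebraMap A (StrictHenselization A) := by
    refine RingHom.ext fun a => ?_
    show algebraMap A (StrictHenselization A) (e.symm (e a)) = _
    rw [RingEquiv.symm_apply_apply]
  haveI : IsLocalHom (e.symm : A' →+* A) := ⟨fun a ha => by
    have := ha.map (e : A →+* A')
    simpa using this⟩
  haveI : IsLocalHom (algebraMap A' (StrictHenselization A)) :=
    RingHom.isLocalHom_comp (algebraMap A (StrictHenselization A)) (e.symm : A' →+* A)
  haveI := GU.isStrictHenselization_of_ringEquiv (S := StrictHenselization A) e he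
  exact (UMP.isGeomUnibranch_iff (A := A') (Ash := StrictHenselization A)).mpr
    ((UMP.isGeomUnibranch_iff (A := A) (Ash := StrictHenselization A)).mp h)

variable (R : Type u) [CommRing R] (S : Type u) [CommRing S] [Algebra R S]
  (p : Ideal R) [p.IsPrime] (q : Ideal S) [q.IsPrime] [q.LiesOver p]

/-- Version for arbitrary localizations. -/
theorem isDomain_and_isGeomUnibranch_of_etale' [Algebra.Etale R S]
    (Rp Sq : Type u) [CommRing Rp] [Algebra R Rp] [IsLocalization.AtPrime Rp p] [CommRing Sq]
    [Algebra S Sq] [IsLocalization.AtPrime Sq q] [IsLocalRing Rp] [IsLocalRing Sq]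
    (hD : IsDomain Rp) (hG : CAlg2.IsGeomUnibranch Rp) :
    IsDomain Sq ∧ CAlg2.IsGeomUnibranch Sq := by
  let eR : Rp ≃ₐ[R] Localization.AtPrime p := IsLocalization.algEquiv p.primeCompl _ _
  let eS : Sq ≃ₐ[S] Localization.AtPrime q := IsLocalization.algEquiv q.primeCompl _ _
  have h1 : IsDomain (Localization.AtPrime p) := eR.symm.toMulEquiv.isDomain
  have h2 : CAlg2.IsGeomUnibranch (Localization.AtPrime p) :=
    isGeomUnibranch_of_ringEquiv eR.toRingEquiv hG
  obtain ⟨h3, h4⟩ := isDomain_and_isGeomUnibranch_of_etale R S p q h1 h2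
  exact ⟨eS.toMulEquiv.isDomain, isGeomUnibranch_of_ringEquiv eS.symm.toRingEquiv h4⟩

end Transfer

section Scheme

open AlgebraicGeometry CategoryTheory

theorem isDomain_and_isGeomUnibranch_stalk_of_etale {X Y : Scheme.{u}} (f : X ⟶ Y) (x : X)
    (hY : IsDomain (Y.presheaf.stalk (f x))) (hY' : CAlg2.IsGeomUnibranch (Y.presheaf.stalk (f x)))
    (U : X.Opens) (hxU : x ∈ U) [hE : Etale (U.ι ≫ f)] :
    IsDomain (X.presheaf.stalk x) ∧ CAlg2.IsGeomUnibranch (X.presheaf.stalk x) := by
  obtain ⟨_, ⟨V, hV : IsAffineOpen V, rfl⟩, hxV, -⟩ :=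
    Y.isBasis_affineOpens.exists_subset_of_mem_open (Set.mem_univ (f x)) isOpen_univ
  let x' : U.toScheme := ⟨x, hxU⟩
  have hx' : U.ι x' = x := rfl
  obtain ⟨_, ⟨W', hW' : IsAffineOpen W', rfl⟩, hxW', hW'V⟩ :=
    U.toScheme.isBasis_affineOpens.exists_subset_of_mem_open
      (show x' ∈ ((U.ι ≫ f) ⁻¹ᵁ V : Set U.toScheme) from hxV) ((U.ι ≫ f) ⁻¹ᵁ V).isOpen
  have e' : W' ≤ (U.ι ≫ f) ⁻¹ᵁ V := hW'V
  have hW : IsAffineOpen (U.ι ''ᵁ W') := hW'.image_of_isOpenImmersion _
  have hxW : x ∈ U.ι ''ᵁ W' := ⟨x', hxW', hx'⟩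
  have e : U.ι ''ᵁ W' ≤ f ⁻¹ᵁ V := by
    rintro _ ⟨z, hz, rfl⟩
    exact e' hz
  have het : (f.appLE V (U.ι ''ᵁ W') e).hom.Etale := by
    have h0 : ((U.ι ≫ f).appLE V W' e').hom.Etale := (U.ι ≫ f).etale_appLE hV hW' e'
    have : IsIso (U.ι.appLE (U.ι ''ᵁ W') W' (U.ι.preimage_image_eq _).ge) :=
      inferInstanceAs (IsIso (U.ι.app _ ≫
        U.toScheme.presheaf.map (eqToHom (U.ι.preimage_image_eq _).symm).op))
    rw [← Scheme.Hom.appLE_comp_appLE _ _ _ (U.ι ''ᵁ W') W' e (U.ι.preimage_image_eq _).ge,
      CommRingCat.hom_comp, RingHom.Etale.respectsIso.cancel_right_isIso] at h0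
    exact h0
  algebraize [(f.appLE V (U.ι ''ᵁ W') e).hom]
  have het' : Algebra.Etale Γ(Y, V) Γ(X, U.ι ''ᵁ W') := het
  let q := (hW.primeIdealOf ⟨x, hxW⟩).asIdeal
  let p := (hV.primeIdealOf ⟨f x, hxV⟩).asIdeal
  have hp : p = q.comap (algebraMap Γ(Y, V) Γ(X, U.ι ''ᵁ W')) := by
    have := IsAffineOpen.comap_primeIdealOf_appLE (f := f) V hV _ hW e hxW
    exact (congrArg PrimeSpectrum.asIdeal this).symm
  haveI : q.LiesOver p := ⟨hp⟩
  let _ := Y.presheaf.algebra_section_stalk ⟨f x, hxV⟩
  let _ := X.presheaf.algebra_section_stalk ⟨x, hxW⟩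
  have h1 : IsLocalization.AtPrime (Y.presheaf.stalk (f x)) p := hV.isLocalization_stalk ⟨f x, hxV⟩
  have h2 : IsLocalization.AtPrime (X.presheaf.stalk x) q := hW.isLocalization_stalk ⟨x, hxW⟩
  exact isDomain_and_isGeomUnibranch_of_etale' Γ(Y, V) Γ(X, U.ι ''ᵁ W') p q
    (Y.presheaf.stalk (f x)) (X.presheaf.stalk x) hY hY'

end Scheme

end Groth.Agent.H8.Hens
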