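import Mathlib
import Groth.Agent.Lib.Helper8.Hens.AtPrimeColim
import Groth.Agent.Lib.Helper8.Hens.Transfer
import Groth.Agent.Lib.Helper8.Hens.UniqueMinPrime

/-!
# Henselization and elementary étale neighbourhoods (helper8)

If `R → S` is étale and `q` is a prime of `S` over `p` with trivial residue field extension, the
henselization of `R_p` is a henselization of `S_q`.
-/

universe u
open IsLocalRing TensorProduct

namespace Groth.Agent.H8.Hens.EH

section

variable (R : Type u) [CommRing R] (S : Type u) [CommRing S] [Algebra R S]
  (p : Ideal R) [p.IsPrime] (q : Ideal S) [q.IsPrime]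

/-- Elementary formulation of: the residue field extension `κ(p) → κ(q)` is trivial. -/
def ResTriv : Prop :=
  ∀ c : S, ∃ r s : R, s ∉ p ∧ algebraMap R S s * c - algebraMap R S r ∈ q

variable {R S p q}

theorem bijective_residueField_map (hq : p = q.comap (algebraMap R S)) (h : ResTriv R S p q) :
    Function.Bijective (Ideal.ResidueField.map p q (algebraMap R S) hq) := by
  refine ⟨(Ideal.ResidueField.map p q (algebraMap R S) hq).injective, ?_⟩
  set θ := Ideal.ResidueField.map p q (algebraMap R S) hq with hθ
  have hR : ∀ r : R, algebraMap S q.ResidueField (algebraMap R S r) ∈ θ.fieldRange := by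
    intro r
    exact ⟨algebraMap R p.ResidueField r, Ideal.ResidueField.map_algebraMap p q (algebraMap R S) hq r⟩
  have hS : ∀ c : S, algebraMap S q.ResidueField c ∈ θ.fieldRange := by
    intro c
    obtain ⟨r, s, hs, hrs⟩ := h c
    have h1 : algebraMap S q.ResidueField (algebraMap R S s) * algebraMap S q.ResidueField c =
        algebraMap S q.ResidueField (algebraMap R S r) := by
      rw [← map_mul, ← sub_eq_zero, ← map_sub, Ideal.algebraMap_residueField_eq_zero]
      exact hrs
    have h2 : algebraMap S q.ResidueField (algebraMap R S s) ≠ 0 := by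
      rw [Ne, Ideal.algebraMap_residueField_eq_zero]
      intro h3
      apply hs
      rw [hq]
      exact h3
    have h3 : algebraMap S q.ResidueField c =
        algebraMap S q.ResidueField (algebraMap R S r) / algebraMap S q.ResidueField (algebraMap R S s) := by
      rw [eq_div_iff h2, mul_comm, h1]
    rw [h3]
    exact div_mem (hR r) (hR s)
  intro z
  obtain ⟨y, rfl⟩ := IsLocalRing.residue_surjective z
  obtain ⟨c, t, rfl⟩ := IsLocalization.exists_mk'_eq q.primeCompl y
  have ht : algebraMap S q.ResidueField (t : S) ≠ 0 := by
    rw [Ne, Ideal.algebraMap_residueField_eq_zero]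
    exact t.2
  have h1 : IsLocalRing.residue (Localization.AtPrime q) (IsLocalization.mk' _ c t) =
      algebraMap S q.ResidueField c / algebraMap S q.ResidueField (t : S) := by
    rw [eq_div_iff ht]
    show IsLocalRing.residue _ _ * IsLocalRing.residue _ (algebraMap S _ (t : S)) =
      IsLocalRing.residue _ (algebraMap S _ c)
    rw [← map_mul, IsLocalization.mk'_spec]
  have h2 : IsLocalRing.residue (Localization.AtPrime q) (IsLocalization.mk' _ c t) ∈ θ.fieldRange := by
    rw [h1]
    exact div_mem (hS c) (hS t)
  exact h2

end

section Main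

variable (R : Type u) [CommRing R] (S : Type u) [CommRing S] [Algebra R S] [Algebra.Etale R S]
  (p : Ideal R) [p.IsPrime] (q : Ideal S) [q.IsPrime]
  (hq : p = q.comap (algebraMap R S)) (hres : ResTriv R S p q)
  (Rh : Type u) [CommRing Rh] [IsLocalRing Rh] [Algebra (Localization.AtPrime p) Rh]
  [IsLocalHom (algebraMap (Localization.AtPrime p) Rh)]
  [hR : Hensel.IsHenselization (Localization.AtPrime p) Rh]

include hq hres hR in
/-- The henselization of `R_p` carries the structure of a henselization of `S_q`. -/
theorem exists_isHenselization :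
    ∃ (_ : Algebra (Localization.AtPrime q) Rh)
      (_ : IsLocalHom (algebraMap (Localization.AtPrime q) Rh)),
      Hensel.IsHenselization (Localization.AtPrime q) Rh := by
  haveI : HenselianLocalRing Rh := hR.henselian
  letI : Algebra R Rh :=
    ((algebraMap (Localization.AtPrime p) Rh).comp (algebraMap R (Localization.AtPrime p))).toAlgebra
  haveI : IsScalarTower R (Localization.AtPrime p) Rh := IsScalarTower.of_algebraMap_eq fun _ => rfl
  have hbij := bijective_residueField_map hq hres
  obtain ⟨fS, hfS⟩ := exists_algHom_comap_eq (T := Rh) p S q hq hbij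
  have hunit : ∀ s : q.primeCompl, IsUnit (fS.toRingHom (s : S)) := by
    intro s
    by_contra hnu
    have : (s : S) ∈ (maximalIdeal Rh).comap fS.toRingHom := (mem_maximalIdeal _).mpr hnu
    rw [hfS] at this
    exact s.2 this
  let ψ : Localization.AtPrime q →+* Rh := IsLocalization.lift (M := q.primeCompl) hunit
  have hψ : ∀ c, ψ (algebraMap S _ c) = fS c := fun c => IsLocalization.lift_eq _ _
  letI : Algebra (Localization.AtPrime q) Rh := ψ.toAlgebra
  have hψloc : IsLocalHom (algebraMap (Localization.AtPrime q) Rh) := by
    constructor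
    intro y hy
    obtain ⟨c, t, rfl⟩ := IsLocalization.exists_mk'_eq q.primeCompl y
    have h1 : ψ (IsLocalization.mk' _ c t) * fS (t : S) = fS c := by
      rw [← hψ, ← hψ c, ← map_mul, IsLocalization.mk'_spec]
    have h2 : IsUnit (fS c) := by
      rw [← h1]
      exact (show IsUnit (ψ _) from hy).mul (hunit t)
    have h3 : c ∉ q := by
      intro hc
      rw [← hfS] at hc
      exact ((mem_maximalIdeal _).mp hc) h2
    exact (IsLocalization.AtPrime.isUnit_mk'_iff (Localization.AtPrime q) q c t).mpr h3
  refine ⟨inferInstance, hψloc, ?_⟩
  let u : Localization.AtPrime p →+* Localization.AtPrime q :=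
    Localization.localRingHom p q (algebraMap R S) hq
  have hu : IsLocalHom u := inferInstance
  have huv : (algebraMap (Localization.AtPrime q) Rh).comp u =
      algebraMap (Localization.AtPrime p) Rh := by
    apply IsLocalization.ringHom_ext p.primeCompl
    ext r
    simp only [RingHom.comp_apply, u, Localization.localRingHom_to_map]
    show ψ (algebraMap S _ (algebraMap R S r)) = _
    rw [hψ, fS.commutes]
    rfl
  refine isHenselization_of_epi (S₀ := Localization.AtPrime p) u hu huv ?_
  intro T _ _ f₁ f₂ h₁ h₂ h12
  -- structure of `R_p`-algebra on `T`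
  letI : Algebra (Localization.AtPrime p) T := (f₁.comp u).toAlgebra
  haveI : IsLocalHom (algebraMap (Localization.AtPrime p) T) :=
    RingHom.isLocalHom_comp f₁ u
  letI : Algebra R T :=
    ((algebraMap (Localization.AtPrime p) T).comp (algebraMap R (Localization.AtPrime p))).toAlgebra
  haveI : IsScalarTower R (Localization.AtPrime p) T := IsScalarTower.of_algebraMap_eq fun _ => rfl
  have hcomm : ∀ (f : Localization.AtPrime q →+* T), f.comp u = f₁.comp u →
      ∀ r : R, f (algebraMap S _ (algebraMap R S r)) = algebraMap R T r := by
    intro f hf r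
    have := congrArg (fun w => w (algebraMap R (Localization.AtPrime p) r)) hf
    simp only [RingHom.comp_apply, u, Localization.localRingHom_to_map] at this
    rw [this]
    show _ = f₁ (u (algebraMap R _ r))
    simp only [u, Localization.localRingHom_to_map]
  let F₁ : S →ₐ[R] T :=
    { f₁.comp (algebraMap S (Localization.AtPrime q)) with
      commutes' := fun r => hcomm f₁ rfl r }
  let F₂ : S →ₐ[R] T :=
    { f₂.comp (algebraMap S (Localization.AtPrime q)) with
      commutes' := fun r => hcomm f₂ h12.symm r }
  have hcomap : ∀ (f : Localization.AtPrime q →+* T), IsLocalHom f →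
      (maximalIdeal T).comap (f.comp (algebraMap S (Localization.AtPrime q))) = q := by
    intro f hf
    rw [← Ideal.comap_comap]
    have h3 : (maximalIdeal T).comap f = maximalIdeal (Localization.AtPrime q) :=
      ((local_hom_TFAE f).out 0 4).mp hf
    rw [h3]
    exact IsLocalization.AtPrime.under_maximalIdeal (Localization.AtPrime q) q
  have hF : F₁ = F₂ := algHom_unique_of_comap_eq (T := T) p S q hq hbij F₁ F₂
    (hcomap f₁ h₁) (hcomap f₂ h₂)
  apply IsLocalization.ringHom_ext q.primeCompl
  ext c
  exact congrArg (fun w => w c) hF

end Main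

end Groth.Agent.H8.Hens.EH
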