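import Mathlib
import Groth.Agent.Lib.Helper8.Hens.EtaleHens
import Groth.Agent.Lib.Helper8.Hens.Unibranch
import Groth.Agent.Lib.Helper8.Brnch.GUCrit

/-!
# Unibranch local rings and elementary étale neighbourhoods (helper8)
-/

universe u
open IsLocalRing TensorProduct

namespace Groth.Agent.H8.Hens.EH

theorem isUnibranch_of_ringEquiv {A A' : Type u} [CommRing A] [IsLocalRing A] [CommRing A']
    [IsLocalRing A'] (e : A ≃+* A') (h : CAlg2.IsUnibranch A) : CAlg2.IsUnibranch A' := by
  haveI := isHenselization (R := A)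
  letI : Algebra A' (Henselization A) :=
    ((algebraMap A (Henselization A)).comp (e.symm : A' →+* A)).toAlgebra
  have he : (algebraMap A' (Henselization A)).comp (e : A →+* A') =
      algebraMap A (Henselization A) := by
    refine RingHom.ext fun a => ?_
    show algebraMap A (Henselization A) (e.symm (e a)) = _
    rw [RingEquiv.symm_apply_apply]
  haveI : IsLocalHom (e.symm : A' →+* A) := ⟨fun a ha => by
    have := ha.map (e : A →+* A')
    simpa using this⟩
  haveI : IsLocalHom (algebraMap A' (Henselization A)) :=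
    RingHom.isLocalHom_comp (algebraMap A (Henselization A)) (e.symm : A' →+* A)
  haveI := isHenselization_of_ringEquiv (S := Henselization A) e he
  exact (UMP.isUnibranch_iff (A := A') (Ah := Henselization A)).mpr
    ((UMP.isUnibranch_iff (A := A) (Ah := Henselization A)).mp h)

section Main

variable (R : Type u) [CommRing R] (S : Type u) [CommRing S] [Algebra R S] [Algebra.Etale R S]
  (p : Ideal R) [p.IsPrime] (q : Ideal S) [q.IsPrime]
  (hq : p = q.comap (algebraMap R S)) (hres : ResTriv R S p q)

include hq hres in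
theorem isUnibranch_iff_of_etale :
    CAlg2.IsUnibranch (Localization.AtPrime q) ↔ CAlg2.IsUnibranch (Localization.AtPrime p) := by
  haveI := isHenselization (R := Localization.AtPrime p)
  obtain ⟨_, _, hH⟩ := exists_isHenselization R S p q hq hres (Henselization (Localization.AtPrime p))
  rw [UMP.isUnibranch_iff (A := Localization.AtPrime q) (Ah := Henselization (Localization.AtPrime p)),
    UMP.isUnibranch_iff (A := Localization.AtPrime p) (Ah := Henselization (Localization.AtPrime p))]

include hq hres in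
theorem isUnibranch_iff_of_etale' (Rp Sq : Type u) [CommRing Rp] [Algebra R Rp]
    [IsLocalization.AtPrime Rp p] [CommRing Sq] [Algebra S Sq] [IsLocalization.AtPrime Sq q]
    [IsLocalRing Rp] [IsLocalRing Sq] :
    CAlg2.IsUnibranch Sq ↔ CAlg2.IsUnibranch Rp := by
  let eR : Rp ≃ₐ[R] Localization.AtPrime p := IsLocalization.algEquiv p.primeCompl _ _
  let eS : Sq ≃ₐ[S] Localization.AtPrime q := IsLocalization.algEquiv q.primeCompl _ _
  constructor
  · intro h
    have h1 := isUnibranch_of_ringEquiv eS.toRingEquiv h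
    have h2 := (isUnibranch_iff_of_etale R S p q hq hres).mp h1
    exact isUnibranch_of_ringEquiv eR.symm.toRingEquiv h2
  · intro h
    have h1 := isUnibranch_of_ringEquiv eR.toRingEquiv h
    have h2 := (isUnibranch_iff_of_etale R S p q hq hres).mpr h1
    exact isUnibranch_of_ringEquiv eS.symm.toRingEquiv h2

end Main

section Core

variable (R : Type u) [CommRing R] (p : Ideal R) [p.IsPrime]

open Groth.Agent.H4.IndEtCrit Groth.Agent.H8.Brnch in
/-- If for all étale `R`-algebras `C` and primes `q'` over `p` with trivial residue field extension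
the local ring `C_{q'}` has prime nilradical, then `R_p` is unibranch. -/
theorem isUnibranch_localization_of_forall_etale
    (H : ∀ (C : Type u) [CommRing C] [Algebra R C] [Algebra.Etale R C] (q' : Ideal C) [q'.IsPrime],
      q'.comap (algebraMap R C) = p → ResTriv R C p q' →
        (nilradical (Localization.AtPrime q')).IsPrime) :
    CAlg2.IsUnibranch (Localization.AtPrime p) := by
  set Rp := Localization.AtPrime p
  set Ah := Henselization Rp
  letI : Algebra R Ah := ((algebraMap Rp Ah).comp (algebraMap R Rp)).toAlgebra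
  haveI : IsScalarTower R Rp Ah := IsScalarTower.of_algebraMap_eq fun _ => rfl
  haveI hS : Hensel.IsHenselization Rp Ah := isHenselization
  have hcrit : Crit R Ah := crit_henselization_atPrime R p Ah
  rw [UMP.isUnibranch_iff (Ah := Ah), UMP.hasUniqueMinimalPrime_iff, isPrime_nilradical_iff]
  refine ⟨inferInstance, fun a b hab => ?_⟩
  obtain ⟨n, hn⟩ := hab
  obtain ⟨C₁, _, _, _, g₁, c₁, rfl⟩ := hcrit.lift a
  obtain ⟨C₂, _, _, _, g₂, c₂, rfl⟩ := hcrit.lift b
  let g : C₁ ⊗[R] C₂ →ₐ[R] Ah := Algebra.TensorProduct.lift g₁ g₂ (fun _ _ => Commute.all _ _)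
  have hg1 : g (c₁ ⊗ₜ 1) = g₁ c₁ := by simp [g]
  have hg2 : g (1 ⊗ₜ c₂) = g₂ c₂ := by simp [g]
  have hg0 : g (((c₁ ⊗ₜ[R] (1 : C₂)) * ((1 : C₁) ⊗ₜ[R] c₂)) ^ n) = 0 := by
    rw [map_pow, map_mul, hg1, hg2, hn]
  obtain ⟨C', _, _, _, h, g', hg', hh⟩ := hcrit.kill (C₁ ⊗[R] C₂) g _ hg0
  set a' : C' := h (c₁ ⊗ₜ 1) with ha'
  set b' : C' := h (1 ⊗ₜ c₂) with hb'
  have hab' : (a' * b') ^ n = 0 := by rw [ha', hb', ← map_mul, ← map_pow]; exact hh
  have hga : g' a' = g₁ c₁ := by
    rw [ha', ← AlgHom.comp_apply, hg', hg1]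
  have hgb : g' b' = g₂ c₂ := by
    rw [hb', ← AlgHom.comp_apply, hg', hg2]
  let q' : Ideal C' := (maximalIdeal Ah).comap g'.toRingHom
  haveI : q'.IsPrime := Ideal.comap_isPrime _ _
  have hRAh : (maximalIdeal Ah).comap (algebraMap R Ah) = p := by
    have h2 : (maximalIdeal Ah).comap (algebraMap R Ah) =
        ((maximalIdeal Ah).comap (algebraMap Rp Ah)).comap (algebraMap R Rp) := by
      rw [Ideal.comap_comap, ← IsScalarTower.algebraMap_eq]
    rw [h2]
    have h3 : (maximalIdeal Ah).comap (algebraMap Rp Ah) = maximalIdeal Rp :=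
      ((local_hom_TFAE (algebraMap Rp Ah)).out 0 4).mp (inferInstance : IsLocalHom (algebraMap Rp Ah))
    rw [h3]
    exact IsLocalization.AtPrime.under_maximalIdeal Rp p
  have hq' : q'.comap (algebraMap R C') = p := by
    have h1 : q'.comap (algebraMap R C') = (maximalIdeal Ah).comap (algebraMap R Ah) := by
      ext r
      simp only [q', Ideal.mem_comap]
      show g' (algebraMap R C' r) ∈ _ ↔ _
      rw [g'.commutes]
    rw [h1, hRAh]
  have hres : ResTriv R C' p q' := by
    intro c
    obtain ⟨ρ, hρ⟩ := residue_surjective_of_isHenselization (R := Rp) Ah (g' c)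
    obtain ⟨r, s, rfl⟩ := IsLocalization.exists_mk'_eq p.primeCompl ρ
    refine ⟨r, s, s.2, ?_⟩
    show g' (algebraMap R C' s * c - algebraMap R C' r) ∈ maximalIdeal Ah
    rw [map_sub, map_mul, g'.commutes, g'.commutes]
    have h1 : algebraMap R Ah (s : R) * g' c - algebraMap R Ah r =
        algebraMap R Ah (s : R) * (g' c - algebraMap Rp Ah (IsLocalization.mk' Rp r s)) := by
      rw [mul_sub, IsScalarTower.algebraMap_apply R Rp Ah, IsScalarTower.algebraMap_apply R Rp Ah r,
        ← map_mul, mul_comm _ (IsLocalization.mk' Rp r s), IsLocalization.mk'_spec]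
    rw [h1]
    exact Ideal.mul_mem_left _ _ hρ
  have hprime := H C' q' hq' hres
  rw [isPrime_nilradical_iff] at hprime
  have hunit : ∀ s : q'.primeCompl, IsUnit (g'.toRingHom (s : C')) := by
    intro s
    by_contra hnu
    exact s.2 ((mem_maximalIdeal _).mpr hnu)
  let ψ : Localization.AtPrime q' →+* Ah := IsLocalization.lift (M := q'.primeCompl) hunit
  have hψ : ∀ c, ψ (algebraMap C' _ c) = g' c := fun c => IsLocalization.lift_eq _ _
  have hnil : IsNilpotent (algebraMap C' (Localization.AtPrime q') a' *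
      algebraMap C' (Localization.AtPrime q') b') := by
    refine ⟨n, ?_⟩
    rw [← map_mul, ← map_pow, hab', map_zero]
  rcases hprime.2 _ _ hnil with h1 | h1
  · left
    have := h1.map ψ
    rwa [hψ, hga] at this
  · right
    have := h1.map ψ
    rwa [hψ, hgb] at this

/-- Version for an arbitrary localization at `p`. -/
theorem isUnibranch_of_forall_etale (Rp : Type u) [CommRing Rp] [Algebra R Rp]
    [IsLocalization.AtPrime Rp p] [IsLocalRing Rp]
    (H : ∀ (C : Type u) [CommRing C] [Algebra R C] [Algebra.Etale R C] (q' : Ideal C) [q'.IsPrime],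
      q'.comap (algebraMap R C) = p → ResTriv R C p q' →
        (nilradical (Localization.AtPrime q')).IsPrime) :
    CAlg2.IsUnibranch Rp := by
  let eR : Rp ≃ₐ[R] Localization.AtPrime p := IsLocalization.algEquiv p.primeCompl _ _
  exact isUnibranch_of_ringEquiv eR.symm.toRingEquiv
    (isUnibranch_localization_of_forall_etale R p H)

end Core

end Groth.Agent.H8.Hens.EH
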