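import Mathlib
import Groth.Agent.Lib.Helper8.Hens.EtaleUB

/-!
# Elementary étale neighbourhoods of schemes and residue fields (helper8)
-/

universe u
open IsLocalRing CategoryTheory AlgebraicGeometry

namespace Groth.Agent.H8.Hens.EH

/-- An isomorphism of local rings preserves the maximal ideal. -/
theorem map_mem_maximalIdeal_of_isIso {A B : CommRingCat.{u}} [IsLocalRing A] [IsLocalRing B]
    (e : A ≅ B) {a : A} (ha : a ∈ maximalIdeal A) : e.hom a ∈ maximalIdeal B := by
  rw [mem_maximalIdeal, mem_nonunits_iff] at ha ⊢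
  intro h
  apply ha
  have := h.map e.inv.hom
  rwa [show e.inv.hom (e.hom a) = a from by
    rw [← CommRingCat.comp_apply, e.hom_inv_id]; rfl] at this

theorem surjective_residueFieldMap_of_forall {U X : Scheme.{u}} (g : U ⟶ X) (u : U)
    (h : ∀ b : U.presheaf.stalk u, ∃ a : X.presheaf.stalk (g u),
      g.stalkMap u a - b ∈ maximalIdeal (U.presheaf.stalk u)) :
    Function.Surjective (g.residueFieldMap u) := by
  intro z
  obtain ⟨b, rfl⟩ := U.residue_surjective u z
  obtain ⟨a, ha⟩ := h b
  refine ⟨X.residue (g u) a, ?_⟩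
  have h1 := ConcreteCategory.congr_hom (Scheme.residue_residueFieldMap g u) a
  simp only [CategoryTheory.comp_apply] at h1
  rw [h1]
  have h2 : IsLocalRing.residue _ (g.stalkMap u a - b) = 0 := (residue_eq_zero_iff _).mpr ha
  rw [map_sub, sub_eq_zero] at h2
  exact h2

theorem forall_of_surjective_residueFieldMap {U X : Scheme.{u}} (g : U ⟶ X) (u : U)
    (h : Function.Surjective (g.residueFieldMap u)) (b : U.presheaf.stalk u) :
    ∃ a : X.presheaf.stalk (g u), g.stalkMap u a - b ∈ maximalIdeal (U.presheaf.stalk u) := by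
  obtain ⟨z, hz⟩ := h (U.residue u b)
  obtain ⟨a, rfl⟩ := X.residue_surjective (g u) z
  refine ⟨a, ?_⟩
  have h1 := ConcreteCategory.congr_hom (Scheme.residue_residueFieldMap g u) a
  simp only [CategoryTheory.comp_apply] at h1
  rw [h1] at hz
  have h2 : IsLocalRing.residue _ (g.stalkMap u a - b) = 0 := by
    rw [map_sub, sub_eq_zero]; exact hz
  exact (residue_eq_zero_iff _).mp h2

/-- The residue field map of `Spec C → Spec R` at a prime with trivial residue field extension
is surjective. -/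
theorem surjective_residueFieldMap_SpecMap (R C : Type u) [CommRing R] [CommRing C] [Algebra R C]
    (q' : Ideal C) [q'.IsPrime] (hres : ResTriv R C (q'.comap (algebraMap R C)) q') :
    Function.Surjective
      ((Spec.map (CommRingCat.ofHom (algebraMap R C))).residueFieldMap ⟨q', inferInstance⟩) := by
  apply surjective_residueFieldMap_of_forall
  set u : Spec (CommRingCat.of C) := ⟨q', inferInstance⟩ with hu
  intro b
  have hbij := bijective_residueField_map (R := R) (S := C) (p := q'.comap (algebraMap R C))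
    (q := q') rfl hres
  set b' := (Spec.stalkIso (CommRingCat.of C) u).hom b with hb'
  obtain ⟨z, hz⟩ := hbij.2 (IsLocalRing.residue _ b')
  obtain ⟨a', rfl⟩ := IsLocalRing.residue_surjective z
  have h1 : Localization.localRingHom (q'.comap (algebraMap R C)) q' (algebraMap R C) rfl a' - b' ∈
      maximalIdeal (Localization.AtPrime q') := by
    rw [← residue_eq_zero_iff, map_sub, sub_eq_zero]
    exact hz
  refine ⟨(Spec.stalkIso (CommRingCat.of R)
    (u.comap (CommRingCat.ofHom (algebraMap R C)).hom)).inv a', ?_⟩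
  have h2' : (Spec.stalkIso (CommRingCat.of R)
      (u.comap (CommRingCat.ofHom (algebraMap R C)).hom)).inv ≫
      (Spec.map (CommRingCat.ofHom (algebraMap R C))).stalkMap u =
      (CommRingCat.ofHom <| Localization.localRingHom
        (PrimeSpectrum.comap (CommRingCat.ofHom (algebraMap R C)).hom u).asIdeal u.asIdeal
        (CommRingCat.ofHom (algebraMap R C)).hom rfl) ≫ (Spec.stalkIso (CommRingCat.of C) u).inv := by
    rw [Iso.inv_comp_eq]
    exact (Scheme.localRingHom_comp_stalkIso (CommRingCat.ofHom (algebraMap R C)) u).symm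
  have h2 := ConcreteCategory.congr_hom h2' a'
  simp only [CategoryTheory.comp_apply] at h2
  have h4 : b = (Spec.stalkIso (CommRingCat.of C) u).inv b' := by
    rw [hb', ← CommRingCat.comp_apply, Iso.hom_inv_id]; rfl
  have h6 := map_mem_maximalIdeal_of_isIso (Spec.stalkIso (CommRingCat.of C) u).symm h1
  have h7 : (Spec.map (CommRingCat.ofHom (algebraMap R C))).stalkMap u
      ((Spec.stalkIso (CommRingCat.of R)
        (u.comap (CommRingCat.ofHom (algebraMap R C)).hom)).inv a') - b =
      (Spec.stalkIso (CommRingCat.of C) u).symm.hom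
        (Localization.localRingHom (q'.comap (algebraMap R C)) q' (algebraMap R C) rfl a' - b') := by
    rw [map_sub]
    exact congrArg₂ (· - ·) h2 h4
  exact h7 ▸ h6

end Groth.Agent.H8.Hens.EH

namespace Groth.Agent.H8.Hens.EH

/-- From a surjective residue field map to the elementary triviality statement on affine
charts. -/
theorem resTriv_of_surjective_residueFieldMap {U X : Scheme.{u}} (g : U ⟶ X) (u : U)
    (hsurj : Function.Surjective (g.residueFieldMap u))
    {V : X.Opens} (hV : IsAffineOpen V) {W : U.Opens} (hW : IsAffineOpen W) (e : W ≤ g ⁻¹ᵁ V)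
    (huW : u ∈ W) :
    letI := (g.appLE V W e).hom.toAlgebra
    ResTriv Γ(X, V) Γ(U, W) (hV.primeIdealOf ⟨g u, e huW⟩).asIdeal
      (hW.primeIdealOf ⟨u, huW⟩).asIdeal := by
  letI := (g.appLE V W e).hom.toAlgebra
  intro c
  set b := U.presheaf.germ W u huW c with hb
  obtain ⟨a, ha⟩ := forall_of_surjective_residueFieldMap g u hsurj b
  let _ := X.presheaf.algebra_section_stalk ⟨g u, e huW⟩
  let _ := U.presheaf.algebra_section_stalk ⟨u, huW⟩
  have h1 : IsLocalization.AtPrime (X.presheaf.stalk (g u)) (hV.primeIdealOf ⟨g u, e huW⟩).asIdeal :=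
    hV.isLocalization_stalk ⟨g u, e huW⟩
  have h2 : IsLocalization.AtPrime (U.presheaf.stalk u) (hW.primeIdealOf ⟨u, huW⟩).asIdeal :=
    hW.isLocalization_stalk ⟨u, huW⟩
  obtain ⟨r, s, rfl⟩ := IsLocalization.exists_mk'_eq
    (hV.primeIdealOf ⟨g u, e huW⟩).asIdeal.primeCompl a
  refine ⟨r, s, s.2, ?_⟩
  rw [← IsLocalization.AtPrime.to_map_mem_maximal_iff (U.presheaf.stalk u)
    (hW.primeIdealOf ⟨u, huW⟩).asIdeal]
  have hcompat : ∀ y : Γ(X, V), algebraMap Γ(U, W) (U.presheaf.stalk u) (algebraMap Γ(X, V) Γ(U, W) y) =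
      g.stalkMap u (algebraMap Γ(X, V) (X.presheaf.stalk (g u)) y) := by
    intro y
    show U.presheaf.germ W u huW ((g.appLE V W e).hom y) =
      g.stalkMap u (X.presheaf.germ V (g u) (e huW) y)
    rw [Scheme.Hom.germ_stalkMap_apply, Scheme.Hom.appLE]
    simp only [CommRingCat.hom_comp, RingHom.coe_comp, Function.comp_apply]
    exact U.presheaf.germ_res_apply _ _ _ _
  rw [map_sub, map_mul, hcompat, hcompat]
  have hspec : g.stalkMap u (IsLocalization.mk' (X.presheaf.stalk (g u)) r s) *
      g.stalkMap u (algebraMap Γ(X, V) (X.presheaf.stalk (g u)) (s : Γ(X, V))) =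
      g.stalkMap u (algebraMap Γ(X, V) (X.presheaf.stalk (g u)) r) := by
    rw [← map_mul, IsLocalization.mk'_spec]
  rw [← hspec]
  have hbeq : algebraMap Γ(U, W) (U.presheaf.stalk u) c = b := rfl
  rw [hbeq]
  have : g.stalkMap u (algebraMap Γ(X, V) (X.presheaf.stalk (g u)) (s : Γ(X, V))) * b -
      g.stalkMap u (IsLocalization.mk' (X.presheaf.stalk (g u)) r s) *
        g.stalkMap u (algebraMap Γ(X, V) (X.presheaf.stalk (g u)) (s : Γ(X, V))) =
      - (g.stalkMap u (algebraMap Γ(X, V) (X.presheaf.stalk (g u)) (s : Γ(X, V))) *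
        (g.stalkMap u (IsLocalization.mk' (X.presheaf.stalk (g u)) r s) - b)) := by ring
  rw [this]
  exact Ideal.neg_mem_iff _ |>.mpr (Ideal.mul_mem_left _ _ ha)

/-- Unibranchness is invariant under elementary étale neighbourhoods. -/
theorem isUnibranch_stalk_iff_of_etaleNbhd {U X : Scheme.{u}} (g : U ⟶ X) [Etale g] (u : U)
    (hsurj : Function.Surjective (g.residueFieldMap u)) :
    CAlg2.IsUnibranch (U.presheaf.stalk u) ↔ CAlg2.IsUnibranch (X.presheaf.stalk (g u)) := by
  obtain ⟨V, hV, hxV⟩ : ∃ V : X.Opens, IsAffineOpen V ∧ g u ∈ V := by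
    obtain ⟨_, ⟨V, hV, rfl⟩, hxV, -⟩ :=
      X.isBasis_affineOpens.exists_subset_of_mem_open (Set.mem_univ (g u)) isOpen_univ
    exact ⟨V, hV, hxV⟩
  obtain ⟨W, hW, huW, e⟩ : ∃ W : U.Opens, IsAffineOpen W ∧ u ∈ W ∧ W ≤ g ⁻¹ᵁ V := by
    obtain ⟨_, ⟨W, hW, rfl⟩, hxW, hWV⟩ :=
      U.isBasis_affineOpens.exists_subset_of_mem_open (show u ∈ (g ⁻¹ᵁ V : Set U) from hxV)
        (g ⁻¹ᵁ V).isOpen
    exact ⟨W, hW, hxW, hWV⟩
  have hres := resTriv_of_surjective_residueFieldMap g u hsurj hV hW e huW
  have het : (g.appLE V W e).hom.Etale := g.etale_appLE hV hW e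
  algebraize [(g.appLE V W e).hom]
  have het' : Algebra.Etale Γ(X, V) Γ(U, W) := het
  let q := (hW.primeIdealOf ⟨u, huW⟩).asIdeal
  let p := (hV.primeIdealOf ⟨g u, e huW⟩).asIdeal
  have hp : p = q.comap (algebraMap Γ(X, V) Γ(U, W)) := by
    have := IsAffineOpen.comap_primeIdealOf_appLE (f := g) V hV _ hW e huW
    exact (congrArg PrimeSpectrum.asIdeal this).symm
  let _ := X.presheaf.algebra_section_stalk ⟨g u, e huW⟩
  let _ := U.presheaf.algebra_section_stalk ⟨u, huW⟩
  have h1 : IsLocalization.AtPrime (X.presheaf.stalk (g u)) p := hV.isLocalization_stalk ⟨g u, e huW⟩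
  have h2 : IsLocalization.AtPrime (U.presheaf.stalk u) q := hW.isLocalization_stalk ⟨u, huW⟩
  exact isUnibranch_iff_of_etale' Γ(X, V) Γ(U, W) p q hp hres
    (X.presheaf.stalk (g u)) (U.presheaf.stalk u)

end Groth.Agent.H8.Hens.EH
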