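import Mathlib
import Groth.Agent.Lib.Helper8.Hens.Strict
import Groth.Agent.Lib.Helper1.LocalCriterion
import Groth.Agent.Lib.Helper1.CompleteNoeth
import Groth.Agent.Lib.Helper1.RegFlat

/-!
# Noetherianity of henselizations (helper8)

* `flat_adicCompletion`: for `R` Noetherian, `S` a flat `R`-algebra with `S/IS` Noetherian, the
  `IS`-adic completion of `S` is flat over `R`.
* `H.flat_of_flat_base`: an `H R K`-module which is flat over `R` is flat over `H R K`.
* `H.isNoetherianRing`: `R` Noetherian ⇒ `H R K` Noetherian.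
-/

universe u v
open TensorProduct IsLocalRing

namespace Groth.Agent.H8.Hens

theorem one_tmul_eq_zero_iff {R : Type*} [CommRing R] (J : Ideal R)
    {P : Type*} [AddCommGroup P] [Module R P] (p : P) :
    ((1 : R ⧸ J) ⊗ₜ[R] p = 0) ↔ p ∈ (J • ⊤ : Submodule R P) := by
  rw [← (TensorProduct.quotTensorEquivQuotSMul P J).map_eq_zero_iff,
    TensorProduct.quotTensorEquivQuotSMul_mk_one_tmul, Submodule.Quotient.mk_eq_zero]

theorem exists_eq_one_tmul {R : Type*} [CommRing R] (J : Ideal R)
    {P : Type*} [AddCommGroup P] [Module R P] (z : (R ⧸ J) ⊗[R] P) :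
    ∃ p : P, z = (1 : R ⧸ J) ⊗ₜ[R] p := by
  induction z using TensorProduct.induction_on with
  | zero => exact ⟨0, by simp⟩
  | tmul a p =>
    obtain ⟨a, rfl⟩ := Ideal.Quotient.mk_surjective a
    refine ⟨a • p, ?_⟩
    rw [← TensorProduct.smul_tmul]
    congr 1
    rw [Algebra.smul_def]; simp
  | add x y hx hy =>
    obtain ⟨p, rfl⟩ := hx
    obtain ⟨q, rfl⟩ := hy
    exact ⟨p + q, by rw [TensorProduct.tmul_add]⟩

/-- Base change along `R → R/J` of a linear map which is an isomorphism modulo `J`. -/
theorem baseChange_quotient_bijective {R : Type*} [CommRing R] (J : Ideal R)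
    {M N : Type*} [AddCommGroup M] [AddCommGroup N] [Module R M] [Module R N] (φ : M →ₗ[R] N)
    (h1 : ∀ y : N, ∃ x : M, y - φ x ∈ (J • ⊤ : Submodule R N))
    (h2 : ∀ x : M, φ x ∈ (J • ⊤ : Submodule R N) → x ∈ (J • ⊤ : Submodule R M)) :
    Function.Bijective (LinearMap.baseChange (R ⧸ J) φ) := by
  constructor
  · rw [injective_iff_map_eq_zero]
    intro z hz
    obtain ⟨x, rfl⟩ := exists_eq_one_tmul J z
    rw [LinearMap.baseChange_tmul, one_tmul_eq_zero_iff] at hz
    rw [one_tmul_eq_zero_iff]
    exact h2 x hz
  · intro z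
    obtain ⟨y, rfl⟩ := exists_eq_one_tmul J z
    obtain ⟨x, hx⟩ := h1 y
    refine ⟨(1 : R ⧸ J) ⊗ₜ[R] x, ?_⟩
    rw [LinearMap.baseChange_tmul]
    rw [← sub_eq_zero, ← TensorProduct.tmul_sub, one_tmul_eq_zero_iff]
    rw [← neg_sub]
    exact Submodule.neg_mem _ hx

theorem mem_smul_top_adicCompletion_iff {R S : Type*} [CommRing R] [CommRing S] [Algebra R S]
    (I : Ideal R) (hfg : (I.map (algebraMap R S)).FG) (n : ℕ)
    (x : AdicCompletion (I.map (algebraMap R S)) S) :
    x ∈ (I ^ n • ⊤ : Submodule R (AdicCompletion (I.map (algebraMap R S)) S)) ↔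
      AdicCompletion.eval (I.map (algebraMap R S)) S n x = 0 := by
  have h1 := AdicCompletion.pow_smul_top_eq_ker_eval (I := I.map (algebraMap R S)) (M := S)
    (n := n) hfg
  have h2 := Ideal.smul_restrictScalars (R := R) (S := S) (I ^ n)
    (⊤ : Submodule S (AdicCompletion (I.map (algebraMap R S)) S))
  rw [Submodule.restrictScalars_top] at h2
  rw [← h2, Submodule.restrictScalars_mem, Ideal.map_pow, h1, LinearMap.mem_ker]

/-- The completion along a finitely generated ideal with Noetherian quotient is Noetherian. -/
theorem isNoetherianRing_adicCompletion_of_fg (S : Type*) [CommRing S] (J : Ideal S) (hJ : J.FG)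
    [IsNoetherianRing (S ⧸ J)] : IsNoetherianRing (AdicCompletion J S) := by
  let J' : Ideal (AdicCompletion J S) := J.map (algebraMap S (AdicCompletion J S))
  have : IsAdicComplete J' (AdicCompletion J S) := AdicCompletion.isAdicComplete_self J hJ
  have hJfg : J'.FG := hJ.map _
  have hker := AdicCompletion.ker_evalOneₐ_eq_map J hJ
  have hsurj : Function.Surjective (AdicCompletion.evalOneₐ J).toRingHom :=
    AdicCompletion.evalOneₐ_surjective J
  have : IsNoetherianRing (AdicCompletion J S ⧸ J') := by
    have e := RingHom.quotientKerEquivOfSurjective hsurj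
    exact isNoetherianRing_of_ringEquiv (S ⧸ J) ((Ideal.quotEquivOfEq hker.symm).trans e).symm
  exact Groth.Agent.H1.CompleteNoeth.isNoetherianRing_of_isAdicComplete J' hJfg

/-- The `I`-adic completion of a flat algebra `S` over a Noetherian ring `R` with `S/IS`
Noetherian is flat over `R`. -/
theorem flat_adicCompletion (R : Type u) (S : Type v) [CommRing R] [IsNoetherianRing R] [CommRing S]
    [Algebra R S] [Module.Flat R S] (I : Ideal R)
    [IsNoetherianRing (S ⧸ I.map (algebraMap R S))] :
    Module.Flat R (AdicCompletion (I.map (algebraMap R S)) S) := by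
  have hJfg : (I.map (algebraMap R S)).FG := Ideal.FG.map (IsNoetherian.noetherian I) _
  have : IsNoetherianRing (AdicCompletion (I.map (algebraMap R S)) S) :=
    isNoetherianRing_adicCompletion_of_fg S _ hJfg
  refine Groth.Agent.H1.flat_of_forall_flat_quotient_pow
    (A := R) (B := AdicCompletion (I.map (algebraMap R S)) S)
    (M := AdicCompletion (I.map (algebraMap R S)) S) I ?_ ?_
  · rw [IsScalarTower.algebraMap_eq R S (AdicCompletion (I.map (algebraMap R S)) S), ← Ideal.map_map]
    have := AdicCompletion.isAdicComplete_self (I.map (algebraMap R S)) hJfg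
    exact IsAdicComplete.le_jacobson_bot _
  · intro n hn
    let φ : S →ₗ[R] AdicCompletion (I.map (algebraMap R S)) S :=
      (IsScalarTower.toAlgHom R S (AdicCompletion (I.map (algebraMap R S)) S)).toLinearMap
    have hφ : ∀ x, φ x = AdicCompletion.of (I.map (algebraMap R S)) S x := fun x => rfl
    have hb : Function.Bijective (LinearMap.baseChange (R ⧸ I ^ n) φ) := by
      apply baseChange_quotient_bijective
      · intro y
        obtain ⟨x, hx⟩ := Submodule.Quotient.mk_surjective _
          (AdicCompletion.eval (I.map (algebraMap R S)) S n y)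
        refine ⟨x, ?_⟩
        rw [mem_smul_top_adicCompletion_iff I hJfg, map_sub, hφ, AdicCompletion.eval_of,
          Submodule.mkQ_apply, hx, sub_self]
      · intro x hx
        rw [mem_smul_top_adicCompletion_iff I hJfg, hφ, AdicCompletion.eval_of,
          Submodule.mkQ_apply, Submodule.Quotient.mk_eq_zero] at hx
        rw [Ideal.smul_top_eq_map, Submodule.restrictScalars_mem, Ideal.map_pow]
        simpa using hx
    exact Module.Flat.of_linearEquiv (LinearEquiv.ofBijective _ hb).symm

namespace H

variable {R K : Type u} [CommRing R] [IsLocalRing R] [Field K] [Algebra R K]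

/-- An `H R K`-module which is flat over `R` is flat over `H R K`. -/
theorem flat_of_flat_base (M : Type v) [AddCommGroup M] [Module R M] [Module (H R K) M]
    [IsScalarTower R (H R K) M] [Module.Flat R M] : Module.Flat (H R K) M := by
  apply Module.Flat.of_forall_isTrivialRelation
  intro l f x hfx
  obtain ⟨i, f', hf'⟩ := exists_of_fin f
  letI : Module i.Loc M := Module.compHom M (of i)
  have hsmul : ∀ (a : i.Loc) (m : M), a • m = of i a • m := fun _ _ => rfl
  haveI : IsScalarTower R i.Loc M := by
    refine ⟨fun r a m => ?_⟩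
    rw [hsmul, hsmul, ← ofₐ_apply, map_smul, smul_assoc, ofₐ_apply]
  haveI : Module.Flat i.Loc M := Algebra.FormallyUnramified.flat_of_restrictScalars R i.Loc M
  have h2 : ∑ m, f' m • x m = 0 := by
    rw [← hfx]
    refine Finset.sum_congr rfl fun m _ => ?_
    rw [hsmul, hf']
  obtain ⟨k, a, y, hy1, hy2⟩ := Module.Flat.isTrivialRelation_of_sum_smul_eq_zero h2
  refine ⟨k, fun m n => of i (a m n), y, fun m => ?_, fun n => ?_⟩
  · rw [hy1 m]
    rfl
  · have := congrArg (of i) (hy2 n)
    rw [map_sum, map_zero] at this
    rw [← this]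
    refine Finset.sum_congr rfl fun m _ => ?_
    rw [map_mul, hf']

variable [IsLocalHom (algebraMap R K)]

/-- If `R` is Noetherian, so is `H R K`. -/
instance isNoetherianRing [IsNoetherianRing R] : IsNoetherianRing (H R K) := by
  have hm : (maximalIdeal R).map (algebraMap R (H R K)) = maximalIdeal (H R K) := map_maximalIdeal
  have hfg : (maximalIdeal (H R K)).FG := hm ▸ Ideal.FG.map (IsNoetherian.noetherian _) _
  haveI hq : IsNoetherianRing (H R K ⧸ maximalIdeal (H R K)) := by
    letI := Ideal.Quotient.field (maximalIdeal (H R K))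
    infer_instance
  haveI : IsNoetherianRing (H R K ⧸ (maximalIdeal R).map (algebraMap R (H R K))) := by
    rw [hm]; exact hq
  have hflat : Module.Flat R (AdicCompletion ((maximalIdeal R).map (algebraMap R (H R K))) (H R K)) :=
    flat_adicCompletion R (H R K) (maximalIdeal R)
  rw [hm] at hflat
  haveI := hflat
  haveI : Module.Flat (H R K) (AdicCompletion (maximalIdeal (H R K)) (H R K)) :=
    flat_of_flat_base _
  haveI : IsNoetherianRing (AdicCompletion (maximalIdeal (H R K)) (H R K)) :=
    isNoetherianRing_adicCompletion_of_fg _ _ hfg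
  haveI := AdicCompletion.isLocalRing_of_fg hfg
  haveI := AdicCompletion.algebraMap_isLocalHom_of_fg hfg
  haveI : Module.FaithfullyFlat (H R K) (AdicCompletion (maximalIdeal (H R K)) (H R K)) :=
    Module.FaithfullyFlat.of_flat_of_isLocalHom
  exact Groth.Agent.H1.RegFlat.isNoetherianRing_of_faithfullyFlat (H R K)
    (AdicCompletion (maximalIdeal (H R K)) (H R K))

end H

end Groth.Agent.H8.Hens

namespace Groth.Agent.H8.Hens

open IsLocalRing

variable {R : Type u} [CommRing R] [IsLocalRing R] (S : Type u) [CommRing S] [IsLocalRing S]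
  [Algebra R S] [IsLocalHom (algebraMap R S)]

theorem isNoetherianRing_iff_of_isHenselization [Hensel.IsHenselization R S] :
    IsNoetherianRing R ↔ IsNoetherianRing S := by
  constructor
  · intro h
    exact isNoetherianRing_of_ringEquiv (Henselization R) (algEquiv S).toRingEquiv
  · intro h
    haveI := faithfullyFlat_of_isHenselization (R := R) S
    exact Groth.Agent.H1.RegFlat.isNoetherianRing_of_faithfullyFlat R S

theorem isNoetherianRing_iff_of_isStrictHenselization [Hensel.IsStrictHenselization R S] :
    IsNoetherianRing R ↔ IsNoetherianRing S := by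
  constructor
  · intro h
    exact isNoetherianRing_of_ringEquiv (StrictHenselization R) (algEquivStrict S).toRingEquiv
  · intro h
    haveI := faithfullyFlat_of_isStrictHenselization (R := R) S
    exact Groth.Agent.H1.RegFlat.isNoetherianRing_of_faithfullyFlat R S

end Groth.Agent.H8.Hens
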