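import Mathlib
import Groth.Agent.Lib.Helper8.Hens.Noeth
import Groth.Agent.Lib.Helper8.Hens.Strict

/-!
# Flatness over (strict) henselizations descends from the base (helper8)

* `flat_of_ringEquiv`: flatness transfers along ring isomorphisms compatible with the actions.
* `flat_of_flat_base_of_isHenselization`: a module over a henselization of `R` which is flat over
  `R` is flat over the henselization; similarly for strict henselizations.
-/

universe u v
open TensorProduct IsLocalRing

namespace Groth.Agent.H8.Hens

/-- Flatness transfers along a ring isomorphism compatible with the module structures. -/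
theorem flat_of_ringEquiv {S T : Type*} [CommRing S] [CommRing T] (e : S ≃+* T) (M : Type*)
    [AddCommGroup M] [Module S M] [Module T M] (he : ∀ (s : S) (m : M), s • m = e s • m)
    [Module.Flat T M] : Module.Flat S M := by
  apply Module.Flat.of_forall_isTrivialRelation
  intro l f x hfx
  have h2 : ∑ i, e (f i) • x i = 0 := by
    rw [← hfx]
    exact Finset.sum_congr rfl fun i _ => (he _ _).symm
  obtain ⟨k, a, y, hy1, hy2⟩ := Module.Flat.isTrivialRelation_of_sum_smul_eq_zero h2
  refine ⟨k, fun i j => e.symm (a i j), y, fun i => ?_, fun j => ?_⟩
  · rw [hy1 i]
    refine Finset.sum_congr rfl fun j _ => ?_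
    rw [he, RingEquiv.apply_symm_apply]
  · apply e.injective
    rw [map_sum, map_zero, ← hy2 j]
    refine Finset.sum_congr rfl fun i _ => ?_
    rw [map_mul, RingEquiv.apply_symm_apply]

variable {R : Type u} [CommRing R] [IsLocalRing R] (S : Type u) [CommRing S] [IsLocalRing S]
  [Algebra R S] [IsLocalHom (algebraMap R S)]

/-- A module over a henselization of `R` which is flat over `R` is flat over the henselization. -/
theorem flat_of_flat_base_of_isHenselization [Hensel.IsHenselization R S] (M : Type v)
    [AddCommGroup M] [Module R M] [Module S M] [IsScalarTower R S M] [Module.Flat R M] :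
    Module.Flat S M := by
  let e : Henselization R ≃ₐ[R] S := algEquiv (R := R) S
  letI : Module (Henselization R) M := Module.compHom M (e : Henselization R →+* S)
  have hsmul : ∀ (a : Henselization R) (m : M), a • m = e a • m := fun _ _ => rfl
  haveI : IsScalarTower R (Henselization R) M := by
    refine ⟨fun r a m => ?_⟩
    rw [hsmul, hsmul, map_smul, smul_assoc]
  haveI : Module.Flat (Henselization R) M := H.flat_of_flat_base M
  refine flat_of_ringEquiv e.symm.toRingEquiv M (fun s m => ?_)
  rw [hsmul]
  simp

/-- A module over a strict henselization of `R` which is flat over `R` is flat over the strict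
henselization. -/
theorem flat_of_flat_base_of_isStrictHenselization [Hensel.IsStrictHenselization R S] (M : Type v)
    [AddCommGroup M] [Module R M] [Module S M] [IsScalarTower R S M] [Module.Flat R M] :
    Module.Flat S M := by
  let e : StrictHenselization R ≃ₐ[R] S := algEquivStrict (R := R) S
  letI : Module (StrictHenselization R) M := Module.compHom M (e : StrictHenselization R →+* S)
  have hsmul : ∀ (a : StrictHenselization R) (m : M), a • m = e a • m := fun _ _ => rfl
  haveI : IsScalarTower R (StrictHenselization R) M := by
    refine ⟨fun r a m => ?_⟩
    rw [hsmul, hsmul, map_smul, smul_assoc]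
  haveI : Module.Flat (StrictHenselization R) M := H.flat_of_flat_base M
  refine flat_of_ringEquiv e.symm.toRingEquiv M (fun s m => ?_)
  rw [hsmul]
  simp

end Groth.Agent.H8.Hens
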