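import Mathlib
import Groth.Agent.Lib.Helper8.Hens.IndEtale
import Groth.Agent.Lib.Helper8.Hens.Henselization
import Groth.Agent.H4.WEt
import Groth.Agent.H4.IndEtElems

universe u
open IsLocalRing TensorProduct

namespace Groth.Agent.H8.Hens

section WEt

variable {R : Type u} [CommRing R] [IsLocalRing R]

/-- The henselization is weakly étale. -/
theorem weaklyEtale_of_isHenselization (S : Type u) [CommRing S] [IsLocalRing S] [Algebra R S]
    [IsLocalHom (algebraMap R S)] [Hensel.IsHenselization R S] : Algebra.WeaklyEtale R S := by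
  have h1 : Groth.Agent.H4.IndEtCrit.Crit R (Henselization R) := crit_H
  have h2 := Groth.Agent.H4.IndEtTrans.Crit.of_algEquiv h1 (algEquiv (R := R) S)
  exact Groth.Agent.H4.IndEtElems.weaklyEtale_of_isIndEtale R S
    (Groth.Agent.H4.IndEtCrit.isIndEtale_of_crit h2)

/-- Any `R`-algebra map from the henselization of `R` to a flat `R`-algebra is flat. -/
theorem ringHom_flat_of_isHenselization (S : Type u) [CommRing S] [IsLocalRing S] [Algebra R S]
    [IsLocalHom (algebraMap R S)] [Hensel.IsHenselization R S] (C : Type u) [CommRing C]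
    [Algebra R C] [Module.Flat R C] (ψ : S →+* C) (hψ : ψ.comp (algebraMap R S) = algebraMap R C) :
    ψ.Flat := by
  haveI := weaklyEtale_of_isHenselization (R := R) S
  letI : Algebra S C := ψ.toAlgebra
  haveI : IsScalarTower R S C := IsScalarTower.of_algebraMap_eq (fun r => by
    have := congrArg (fun w => w r) hψ
    exact this.symm)
  exact Groth.Agent.H4.WEt.main (A := R) (B := S) (N := C) (Algebra.WeaklyEtale.flat_lmul' R S)

end WEt

section MinPrimes

/-- Along a faithfully flat map, contraction maps minimal primes onto minimal primes. -/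
theorem minimalPrimes_comap_of_faithfullyFlat (S C : Type*) [CommRing S] [CommRing C] [Algebra S C]
    [Module.FaithfullyFlat S C] :
    Set.MapsTo (Ideal.comap (algebraMap S C)) (minimalPrimes C) (minimalPrimes S) ∧
      Set.SurjOn (Ideal.comap (algebraMap S C)) (minimalPrimes C) (minimalPrimes S) := by
  have key : ∀ Q ∈ minimalPrimes C, Q.comap (algebraMap S C) ∈ minimalPrimes S := by
    intro Q hQ
    haveI hQp : Q.IsPrime := hQ.1.1
    haveI : (Q.comap (algebraMap S C)).IsPrime := Ideal.comap_isPrime _ _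
    obtain ⟨q', hq', hle⟩ := Ideal.exists_minimalPrimes_le (I := (⊥ : Ideal S))
      (J := Q.comap (algebraMap S C)) bot_le
    haveI : q'.IsPrime := hq'.1.1
    haveI : Q.LiesOver (Q.comap (algebraMap S C)) := ⟨rfl⟩
    obtain ⟨Q', hQ'le, hQ'p, hQ'o⟩ := Ideal.exists_ideal_le_liesOver_of_le (p := q')
      (q := Q.comap (algebraMap S C)) Q hle
    have h1 : Q ≤ Q' := hQ.2 ⟨hQ'p, bot_le⟩ hQ'le
    have h2 : Q' = Q := le_antisymm hQ'le h1
    have h3 : q' = Q.comap (algebraMap S C) := by
      rw [hQ'o.over, h2]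
    rw [← h3]
    exact hq'
  refine ⟨key, ?_⟩
  intro q hq
  haveI : q.IsPrime := hq.1.1
  obtain ⟨Q, hQp, hQo⟩ := Ideal.exists_isPrime_liesOver_of_faithfullyFlat (B := C) q
  obtain ⟨Q', hQ', hle⟩ := Ideal.exists_minimalPrimes_le (I := (⊥ : Ideal C)) (J := Q) bot_le
  refine ⟨Q', hQ', ?_⟩
  have h1 := key Q' hQ'
  have h2 : Q'.comap (algebraMap S C) ≤ q := by
    rw [hQo.over]
    exact Ideal.comap_mono hle
  exact le_antisymm h2 (hq.2 ⟨h1.1.1, bot_le⟩ h2)

end MinPrimes

end Groth.Agent.H8.Hens
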