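import Mathlib
import Groth.Agent.Lib.Helper8.Hens.Strict
import Groth.Agent.Lib.Helper1.FlatDim

/-!
# Krull dimension of henselizations (helper8)
-/

universe u
open IsLocalRing

namespace Groth.Agent.H8.Hens

namespace H

variable {R K : Type u} [CommRing R] [IsLocalRing R] [Field K] [Algebra R K]

omit [IsLocalRing R] in
/-- The fibres of `Spec (H R K) → Spec R` have no strict inclusions. -/
theorem eq_of_le_of_comap_eq {P Q : Ideal (H R K)} [P.IsPrime] [Q.IsPrime] (hle : P ≤ Q)
    (h : P.comap (algebraMap R (H R K)) = Q.comap (algebraMap R (H R K))) : P = Q := by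
  refine le_antisymm hle fun x hx => ?_
  obtain ⟨i, x', rfl⟩ := exists_of x
  have h1 : P.comap (of i) ≤ Q.comap (of i) := Ideal.comap_mono hle
  have h2 : (P.comap (of i)).under R = (Q.comap (of i)).under R := by
    have : ∀ I : Ideal (H R K), (I.comap (of i)).under R = I.comap (algebraMap R (H R K)) := by
      intro I
      ext r
      simp only [Ideal.under, Ideal.mem_comap]
      rw [← ofₐ_apply, AlgHom.commutes]
    rw [this, this, h]
  have := Algebra.QuasiFinite.eq_of_le_of_under_eq (R := R) _ _ h1 h2
  have hx' : x' ∈ Q.comap (of i) := hx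
  rw [← this] at hx'
  exact hx'

omit [IsLocalRing R] in
theorem ringKrullDim_le : ringKrullDim (H R K) ≤ ringKrullDim R := by
  refine Order.krullDim_le_of_strictMono (PrimeSpectrum.comap (algebraMap R (H R K))) ?_
  intro P Q hPQ
  refine lt_of_le_of_ne ?_ ?_
  · exact Ideal.comap_mono hPQ.le
  · intro h
    have h' : P.asIdeal.comap (algebraMap R (H R K)) = Q.asIdeal.comap (algebraMap R (H R K)) :=
      congrArg PrimeSpectrum.asIdeal h
    have := eq_of_le_of_comap_eq hPQ.le h'
    exact hPQ.ne (PrimeSpectrum.ext this)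

theorem ringKrullDim_eq [IsLocalHom (algebraMap R K)] : ringKrullDim (H R K) = ringKrullDim R :=
  le_antisymm ringKrullDim_le
    (Groth.Agent.H1.FlatDim.ringKrullDim_le_of_flat_isLocalHom R (H R K))

end H

variable {R : Type u} [CommRing R] [IsLocalRing R] (S : Type u) [CommRing S] [IsLocalRing S]
  [Algebra R S] [IsLocalHom (algebraMap R S)]

theorem ringKrullDim_eq_of_isHenselization [Hensel.IsHenselization R S] :
    ringKrullDim S = ringKrullDim R := by
  rw [← ringKrullDim_eq_of_ringEquiv (algEquiv (R := R) S).toRingEquiv]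
  exact H.ringKrullDim_eq

theorem ringKrullDim_eq_of_isStrictHenselization [Hensel.IsStrictHenselization R S] :
    ringKrullDim S = ringKrullDim R := by
  rw [← ringKrullDim_eq_of_ringEquiv (algEquivStrict (R := R) S).toRingEquiv]
  exact H.ringKrullDim_eq

end Groth.Agent.H8.Hens
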