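import Mathlib
import Groth.Agent.Lib.Helper8.Hens.Dim
import Groth.Agent.Lib.Helper8.Hens.Noeth

universe u
open IsLocalRing

namespace Groth.Agent.H8.Hens

/-- Simultaneous annihilation in a flat module. -/
theorem exists_sum_smul_of_forall_smul_eq_zero {R : Type*} [CommRing R] {M : Type*} [AddCommGroup M]
    [Module R M] [Module.Flat R M] : ∀ (n : ℕ) (a : Fin n → R) (s : M), (∀ i, a i • s = 0) →
    ∃ (k : ℕ) (d : Fin k → R) (z : Fin k → M), s = ∑ l, d l • z l ∧ ∀ i l, a i * d l = 0 := by
  intro n
  induction n with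
  | zero =>
    intro a s _
    exact ⟨1, fun _ => 1, fun _ => s, by simp, fun i => i.elim0⟩
  | succ n ih =>
    intro a s hs
    obtain ⟨k, d, z, hsz, hd⟩ := ih (fun i => a i.castSucc) s (fun i => hs _)
    have hrel : ∑ l, (a (Fin.last n) * d l) • z l = 0 := by
      have := hs (Fin.last n)
      rw [hsz, Finset.smul_sum] at this
      rw [← this]
      refine Finset.sum_congr rfl fun l _ => ?_
      rw [mul_smul]
    obtain ⟨k', c, w, hw1, hw2⟩ := Module.Flat.isTrivialRelation_of_sum_smul_eq_zero hrel
    refine ⟨k', fun m => ∑ l, d l * c l m, w, ?_, ?_⟩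
    · rw [hsz]
      have : ∀ l, d l • z l = ∑ m, (d l * c l m) • w m := by
        intro l
        rw [hw1 l, Finset.smul_sum]
        refine Finset.sum_congr rfl fun m _ => ?_
        rw [mul_smul]
      simp_rw [this]
      rw [Finset.sum_comm]
      refine Finset.sum_congr rfl fun m _ => ?_
      rw [Finset.sum_smul]
    · intro i m
      refine Fin.lastCases ?_ (fun i => ?_) i
      · rw [Finset.mul_sum, ← hw2 m]
        refine Finset.sum_congr rfl fun l _ => ?_
        rw [mul_assoc]
      · rw [Finset.mul_sum]
        refine Finset.sum_eq_zero fun l _ => ?_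
        rw [← mul_assoc, hd i l, zero_mul]

/-- Associated primes of a flat module over a Noetherian ring are associated primes of the
ring. -/
theorem mem_associatedPrimes_self_of_flat {R : Type*} [CommRing R] [IsNoetherianRing R]
    {M : Type*} [AddCommGroup M] [Module R M] [Module.Flat R M] {p : Ideal R}
    (hp : p ∈ associatedPrimes R M) : p ∈ associatedPrimes R R := by
  obtain ⟨hprime, s, hs⟩ := isAssociatedPrime_iff.mp hp
  obtain ⟨n, a, ha⟩ := Submodule.fg_iff_exists_fin_generating_family.mp (IsNoetherian.noetherian p)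
  have hmem : ∀ r, r ∈ p ↔ r • s = 0 := by
    intro r
    rw [hs, Submodule.mem_colon_singleton, Submodule.mem_bot]
  have has : ∀ i, a i • s = 0 := fun i => (hmem _).mp (by rw [← ha]; exact Submodule.subset_span ⟨i, rfl⟩)
  obtain ⟨k, d, z, hsz, hd⟩ := exists_sum_smul_of_forall_smul_eq_zero n a s has
  -- each `d l` is annihilated by `p`
  have hpd : ∀ l, ∀ r ∈ p, r * d l = 0 := by
    intro l r hr
    rw [← ha] at hr
    refine Submodule.span_induction ?_ ?_ ?_ ?_ hr
    · rintro _ ⟨i, rfl⟩; exact hd i l
    · simp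
    · intro x y _ _ hx hy; rw [add_mul, hx, hy, add_zero]
    · intro c x _ hx; rw [smul_eq_mul, mul_assoc, hx, mul_zero]
  -- some `d l` has annihilator exactly `p`
  by_contra hcon
  have hex : ∀ l, ∃ t, t ∉ p ∧ t * d l = 0 := by
    intro l
    by_contra hl
    push Not at hl
    apply hcon
    refine isAssociatedPrime_iff.mpr ⟨hprime, d l, ?_⟩
    ext r
    rw [Submodule.mem_colon_singleton, Submodule.mem_bot, smul_eq_mul]
    exact ⟨fun hr => hpd l r hr, fun hr => by_contra fun h => hl r h hr⟩
  choose t ht1 ht2 using hex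
  have hprod : (∏ l, t l) ∉ p := by
    intro h
    obtain ⟨l, -, hl⟩ := (hprime.prod_mem_iff).mp h
    exact ht1 l hl
  apply hprod
  rw [hmem, hsz, Finset.smul_sum]
  refine Finset.sum_eq_zero fun l _ => ?_
  rw [← mul_smul]
  have : (∏ l, t l) * d l = 0 := by
    rw [← Finset.prod_erase_mul _ _ (Finset.mem_univ l), mul_assoc, ht2 l, mul_zero]
  rw [this, zero_smul]


/-- The prime fibres of `Spec S → Spec R` have no strict inclusions. -/
def FibresDiscrete (R S : Type*) [CommRing R] [CommRing S] [Algebra R S] : Prop :=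
  ∀ (P Q : Ideal S) [P.IsPrime] [Q.IsPrime], P ≤ Q →
    P.comap (algebraMap R S) = Q.comap (algebraMap R S) → P = Q

theorem FibresDiscrete.of_algEquiv {R S S' : Type*} [CommRing R] [CommRing S] [CommRing S']
    [Algebra R S] [Algebra R S'] (e : S ≃ₐ[R] S') (h : FibresDiscrete R S) :
    FibresDiscrete R S' := by
  intro P Q _ _ hPQ hcomap
  have hc : ∀ I : Ideal S', (I.comap (e : S →+* S')).comap (algebraMap R S) =
      I.comap (algebraMap R S') := by
    intro I
    rw [Ideal.comap_comap]
    congr 1
    ext r
    simp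
  have := h (P.comap (e : S →+* S')) (Q.comap (e : S →+* S')) (Ideal.comap_mono hPQ)
    (by rw [hc, hc, hcomap])
  have hinj : Function.Injective (Ideal.comap (e : S →+* S')) :=
    Ideal.comap_injective_of_surjective _ e.surjective
  exact hinj this

theorem H.fibresDiscrete {R K : Type u} [CommRing R] [Field K] [Algebra R K] :
    FibresDiscrete R (H R K) := fun _ _ _ _ h1 h2 => H.eq_of_le_of_comap_eq h1 h2

theorem fibresDiscrete_of_isHenselization {R : Type u} [CommRing R] [IsLocalRing R] (S : Type u)
    [CommRing S] [IsLocalRing S] [Algebra R S] [IsLocalHom (algebraMap R S)]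
    [Hensel.IsHenselization R S] : FibresDiscrete R S :=
  H.fibresDiscrete.of_algEquiv (algEquiv (R := R) S)

theorem fibresDiscrete_of_isStrictHenselization {R : Type u} [CommRing R] [IsLocalRing R]
    (S : Type u) [CommRing S] [IsLocalRing S] [Algebra R S] [IsLocalHom (algebraMap R S)]
    [Hensel.IsStrictHenselization R S] : FibresDiscrete R S :=
  H.fibresDiscrete.of_algEquiv (algEquivStrict (R := R) S)

section

variable {R S : Type*} [CommRing R] [CommRing S] [Algebra R S]

/-- For a flat algebra with discrete fibres, the minimal primes over `pS` are exactly the primes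
lying over `p`. -/
theorem FibresDiscrete.mem_minimalPrimes_map_iff [Module.Flat R S] (hfd : FibresDiscrete R S)
    (p : Ideal R) [p.IsPrime] (P : Ideal S) :
    P ∈ (p.map (algebraMap R S)).minimalPrimes ↔
      P.IsPrime ∧ P.comap (algebraMap R S) = p := by
  constructor
  · rintro ⟨⟨hP, hle⟩, hmin⟩
    refine ⟨hP, ?_⟩
    have hp : p ≤ P.comap (algebraMap R S) := Ideal.map_le_iff_le_comap.mp hle
    haveI : P.LiesOver (P.comap (algebraMap R S)) := ⟨rfl⟩
    obtain ⟨P', hP'le, hP', hlo⟩ :=
      Ideal.exists_ideal_le_liesOver_of_le (p := p) (q := P.comap (algebraMap R S)) P hp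
    have h1 : p.map (algebraMap R S) ≤ P' := by
      rw [Ideal.map_le_iff_le_comap, ← Ideal.under_def, ← hlo.over]
    have h2 : P ≤ P' := hmin ⟨hP', h1⟩ hP'le
    have h3 : P = P' := le_antisymm h2 hP'le
    rw [h3, ← Ideal.under_def, ← hlo.over]
  · rintro ⟨hP, hcomap⟩
    refine ⟨⟨hP, by rw [Ideal.map_le_iff_le_comap, hcomap]⟩, ?_⟩
    rintro Q ⟨hQ, hQle⟩ hQP
    have h1 : Q.comap (algebraMap R S) = P.comap (algebraMap R S) := by
      apply le_antisymm (Ideal.comap_mono hQP)
      rw [hcomap]
      exact Ideal.map_le_iff_le_comap.mp hQle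
    exact (hfd Q P hQP h1).ge

/-- Associated primes for a flat extension of Noetherian rings with discrete fibres. -/
theorem FibresDiscrete.mem_associatedPrimes_iff [IsNoetherianRing R] [IsNoetherianRing S]
    [Module.Flat R S] (hfd : FibresDiscrete R S) (P : Ideal S) [hP : P.IsPrime] :
    P ∈ associatedPrimes S S ↔ P.comap (algebraMap R S) ∈ associatedPrimes R R := by
  constructor
  · intro h
    obtain ⟨-, s, hs⟩ := isAssociatedPrime_iff.mp h
    apply mem_associatedPrimes_self_of_flat (M := S)
    refine isAssociatedPrime_iff.mpr ⟨inferInstance, s, ?_⟩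
    ext r
    rw [Ideal.mem_comap, hs, Submodule.mem_colon_singleton, Submodule.mem_colon_singleton,
      algebraMap_smul, Submodule.mem_bot, Submodule.mem_bot]
  · intro h
    obtain ⟨hp, r, hr⟩ := isAssociatedPrime_iff.mp h
    set p := P.comap (algebraMap R S) with hpdef
    have hmem : ∀ x : R, x ∈ p ↔ x * r = 0 := by
      intro x
      rw [hr, Submodule.mem_colon_singleton, Submodule.mem_bot, smul_eq_mul]
    -- `P` is associated to `S / pS`
    have h1 : P ∈ associatedPrimes S (S ⧸ p.map (algebraMap R S)) := by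
      apply Module.associatedPrimes.minimalPrimes_annihilator_subset_associatedPrimes
      rw [Ideal.annihilator_quotient]
      exact (hfd.mem_minimalPrimes_map_iff p P).mpr ⟨hP, rfl⟩
    -- multiplication by `r` embeds `S / pS` into `S`
    let μ : S →ₗ[S] S := LinearMap.mulLeft S (algebraMap R S r)
    have hker : p.map (algebraMap R S) ≤ LinearMap.ker μ := by
      rw [Ideal.map_le_iff_le_comap]
      intro x hx
      rw [Ideal.mem_comap]
      show μ (algebraMap R S x) = 0
      rw [LinearMap.mulLeft_apply, ← map_mul, mul_comm, (hmem x).mp hx, map_zero]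
    let g : (S ⧸ p.map (algebraMap R S)) →ₗ[S] S := Submodule.liftQ _ μ hker
    have hg : Function.Injective g := by
      rw [← LinearMap.ker_eq_bot, Submodule.ker_liftQ_eq_bot']
      apply le_antisymm hker
      intro s hs
      have hs' : r • s = 0 := by
        have : μ s = 0 := hs
        rw [LinearMap.mulLeft_apply] at this
        rw [Algebra.smul_def, this]
      obtain ⟨k, d, z, hsz, hd⟩ := exists_sum_smul_of_forall_smul_eq_zero (M := S) 1
        (fun _ => r) s (fun _ => hs')
      rw [hsz]
      refine Ideal.sum_mem _ fun l _ => ?_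
      rw [Algebra.smul_def]
      refine Ideal.mul_mem_right _ _ (Ideal.mem_map_of_mem _ ?_)
      rw [hmem, mul_comm]
      exact hd 0 l
    exact associatedPrimes.subset_of_injective hg h1

end

end Groth.Agent.H8.Hens
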