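import Mathlib
import Groth.Agent.Lib.Helper8.Hens.Normal
import Groth.Agent.Lib.Helper8.Hens.Noeth
import Groth.Agent.Lib.Helper8.Hens.Dim

universe u
open IsLocalRing

namespace Groth.Agent.H8.Hens

/-- A local ring is a DVR iff it is a Noetherian normal domain of dimension one. -/
theorem exists_isDiscreteValuationRing_iff (A : Type*) [CommRing A] [IsLocalRing A] :
    (∃ _ : IsDomain A, IsDiscreteValuationRing A) ↔
      (IsNoetherianRing A ∧ (IsDomain A ∧ IsIntegrallyClosed A) ∧ ringKrullDim A = 1) := by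
  constructor
  · rintro ⟨h1, h2⟩
    exact ⟨inferInstance, ⟨h1, inferInstance⟩, IsDiscreteValuationRing.ringKrullDim_eq_one A⟩
  · rintro ⟨h1, ⟨h2, h3⟩, h4⟩
    refine ⟨h2, ?_⟩
    have hnf : ¬ IsField A := fun h => by
      rw [ringKrullDim_eq_zero_of_isField h] at h4
      exact zero_ne_one h4
    have hdim : Ring.KrullDimLE 1 A := Ring.krullDimLE_iff.mpr h4.le
    have hm : maximalIdeal A ≠ ⊥ := isField_iff_maximalIdeal_eq.not.mp hnf
    have h5 : IsIntegrallyClosed A ∧ ∃! P : Ideal A, P ≠ ⊥ ∧ P.IsPrime := by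
      refine ⟨h3, maximalIdeal A, ⟨hm, inferInstance⟩, ?_⟩
      rintro P ⟨hP0, hP⟩
      have : P.IsMaximal := Ring.krullDimLE_one_iff_of_noZeroDivisors.mp hdim P hP0 hP
      exact IsLocalRing.eq_maximalIdeal this
    exact ((IsDiscreteValuationRing.TFAE A hnf).out 0 3).mpr h5

variable {R : Type u} [CommRing R] [IsLocalRing R] (S : Type u) [CommRing S] [IsLocalRing S]
  [Algebra R S] [IsLocalHom (algebraMap R S)]

theorem dvr_iff_of_isHenselization [Hensel.IsHenselization R S] :
    (∃ _ : IsDomain R, IsDiscreteValuationRing R) ↔ (∃ _ : IsDomain S, IsDiscreteValuationRing S) := by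
  rw [exists_isDiscreteValuationRing_iff, exists_isDiscreteValuationRing_iff,
    isNoetherianRing_iff_of_isHenselization S, normal_iff_of_isHenselization S,
    ringKrullDim_eq_of_isHenselization (R := R) S]

theorem dvr_iff_of_isStrictHenselization [Hensel.IsStrictHenselization R S] :
    (∃ _ : IsDomain R, IsDiscreteValuationRing R) ↔ (∃ _ : IsDomain S, IsDiscreteValuationRing S) := by
  rw [exists_isDiscreteValuationRing_iff, exists_isDiscreteValuationRing_iff,
    isNoetherianRing_iff_of_isStrictHenselization S, normal_iff_of_isStrictHenselization S,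
    ringKrullDim_eq_of_isStrictHenselization (R := R) S]

end Groth.Agent.H8.Hens
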