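import Mathlib
import Groth.Agent.Lib.Helper8.Hens.CompFlat
import Groth.Agent.Lib.Helper8.Hens.Strict

universe u
open CategoryTheory CategoryTheory.Limits AlgebraicGeometry Opposite IsLocalRing TensorProduct

namespace Groth.Agent.H8.Hens

section Ring

variable {R : Type u} [CommRing R] [IsLocalRing R]

/-- The strict henselization is weakly étale. -/
theorem weaklyEtale_of_isStrictHenselization (S : Type u) [CommRing S] [IsLocalRing S] [Algebra R S]
    [IsLocalHom (algebraMap R S)] [Hensel.IsStrictHenselization R S] :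
    Algebra.WeaklyEtale R S := by
  have h1 : Groth.Agent.H4.IndEtCrit.Crit R (StrictHenselization R) := crit_H
  have h2 := Groth.Agent.H4.IndEtTrans.Crit.of_algEquiv h1 (algEquivStrict (R := R) S)
  exact Groth.Agent.H4.IndEtElems.weaklyEtale_of_isIndEtale R S
    (Groth.Agent.H4.IndEtCrit.isIndEtale_of_crit h2)

end Ring

section Scheme

/-- `Spec` of a weakly étale algebra map is a weakly étale morphism. -/
theorem weaklyEtale_SpecMap (A B : Type u) [CommRing A] [CommRing B] [Algebra A B]
    [Algebra.WeaklyEtale A B] :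
    WeaklyEtale (Spec.map (CommRingCat.ofHom (algebraMap A B))) := by
  refine ⟨?_, ?_⟩
  · rw [Flat.SpecMap_iff]
    show (algebraMap A B).Flat
    rw [RingHom.flat_algebraMap_iff]
    infer_instance
  · rw [diagonal_SpecMap A B]
    have : Flat (Spec.map (CommRingCat.ofHom
        (Algebra.TensorProduct.lmul' A : B ⊗[A] B →ₐ[A] B).toRingHom)) := by
      rw [Flat.SpecMap_iff]
      exact Algebra.WeaklyEtale.flat_lmul' A B
    infer_instance

theorem flat_isAffineOpen_fromSpecStalk {X : Scheme.{u}} {U : X.Opens} (hU : IsAffineOpen U)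
    {x : X} (hxU : x ∈ U) : Flat (hU.fromSpecStalk hxU) := by
  dsimp [IsAffineOpen.fromSpecStalk]
  have : Flat (Spec.map (X.presheaf.germ U x hxU)) := by
    rw [Flat.SpecMap_iff]
    letI : Algebra Γ(X, U) (X.presheaf.stalk x) := (X.presheaf.germ U x hxU).hom.toAlgebra
    haveI := hU.isLocalization_stalk ⟨x, hxU⟩
    show (algebraMap Γ(X, U) (X.presheaf.stalk x)).Flat
    rw [RingHom.flat_algebraMap_iff]
    exact IsLocalization.flat _ (hU.primeIdealOf ⟨x, hxU⟩).asIdeal.primeCompl
  infer_instance

/-- The canonical morphism `Spec O_{X,x} ⟶ X` is flat. -/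
instance flat_fromSpecStalk (X : Scheme.{u}) (x : X) : Flat (X.fromSpecStalk x) :=
  flat_isAffineOpen_fromSpecStalk _ _

instance weaklyEtale_fromSpecStalk (X : Scheme.{u}) (x : X) : WeaklyEtale (X.fromSpecStalk x) where

end Scheme

end Groth.Agent.H8.Hens
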