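import Mathlib
import Groth.Agent.Lib.Helper8.Hens.Reduced
import Groth.Agent.Lib.Helper8.Hens.Fibre
import Groth.Agent.Lib.Helper8.Hens.Noeth
import Groth.Agent.Lib.Helper8.Hens.IndEtale

universe u
open IsLocalRing TensorProduct

namespace Groth.Agent.H8.Hens

section Radical

/-- Extension of a radical ideal along a smooth map is radical. -/
theorem isRadical_map_of_smooth (A B : Type*) [CommRing A] [CommRing B] [Algebra A B]
    [Algebra.Smooth A B] (I : Ideal A) (hI : I.IsRadical) :
    (I.map (algebraMap A B)).IsRadical := by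
  rw [Ideal.isRadical_iff_quotient_reduced] at hI ⊢
  haveI := hI
  haveI : IsReduced ((A ⧸ I) ⊗[A] B) := isReduced_of_smooth (A ⧸ I) _
  exact isReduced_of_injective
    (Algebra.TensorProduct.quotIdealMapEquivQuotTensor B I).toRingEquiv
    (Algebra.TensorProduct.quotIdealMapEquivQuotTensor B I).injective

variable {R : Type u} {K : Type u} [CommRing R] [Field K] [Algebra R K]

theorem EtPt.isRadical_map (i : EtPt R K) (I : Ideal R) (hI : I.IsRadical) :
    (I.map (algebraMap R i.Loc)).IsRadical := by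
  have h1 := isRadical_map_of_smooth R i.Ring I hI
  have h2 : I.map (algebraMap R i.Loc) =
      (I.map (algebraMap R i.Ring)).map (algebraMap i.Ring i.Loc) := by
    rw [Ideal.map_map, ← IsScalarTower.algebraMap_eq]
  rw [h2]
  have h3 := IsLocalization.map_radical (ptIdeal i.pt).primeCompl i.Loc
    (I.map (algebraMap R i.Ring))
  rw [h1.radical] at h3
  exact (Ideal.radical_eq_iff.mp h3.symm)

/-- Membership in `I · H` is detected at a finite stage. -/
theorem H.mem_map_iff (I : Ideal R) (z : H R K) :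
    z ∈ I.map (algebraMap R (H R K)) ↔
      ∃ (i : EtPt R K) (y : i.Loc), y ∈ I.map (algebraMap R i.Loc) ∧ H.of i y = z := by
  constructor
  · intro hz
    refine Submodule.span_induction (p := fun z _ => ∃ (i : EtPt R K) (y : i.Loc),
      y ∈ I.map (algebraMap R i.Loc) ∧ H.of i y = z) ?_ ?_ ?_ ?_ hz
    · rintro _ ⟨a, ha, rfl⟩
      obtain ⟨i⟩ := (inferInstance : Nonempty (EtPt R K))
      exact ⟨i, algebraMap R i.Loc a, Ideal.mem_map_of_mem _ ha, (H.algebraMap_eq i a).symm⟩
    · obtain ⟨i⟩ := (inferInstance : Nonempty (EtPt R K))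
      exact ⟨i, 0, Ideal.zero_mem _, map_zero _⟩
    · rintro x y _ _ ⟨i, a, ha, rfl⟩ ⟨j, b, hb, rfl⟩
      obtain ⟨k, hik, hjk⟩ := exists_ge_ge i j
      refine ⟨k, EtPt.trans hik a + EtPt.trans hjk b, ?_, ?_⟩
      · refine Ideal.add_mem _ ?_ ?_
        · have := Ideal.mem_map_of_mem (EtPt.trans hik : i.Loc →+* k.Loc) ha
          rwa [Ideal.map_map, (EtPt.trans hik).comp_algebraMap] at this
        · have := Ideal.mem_map_of_mem (EtPt.trans hjk : j.Loc →+* k.Loc) hb
          rwa [Ideal.map_map, (EtPt.trans hjk).comp_algebraMap] at this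
      · rw [map_add, H.of_trans, H.of_trans]
    · rintro c x _ ⟨i, a, ha, rfl⟩
      obtain ⟨j, b, rfl⟩ := H.exists_of c
      obtain ⟨k, hik, hjk⟩ := exists_ge_ge i j
      refine ⟨k, EtPt.trans hjk b * EtPt.trans hik a, ?_, ?_⟩
      · refine Ideal.mul_mem_left _ _ ?_
        have := Ideal.mem_map_of_mem (EtPt.trans hik : i.Loc →+* k.Loc) ha
        rwa [Ideal.map_map, (EtPt.trans hik).comp_algebraMap] at this
      · rw [map_mul, H.of_trans, H.of_trans]
        rfl
  · rintro ⟨i, y, hy, rfl⟩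
    have := Ideal.mem_map_of_mem (H.of i) hy
    rw [Ideal.map_map] at this
    have h2 : (H.of i).comp (algebraMap R i.Loc) = algebraMap R (H R K) := by
      ext r; exact (H.algebraMap_eq i r).symm
    rwa [h2] at this

/-- Extension of a radical ideal to `H R K` is radical. -/
theorem H.isRadical_map (I : Ideal R) (hI : I.IsRadical) :
    (I.map (algebraMap R (H R K))).IsRadical := by
  intro z hz
  obtain ⟨n, hn⟩ := hz
  obtain ⟨i, x, rfl⟩ := H.exists_of z
  rw [← map_pow, H.mem_map_iff] at hn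
  obtain ⟨j, w, hw, hjw⟩ := hn
  obtain ⟨k, hik, hjk⟩ := exists_ge_ge i j
  have h1 : H.of k (EtPt.trans hjk w) = H.of k (EtPt.trans hik (x ^ n)) := by
    rw [H.of_trans, H.of_trans, hjw]
  obtain ⟨l, hkl, hl⟩ := H.of_eq_of h1
  have hil : i ≤ l := le_trans hik hkl
  have h2 : EtPt.trans hil x ^ n ∈ I.map (algebraMap R l.Loc) := by
    have e1 : EtPt.trans hil x ^ n = EtPt.trans hkl (EtPt.trans hik (x ^ n)) := by
      rw [← map_pow]
      have := EtPt.trans_comp hik hkl
      exact (AlgHom.congr_fun this (x ^ n)).symm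
    rw [e1, ← hl]
    have := Ideal.mem_map_of_mem ((EtPt.trans hkl).comp (EtPt.trans hjk) : j.Loc →+* l.Loc) hw
    rwa [Ideal.map_map, ((EtPt.trans hkl).comp (EtPt.trans hjk)).comp_algebraMap] at this
  have h3 := l.isRadical_map I hI ⟨n, h2⟩
  rw [H.mem_map_iff]
  exact ⟨l, EtPt.trans hil x, h3, H.of_trans hil x⟩

end Radical

end Groth.Agent.H8.Hens
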