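import Mathlib
import Groth.Agent.Lib.Helper8.Hens.FibreRadical

universe u
open IsLocalRing TensorProduct

namespace Groth.Agent.H8.Hens

section LemmaX

/-- The image of an element of an étale algebra over a field in a field extension is separable. -/
theorem isSeparable_of_etale_algHom {κ A L : Type*} [Field κ] [CommRing A] [Algebra κ A]
    [Algebra.Etale κ A] [Field L] [Algebra κ L] (ψ : A →ₐ[κ] L) (a : A) :
    IsSeparable κ (ψ a) := by
  haveI : (RingHom.ker ψ).IsPrime := RingHom.ker_isPrime ψ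
  have h1 : IsSeparable κ (Ideal.Quotient.mk (RingHom.ker ψ) a) :=
    Algebra.IsSeparable.isSeparable κ _
  have h2 := h1.map (Ideal.kerLiftAlg ψ) (Ideal.kerLiftAlg_injective ψ)
  exact h2

end LemmaX

section Generic

variable {R : Type u} [CommRing R] {S : Type u} [CommRing S] [Algebra R S]

attribute [local instance] Algebra.TensorProduct.rightAlgebra in
theorem isNoetherianRing_fiber [IsNoetherianRing S] (p : Ideal R) [p.IsPrime] :
    IsNoetherianRing (p.Fiber S) :=
  isNoetherianRing_of_ringEquiv _ (Ideal.Fiber.algEquivQuotient (S := S) p).symm.toRingEquiv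

attribute [local instance] Algebra.TensorProduct.rightAlgebra in
theorem isReduced_fiber (p : Ideal R) [p.IsPrime]
    (hp : (p.map (algebraMap R S)).IsRadical) : IsReduced (p.Fiber S) := by
  have h3 := IsLocalization.map_radical (Algebra.algebraMapSubmonoid S p.primeCompl)
    (Localization (Algebra.algebraMapSubmonoid S p.primeCompl)) (p.map (algebraMap R S))
  rw [hp.radical] at h3
  have h4 : ((p.map (algebraMap R S)).map (algebraMap S
      (Localization (Algebra.algebraMapSubmonoid S p.primeCompl)))).IsRadical :=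
    Ideal.radical_eq_iff.mp h3.symm
  rw [Ideal.isRadical_iff_quotient_reduced] at h4
  haveI := h4
  exact isReduced_of_injective (Ideal.Fiber.algEquivAux₁ (S := S) p).toRingEquiv
    (Ideal.Fiber.algEquivAux₁ (S := S) p).injective

theorem krullDimLE_zero_fiber (hfd : FibresDiscrete R S) (p : Ideal R) [p.IsPrime] :
    Ring.KrullDimLE 0 (p.Fiber S) := by
  rw [Ring.krullDimLE_zero_iff]
  intro P hP
  obtain ⟨M, hM, hPM⟩ := Ideal.exists_le_maximal P hP.ne_top
  haveI := hM.isPrime
  let α := PrimeSpectrum.primesOverOrderIsoFiber R S p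
  have hle : (⟨P, hP⟩ : PrimeSpectrum (p.Fiber S)) ≤ ⟨M, hM.isPrime⟩ := hPM
  have h1 : α.symm ⟨P, hP⟩ ≤ α.symm ⟨M, hM.isPrime⟩ := α.symm.monotone hle
  haveI : (α.symm ⟨P, hP⟩).1.IsPrime := (α.symm ⟨P, hP⟩).2.1
  haveI : (α.symm ⟨M, hM.isPrime⟩).1.IsPrime := (α.symm ⟨M, hM.isPrime⟩).2.1
  have h2 : (α.symm ⟨P, hP⟩).1 = (α.symm ⟨M, hM.isPrime⟩).1 := by
    apply hfd _ _ h1
    rw [← Ideal.under, ← Ideal.under, ← (α.symm ⟨P, hP⟩).2.2.over,
      ← (α.symm ⟨M, hM.isPrime⟩).2.2.over]
  have h3 : α.symm ⟨P, hP⟩ = α.symm ⟨M, hM.isPrime⟩ := Subtype.ext h2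
  have h4 := α.symm.injective h3
  have h5 : P = M := congrArg PrimeSpectrum.asIdeal h4
  rw [h5]
  exact hM

end Generic

end Groth.Agent.H8.Hens
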