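import Mathlib
import Groth.Agent.Lib.Helper8.Hens.EtaleGU

universe u
open IsLocalRing TensorProduct CategoryTheory AlgebraicGeometry

namespace Groth.Agent.H8.Hens

theorem isPrime_nilradical_of_isGeomUnibranch {A : Type u} [CommRing A] [IsLocalRing A]
    (h : CAlg2.IsGeomUnibranch A) : (nilradical A).IsPrime :=
  (Ideal.Quotient.isDomain_iff_prime _).mp h.1.1

section

variable (R : Type u) [CommRing R] (S : Type u) [CommRing S] [Algebra R S]
  (p : Ideal R) [p.IsPrime] (q : Ideal S) [q.IsPrime] [q.LiesOver p]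

/-- Version of `isGeomUnibranch_iff_of_etale` for arbitrary localizations. -/
theorem isGeomUnibranch_iff_of_etale' [Algebra.Etale R S]
    (Rp Sq : Type u) [CommRing Rp] [Algebra R Rp] [IsLocalization.AtPrime Rp p] [CommRing Sq]
    [Algebra S Sq] [IsLocalization.AtPrime Sq q] [IsLocalRing Rp] [IsLocalRing Sq] :
    CAlg2.IsGeomUnibranch Sq ↔ CAlg2.IsGeomUnibranch Rp := by
  let eR : Rp ≃ₐ[R] Localization.AtPrime p := IsLocalization.algEquiv p.primeCompl _ _
  let eS : Sq ≃ₐ[S] Localization.AtPrime q := IsLocalization.algEquiv q.primeCompl _ _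
  constructor
  · intro h
    have h1 := isGeomUnibranch_of_ringEquiv eS.toRingEquiv h
    have h2 := (isGeomUnibranch_iff_of_etale R S p q).mp h1
    exact isGeomUnibranch_of_ringEquiv eR.symm.toRingEquiv h2
  · intro h
    have h1 := isGeomUnibranch_of_ringEquiv eR.toRingEquiv h
    have h2 := (isGeomUnibranch_iff_of_etale R S p q).mpr h1
    exact isGeomUnibranch_of_ringEquiv eS.symm.toRingEquiv h2

end

/-- Geometric unibranchness of stalks is invariant under étale morphisms. -/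
theorem isGeomUnibranch_stalk_iff_of_etale {X Y : Scheme.{u}} (f : X ⟶ Y) (x : X)
    (U : X.Opens) (hxU : x ∈ U) [hE : Etale (U.ι ≫ f)] :
    CAlg2.IsGeomUnibranch (X.presheaf.stalk x) ↔ CAlg2.IsGeomUnibranch (Y.presheaf.stalk (f x)) := by
  obtain ⟨_, ⟨V, hV : IsAffineOpen V, rfl⟩, hxV, -⟩ :=
    Y.isBasis_affineOpens.exists_subset_of_mem_open (Set.mem_univ (f x)) isOpen_univ
  let x' : U.toScheme := ⟨x, hxU⟩
  have hx' : U.ι x' = x := rfl
  obtain ⟨_, ⟨W', hW' : IsAffineOpen W', rfl⟩, hxW', hW'V⟩ :=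
    U.toScheme.isBasis_affineOpens.exists_subset_of_mem_open
      (show x' ∈ ((U.ι ≫ f) ⁻¹ᵁ V : Set U.toScheme) from hxV) ((U.ι ≫ f) ⁻¹ᵁ V).isOpen
  have e' : W' ≤ (U.ι ≫ f) ⁻¹ᵁ V := hW'V
  have hW : IsAffineOpen (U.ι ''ᵁ W') := hW'.image_of_isOpenImmersion _
  have hxW : x ∈ U.ι ''ᵁ W' := ⟨x', hxW', hx'⟩
  have e : U.ι ''ᵁ W' ≤ f ⁻¹ᵁ V := by
    rintro _ ⟨z, hz, rfl⟩
    exact e' hz
  have het : (f.appLE V (U.ι ''ᵁ W') e).hom.Etale := by
    have h0 : ((U.ι ≫ f).appLE V W' e').hom.Etale := (U.ι ≫ f).etale_appLE hV hW' e'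
    have : IsIso (U.ι.appLE (U.ι ''ᵁ W') W' (U.ι.preimage_image_eq _).ge) :=
      inferInstanceAs (IsIso (U.ι.app _ ≫
        U.toScheme.presheaf.map (eqToHom (U.ι.preimage_image_eq _).symm).op))
    rw [← Scheme.Hom.appLE_comp_appLE _ _ _ (U.ι ''ᵁ W') W' e (U.ι.preimage_image_eq _).ge,
      CommRingCat.hom_comp, RingHom.Etale.respectsIso.cancel_right_isIso] at h0
    exact h0
  algebraize [(f.appLE V (U.ι ''ᵁ W') e).hom]
  have het' : Algebra.Etale Γ(Y, V) Γ(X, U.ι ''ᵁ W') := het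
  let q := (hW.primeIdealOf ⟨x, hxW⟩).asIdeal
  let p := (hV.primeIdealOf ⟨f x, hxV⟩).asIdeal
  have hp : p = q.comap (algebraMap Γ(Y, V) Γ(X, U.ι ''ᵁ W')) := by
    have := IsAffineOpen.comap_primeIdealOf_appLE (f := f) V hV _ hW e hxW
    exact (congrArg PrimeSpectrum.asIdeal this).symm
  haveI : q.LiesOver p := ⟨hp⟩
  let _ := Y.presheaf.algebra_section_stalk ⟨f x, hxV⟩
  let _ := X.presheaf.algebra_section_stalk ⟨x, hxW⟩
  have h1 : IsLocalization.AtPrime (Y.presheaf.stalk (f x)) p := hV.isLocalization_stalk ⟨f x, hxV⟩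
  have h2 : IsLocalization.AtPrime (X.presheaf.stalk x) q := hW.isLocalization_stalk ⟨x, hxW⟩
  exact isGeomUnibranch_iff_of_etale' Γ(Y, V) Γ(X, U.ι ''ᵁ W') p q
    (Y.presheaf.stalk (f x)) (X.presheaf.stalk x)

theorem isGeomUnibranch_stalk_iff_of_etale_global {X Y : Scheme.{u}} (f : X ⟶ Y) [Etale f] (x : X) :
    CAlg2.IsGeomUnibranch (X.presheaf.stalk x) ↔ CAlg2.IsGeomUnibranch (Y.presheaf.stalk (f x)) := by
  haveI : Etale ((⊤ : X.Opens).ι ≫ f) := inferInstance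
  exact isGeomUnibranch_stalk_iff_of_etale f x ⊤ trivial

end Groth.Agent.H8.Hens
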