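import Mathlib

/-!
# Normal local domains with separably closed fraction field are strictly henselian (helper8)
-/

universe u v
open IsLocalRing Polynomial

namespace Groth.Agent.H8.Hens

/-- If `g = p * q`, `a₀` is a simple root of `g` modulo the maximal ideal and a root of `p` modulo
the maximal ideal, then it is a simple root of `p` modulo the maximal ideal. -/
theorem isUnit_derivative_of_mul {A : Type*} [CommRing A] [IsLocalRing A] (p q : A[X]) (a₀ : A)
    (h2 : IsUnit ((p * q).derivative.eval a₀)) (hp : p.eval a₀ ∈ maximalIdeal A) :
    IsUnit (p.derivative.eval a₀) := by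
  rw [derivative_mul, eval_add, eval_mul, eval_mul] at h2
  by_contra hnu
  have h3 : p.derivative.eval a₀ ∈ maximalIdeal A := hnu
  have h4 : eval a₀ (derivative p) * eval a₀ q + eval a₀ p * eval a₀ (derivative q) ∈
      maximalIdeal A :=
    add_mem (Ideal.mul_mem_right _ _ h3) (Ideal.mul_mem_right _ _ hp)
  exact h4 h2

variable (A : Type u) [CommRing A] [IsDomain A] [IsLocalRing A] [IsIntegrallyClosed A]
  (K : Type v) [Field K] [Algebra A K] [IsFractionRing A K] [IsSepClosed K]

include K in
/-- A monic irreducible polynomial over `A` with nonzero derivative has degree one. -/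
theorem natDegree_eq_one_of_irreducible {g : A[X]} (hg : g.Monic) (hirr : Irreducible g)
    (hd : derivative g ≠ 0) : g.natDegree = 1 := by
  have hinj : Function.Injective (algebraMap A K) := IsFractionRing.injective A K
  have hirrK : Irreducible (g.map (algebraMap A K)) :=
    (hg.irreducible_iff_irreducible_map_fraction_map (K := K)).mp hirr
  have hdK : derivative (g.map (algebraMap A K)) ≠ 0 := by
    rw [derivative_map]
    intro h0
    exact hd (Polynomial.map_injective _ hinj (by rw [h0, Polynomial.map_zero]))
  have hsep : (g.map (algebraMap A K)).Separable :=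
    (separable_iff_derivative_ne_zero hirrK).mpr hdK
  have h1 := IsSepClosed.degree_eq_one_of_irreducible K hirrK hsep
  have h2 : (g.map (algebraMap A K)).natDegree = 1 := natDegree_eq_of_degree_eq_some h1
  rwa [hg.natDegree_map] at h2

include K in
theorem exists_root_of_normal_aux : ∀ (d : ℕ) (g : A[X]), g.natDegree = d → g.Monic → ∀ a₀ : A,
    g.eval a₀ ∈ maximalIdeal A → IsUnit (g.derivative.eval a₀) →
    ∃ a : A, g.IsRoot a ∧ a - a₀ ∈ maximalIdeal A := by
  intro d
  induction d using Nat.strong_induction_on with
  | _ d ih =>
    intro g hgd hg a₀ h1 h2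
    by_cases hirr : Irreducible g
    · have hd : derivative g ≠ 0 := by
        intro h0
        rw [h0, eval_zero] at h2
        exact not_isUnit_zero h2
      have hdeg := natDegree_eq_one_of_irreducible A K hg hirr hd
      have hX := hg.eq_X_add_C hdeg
      refine ⟨-g.coeff 0, ?_, ?_⟩
      · show g.eval (-g.coeff 0) = 0
        rw [hX]; simp
      · have : g.eval a₀ = a₀ + g.coeff 0 := by
          conv_lhs => rw [hX]
          simp
        rw [this] at h1
        have h3 : -g.coeff 0 - a₀ = -(a₀ + g.coeff 0) := by ring
        rw [h3]; exact neg_mem h1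
    · have hg1 : g ≠ 1 := by
        rintro rfl
        rw [eval_one] at h1
        exact (Ideal.ne_top_iff_one _).mp (maximalIdeal.isMaximal A).ne_top h1
      rw [hg.irreducible_iff_natDegree] at hirr
      push Not at hirr
      obtain ⟨p, q, hp, hq, hpq, hp0, hq0⟩ := hirr hg1
      have hdsum : p.natDegree + q.natDegree = d := by
        rw [← hp.natDegree_mul hq, hpq, hgd]
      have hmul : p.eval a₀ * q.eval a₀ ∈ maximalIdeal A := by
        rw [← eval_mul, hpq]; exact h1
      rcases (maximalIdeal.isMaximal A).isPrime.mem_or_mem hmul with hpa | hqa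
      · have hpu := isUnit_derivative_of_mul p q a₀ (by rw [hpq]; exact h2) hpa
        obtain ⟨a, ha1, ha2⟩ := ih p.natDegree (by omega) p rfl hp a₀ hpa hpu
        refine ⟨a, ?_, ha2⟩
        show g.eval a = 0
        rw [← hpq, eval_mul, ha1, zero_mul]
      · have hqu := isUnit_derivative_of_mul q p a₀ (by rw [mul_comm, hpq]; exact h2) hqa
        obtain ⟨a, ha1, ha2⟩ := ih q.natDegree (by omega) q rfl hq a₀ hqa hqu
        refine ⟨a, ?_, ha2⟩
        show g.eval a = 0
        rw [← hpq, eval_mul, ha1, mul_zero]

include K in
/-- A normal local domain with separably closed fraction field is henselian. -/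
theorem henselianLocalRing_of_normal_of_isSepClosed : HenselianLocalRing A :=
  ⟨fun g hg a₀ h1 h2 => exists_root_of_normal_aux A K _ g rfl hg a₀ h1 h2⟩

include K in
/-- The residue field of a normal local domain with separably closed fraction field is separably
closed. -/
theorem isSepClosed_residueField_of_normal_of_isSepClosed : IsSepClosed (ResidueField A) := by
  refine IsSepClosed.of_exists_root _ fun p hp hirr hsep => ?_
  -- it suffices to show `p` has degree one
  suffices hdeg : p.natDegree = 1 by
    have hX := hp.eq_X_add_C hdeg
    exact ⟨-p.coeff 0, by rw [hX]; simp⟩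
  have hlift : p ∈ lifts (residue A) :=
    (Polynomial.mem_lifts p).mpr (Polynomial.map_surjective _ residue_surjective p)
  obtain ⟨g, hgp, hgd, hg⟩ := Polynomial.lifts_and_natDegree_eq_and_monic hlift hp
  -- `g` is irreducible
  have hp1 : p ≠ 1 := fun h => hirr.not_isUnit (h ▸ isUnit_one)
  have hgirr : Irreducible g := by
    rw [hg.irreducible_iff_natDegree]
    refine ⟨fun h => hp1 (by rw [← hgp, h, Polynomial.map_one]), ?_⟩
    intro f₁ f₂ hf₁ hf₂ hf
    have hpf : f₁.map (residue A) * f₂.map (residue A) = p := by
      rw [← Polynomial.map_mul, hf, hgp]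
    rcases hirr.isUnit_or_isUnit hpf.symm with hu | hu
    · left
      have := natDegree_eq_zero_of_isUnit hu
      rwa [hf₁.natDegree_map] at this
    · right
      have := natDegree_eq_zero_of_isUnit hu
      rwa [hf₂.natDegree_map] at this
  have hpd : derivative p ≠ 0 := by
    intro h0
    have := hsep
    rw [Polynomial.Separable, h0, isCoprime_zero_right] at this
    exact hirr.not_isUnit this
  have hgd' : derivative g ≠ 0 := by
    intro h0
    apply hpd
    rw [← hgp, Polynomial.derivative_map, h0, Polynomial.map_zero]
  rw [← hgd]
  exact natDegree_eq_one_of_irreducible A K hg hgirr hgd'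

end Groth.Agent.H8.Hens
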