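import Mathlib
import Groth.Agent.Lib.Helper8.Hens.EtaleGU

universe u
open IsLocalRing TensorProduct Polynomial

namespace Groth.Agent.H8.Hens.UGU

/-- In a domain, a nonzero root `e` of a nonzero polynomial `P` divides a nonzero coefficient
of `P`. -/
theorem exists_coeff_ne_zero_mem_span {D : Type*} [CommRing D] [IsDomain D] (P : D[X]) (hP : P ≠ 0)
    (e : D) (he : e ≠ 0) (hroot : P.eval e = 0) :
    ∃ k, P.coeff k ≠ 0 ∧ P.coeff k ∈ Ideal.span {e} := by
  obtain ⟨Q, hPQ, hQ⟩ := Polynomial.exists_eq_pow_rootMultiplicity_mul_and_not_dvd P hP 0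
  set k := rootMultiplicity 0 P with hk
  simp only [map_zero, sub_zero] at hPQ hQ
  have hQ0 : Q.coeff 0 ≠ 0 := by
    intro h
    exact hQ (Polynomial.X_dvd_iff.mpr h)
  have hcoeff : P.coeff k = Q.coeff 0 := by
    rw [hPQ]
    have := Polynomial.coeff_X_pow_mul Q k 0
    simpa using this
  refine ⟨k, by rwa [hcoeff], ?_⟩
  have h1 : Q.eval e = 0 := by
    have : P.eval e = e ^ k * Q.eval e := by
      rw [hPQ, eval_mul, eval_pow, eval_X]
    rw [this] at hroot
    rcases mul_eq_zero.mp hroot with h | h
    · exact absurd (pow_eq_zero_iff (n := k) (by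
        rintro hk0
        rw [hk0, pow_zero] at h
        exact one_ne_zero h) |>.mp h) he
    · exact h
  have h2 : Q = Q.divX * X + C (Q.coeff 0) := (Polynomial.divX_mul_X_add Q).symm
  rw [h2, eval_add, eval_mul, eval_X, eval_C] at h1
  rw [hcoeff, Ideal.mem_span_singleton']
  refine ⟨-(Q.divX.eval e), ?_⟩
  linear_combination (-1 : D) * h1

/-- **Key lemma.** Let `B` be a finite type `A`-algebra quasi-finite at `q` with `B_q` a domain.
An ideal `J` of `B_q` containing no nonzero image of an element of `A` is zero. -/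
theorem eq_bot_of_forall_algebraMap (A B : Type*) [CommRing A] [CommRing B] [Algebra A B]
    [Algebra.FiniteType A B] (q : Ideal B) [q.IsPrime] [Algebra.QuasiFiniteAt A q]
    [IsDomain (Localization.AtPrime q)] (J : Ideal (Localization.AtPrime q))
    (hJ : ∀ a : A, algebraMap A (Localization.AtPrime q) a ∈ J →
      algebraMap A (Localization.AtPrime q) a = 0) : J = ⊥ := by
  obtain ⟨r, hrq, H⟩ := Algebra.zariskisMainProperty_iff'.mp
    (Algebra.ZariskisMainProperty.of_finiteType (R := A) q)
  -- integral elements in `J` vanish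
  have key : ∀ e : B, IsIntegral A e → algebraMap B (Localization.AtPrime q) e ∈ J →
      algebraMap B (Localization.AtPrime q) e = 0 := by
    intro e ⟨p, hpm, hpe⟩ heJ
    by_contra hne
    set P : (Localization.AtPrime q)[X] := p.map (algebraMap A (Localization.AtPrime q)) with hPdef
    have hP : P ≠ 0 := (hpm.map _).ne_zero
    have hroot : P.eval (algebraMap B (Localization.AtPrime q) e) = 0 := by
      rw [hPdef, eval_map, IsScalarTower.algebraMap_eq A B (Localization.AtPrime q),
        ← hom_eval₂, ]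
      rw [eval₂_eq_eval_map] at hpe ⊢
      simpa using congrArg (algebraMap B (Localization.AtPrime q)) hpe
    obtain ⟨k, hk0, hk⟩ := exists_coeff_ne_zero_mem_span P hP _ hne hroot
    rw [hPdef, coeff_map] at hk0 hk
    apply hk0
    apply hJ
    exact (Ideal.span_singleton_le_iff_mem (I := J)).mpr heJ hk
  rw [eq_bot_iff]
  intro x hx
  obtain ⟨b, s, rfl⟩ := IsLocalization.exists_mk'_eq q.primeCompl x
  obtain ⟨m, hm⟩ := H b
  have h1 : algebraMap B (Localization.AtPrime q) (r ^ m * b) ∈ J := by
    have : algebraMap B (Localization.AtPrime q) (r ^ m * b) =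
        algebraMap B (Localization.AtPrime q) (r ^ m * s) * IsLocalization.mk' _ b s := by
      rw [map_mul, map_mul, mul_assoc, IsLocalization.mk'_spec']
    rw [this]
    exact J.mul_mem_left _ hx
  have h2 := key _ hm h1
  rw [Ideal.mem_bot, IsLocalization.mk'_eq_zero_iff]
  rw [IsLocalization.map_eq_zero_iff q.primeCompl] at h2
  obtain ⟨t, ht⟩ := h2
  refine ⟨t * ⟨r ^ m, q.primeCompl.pow_mem hrq m⟩, ?_⟩
  rw [Submonoid.coe_mul, mul_assoc]
  exact ht

end Groth.Agent.H8.Hens.UGU
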