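import Mathlib
import Groth.Agent.Lib.Helper8.Hens.EtaleGU
import Groth.Agent.H4.SmRed

universe u
open IsLocalRing TensorProduct Polynomial

namespace Groth.Agent.H8.Hens.UGU

/-- In a reduced ring with finitely many minimal primes, the kernel of the localization map at a
prime is killed by a single element outside that prime. -/
theorem exists_annihilator_of_finite_minimalPrimes (B' : Type*) [CommRing B'] [IsReduced B']
    (hfin : (minimalPrimes B').Finite) (q' : Ideal B') [q'.IsPrime] :
    ∃ s, s ∉ q' ∧ ∀ x : B', algebraMap B' (Localization.AtPrime q') x = 0 → s * x = 0 := by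
  classical
  let g : Ideal B' → B' := fun P =>
    if h : ¬ (P : Set B') ⊆ q' then (Set.not_subset.mp h).choose else 1
  have hg1 : ∀ P : Ideal B', g P ∉ q' := by
    intro P
    by_cases h : ¬ (P : Set B') ⊆ q'
    · simp only [g, dif_pos h]
      exact (Set.not_subset.mp h).choose_spec.2
    · simp only [g, dif_neg h]
      exact fun h1 => (Ideal.IsPrime.ne_top ‹q'.IsPrime›) ((Ideal.eq_top_iff_one _).mpr h1)
  have hg2 : ∀ P : Ideal B', ¬ P ≤ q' → g P ∈ P := by
    intro P h
    have h' : ¬ (P : Set B') ⊆ q' := h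
    simp only [g, dif_pos h']
    exact (Set.not_subset.mp h').choose_spec.1
  refine ⟨∏ P ∈ hfin.toFinset, g P, ?_, ?_⟩
  · intro hmem
    obtain ⟨P, -, hP⟩ := (Ideal.IsPrime.prod_mem_iff (hp := ‹q'.IsPrime›)).mp hmem
    exact hg1 P hP
  · intro x hx
    obtain ⟨t, ht⟩ := (IsLocalization.map_eq_zero_iff q'.primeCompl _ _).mp hx
    have hmem : (∏ P ∈ hfin.toFinset, g P) * x ∈ nilradical B' := by
      rw [nilradical, ← Ideal.sInf_minimalPrimes, Ideal.mem_sInf]
      intro P hP
      haveI : P.IsPrime := hP.1.1
      by_cases hPq : P ≤ q'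
      · have h1 : (t : B') * x ∈ P := by rw [ht]; exact P.zero_mem
        have h2 : (t : B') ∉ P := fun h => t.2 (hPq h)
        exact P.mul_mem_left _ ((Ideal.IsPrime.mem_or_mem ‹_› h1).resolve_left h2)
      · have h1 : g P ∣ ∏ P ∈ hfin.toFinset, g P :=
          Finset.dvd_prod_of_mem g (hfin.mem_toFinset.mpr hP)
        exact P.mul_mem_right _ (Ideal.mem_of_dvd P h1 (hg2 P hPq))
    rw [nilradical_eq_zero] at hmem
    exact hmem

/-- A flat quasi-finite algebra over a domain has finitely many minimal primes. -/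
theorem finite_minimalPrimes_of_flat_quasiFinite (A B' : Type*) [CommRing A] [IsDomain A]
    [CommRing B'] [Algebra A B'] [Module.Flat A B'] [Algebra.QuasiFinite A B'] :
    (minimalPrimes B').Finite := by
  refine (Algebra.QuasiFinite.finite_primesOver (S := B') (⊥ : Ideal A)).subset ?_
  intro P hP
  haveI : P.IsPrime := hP.1.1
  haveI : (⊥ : Ideal A).IsPrime := Ideal.isPrime_bot
  obtain ⟨P', hP'le, hP'prime, hP'over⟩ :=
    Ideal.exists_ideal_le_liesOver_of_le (S := B') (p := (⊥ : Ideal A)) (q := P.under A) P bot_le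
  have : P = P' := le_antisymm (hP.2 ⟨hP'prime, bot_le⟩ hP'le) hP'le
  subst this
  exact ⟨inferInstance, hP'over⟩

/-- An étale algebra over a domain: the kernel of localization at a prime is killed by a single
element outside the prime. -/
theorem exists_annihilator_of_etale_domain (A B' : Type u) [CommRing A] [IsDomain A] [CommRing B']
    [Algebra A B'] [Algebra.Etale A B'] (q' : Ideal B') [q'.IsPrime] :
    ∃ s, s ∉ q' ∧ ∀ x : B', algebraMap B' (Localization.AtPrime q') x = 0 → s * x = 0 := by
  haveI : IsReduced B' := Groth.Agent.H4.SmRed.isReduced_of_smooth A B'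
  exact exists_annihilator_of_finite_minimalPrimes B'
    (finite_minimalPrimes_of_flat_quasiFinite A B') q'

end Groth.Agent.H8.Hens.UGU
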