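import Mathlib
import Groth.Agent.Lib.Helper8.Hens.UnramGU1
import Groth.Agent.Lib.Helper8.Hens.UnramGU2

universe u
open IsLocalRing TensorProduct Polynomial

namespace Groth.Agent.H8.Hens.UGU

section Finish

variable (A B B' : Type u) [CommRing A] [CommRing B] [Algebra A B] [CommRing B'] [Algebra A B']

/-- If `φ : B' ↠ B_f` with `B'` étale, `s` kills `ker φ` and `φ s = g₀/1`, then `B_{f g₀}` is
étale. -/
theorem etale_away_of_surjective [Algebra.Etale A B'] (f : B)
    (φ : B' →ₐ[A] Localization.Away f) (hφ : Function.Surjective φ) (s : B')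
    (hs : ∀ x, φ x = 0 → s * x = 0) (g₀ : B)
    (hg₀ : φ s = algebraMap B (Localization.Away f) g₀) :
    Algebra.Etale A (Localization.Away (f * g₀)) := by
  have hbij : Function.Bijective (Localization.awayMapₐ φ s) := by
    refine ⟨?_, IsLocalization.Away.mapₐ_surjective_of_surjective
      (Aₚ := Localization.Away s) (Bₚ := Localization.Away (φ s)) s hφ⟩
    rw [injective_iff_map_eq_zero]
    intro z hz
    obtain ⟨x, t, rfl⟩ := IsLocalization.exists_mk'_eq (Submonoid.powers s) z
    rw [IsLocalization.mk'_eq_zero_iff]
    have h1 : Localization.awayMapₐ φ s (algebraMap B' (Localization.Away s) x) = 0 := by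
      have h2 : algebraMap B' (Localization.Away s) x =
          IsLocalization.mk' (Localization.Away s) x t *
            algebraMap B' (Localization.Away s) (t : B') :=
        (IsLocalization.mk'_spec _ x t).symm
      rw [h2, map_mul, hz, zero_mul]
    have h3 : Localization.awayMapₐ φ s (algebraMap B' (Localization.Away s) x) =
        algebraMap (Localization.Away f) (Localization.Away (φ s)) (φ x) := by
      simp [Localization.awayMapₐ, IsLocalization.Away.mapₐ, IsLocalization.Away.map]
    rw [h3, IsLocalization.map_eq_zero_iff (Submonoid.powers (φ s))] at h1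
    obtain ⟨⟨_, m, rfl⟩, hm⟩ := h1
    have h4 : φ (s ^ m * x) = 0 := by rw [map_mul, map_pow]; exact hm
    refine ⟨⟨s ^ (m + 1), m + 1, rfl⟩, ?_⟩
    have := hs _ h4
    show s ^ (m + 1) * x = 0
    rw [pow_succ', mul_assoc]
    exact this
  haveI : Algebra.Etale A (Localization.Away s) := Algebra.Etale.comp A B' _
  haveI : Algebra.Etale A (Localization.Away (φ s)) :=
    Algebra.Etale.of_equiv (AlgEquiv.ofBijective (Localization.awayMapₐ φ s) hbij)
  haveI : IsLocalization.Away (f * g₀) (Localization.Away (φ s)) :=
    hg₀ ▸ IsLocalization.Away.mul' (Localization.Away f) _ _ _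
  let e : Localization.Away (f * g₀) ≃ₐ[B] Localization.Away (φ s) :=
    IsLocalization.algEquiv (Submonoid.powers (f * g₀)) _ _
  exact Algebra.Etale.of_equiv (e.restrictScalars A).symm

end Finish

section Kernel

variable (A B B' : Type u) [CommRing A] [CommRing B] [Algebra A B] [CommRing B'] [Algebra A B']
  (q : Ideal B) [q.IsPrime] (p : Ideal A) [p.IsPrime] [q.LiesOver p]

theorem isPrime_map_away (f : B) (hf : f ∉ q) :
    (q.map (algebraMap B (Localization.Away f))).IsPrime :=
  IsLocalization.isPrime_of_isPrime_disjoint (.powers f) _ _ ‹_›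
    ((Ideal.disjoint_powers_iff_notMem_of_isPrime _).mpr hf)

theorem comap_map_away (f : B) (hf : f ∉ q) :
    (q.map (algebraMap B (Localization.Away f))).comap (algebraMap B (Localization.Away f)) = q :=
  IsLocalization.under_map_of_isPrime_disjoint (.powers f) _ ‹_›
    ((Ideal.disjoint_powers_iff_notMem_of_isPrime _).mpr hf)

/-- The kernel of `φ : B' ↠ B_f` dies in `B'_{q'}`. -/
theorem algebraMap_eq_zero_of_mem_ker [Algebra.Etale A B'] (f : B) (hf : f ∉ q)
    (φ : B' →ₐ[A] Localization.Away f)
    (q' : Ideal B') [q'.IsPrime]
    (hq' : q' = (q.map (algebraMap B (Localization.Away f))).comap φ.toRingHom)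
    (hD : IsDomain (Localization.AtPrime p)) (hG : CAlg2.IsGeomUnibranch (Localization.AtPrime p))
    (hinj : Function.Injective (Localization.localRingHom p q (algebraMap A B) (q.over_def p)))
    (x : B') (hx : φ x = 0) : algebraMap B' (Localization.AtPrime q') x = 0 := by
  have hqf := comap_map_away B q f hf
  have hover : p = q'.comap (algebraMap A B') := by
    rw [hq', Ideal.comap_comap]
    have : φ.toRingHom.comp (algebraMap A B') =
        (algebraMap B (Localization.Away f)).comp (algebraMap A B) := by
      refine RingHom.ext fun a => ?_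
      simp only [RingHom.comp_apply, AlgHom.toRingHom_eq_coe, RingHom.coe_coe, AlgHom.commutes]
      exact IsScalarTower.algebraMap_apply A B (Localization.Away f) a
    rw [this, ← Ideal.comap_comap, hqf]
    exact q.over_def p
  haveI : q'.LiesOver p := ⟨hover⟩
  haveI hC : IsDomain (Localization.AtPrime q') :=
    (isDomain_and_isGeomUnibranch_of_etale A B' p q' hD hG).1
  -- the map `B_f → B_q`
  have hfu : IsUnit (algebraMap B (Localization.AtPrime q) f) :=
    IsLocalization.map_units (Localization.AtPrime q) (⟨f, hf⟩ : q.primeCompl)
  let τ : Localization.Away f →+* Localization.AtPrime q :=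
    IsLocalization.Away.lift (S := Localization.Away f) f (g := algebraMap B (Localization.AtPrime q))
      hfu
  have hτ : ∀ b : B, τ (algebraMap B (Localization.Away f) b) =
      algebraMap B (Localization.AtPrime q) b := fun b => IsLocalization.Away.lift_eq f hfu b
  have hτu : ∀ y : Localization.Away f, y ∉ q.map (algebraMap B (Localization.Away f)) →
      IsUnit (τ y) := by
    intro y hy
    obtain ⟨b, t, rfl⟩ := IsLocalization.exists_mk'_eq (Submonoid.powers f) y
    have hb : b ∉ q := by
      intro hb
      apply hy
      rw [IsLocalization.mk'_eq_mul_mk'_one]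
      exact Ideal.mul_mem_right _ _ (Ideal.mem_map_of_mem _ hb)
    have h1 : τ (IsLocalization.mk' (Localization.Away f) b t) *
        τ (algebraMap B (Localization.Away f) (t : B)) =
        algebraMap B (Localization.AtPrime q) b := by
      rw [← map_mul, IsLocalization.mk'_spec, hτ]
    have h2 : IsUnit (algebraMap B (Localization.AtPrime q) b) :=
      IsLocalization.map_units (Localization.AtPrime q) (⟨b, hb⟩ : q.primeCompl)
    rw [← h1] at h2
    exact isUnit_of_mul_isUnit_left h2
  let ψ : Localization.AtPrime q' →+* Localization.AtPrime q :=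
    IsLocalization.lift (M := q'.primeCompl) (g := τ.comp φ.toRingHom) (fun s => by
      apply hτu
      have h1 : (s : B') ∉ q' := s.2
      intro h2
      apply h1
      have h3 : (s : B') ∈ (q.map (algebraMap B (Localization.Away f))).comap φ.toRingHom := h2
      rw [← hq'] at h3
      exact h3)
  have hψ : ∀ b' : B', ψ (algebraMap B' (Localization.AtPrime q') b') = τ (φ b') := fun b' =>
    IsLocalization.lift_eq _ b'
  have hJ : ∀ a : A, algebraMap A (Localization.AtPrime q') a ∈ RingHom.ker ψ →
      algebraMap A (Localization.AtPrime q') a = 0 := by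
    intro a ha
    rw [RingHom.mem_ker, IsScalarTower.algebraMap_apply A B' (Localization.AtPrime q'), hψ,
      AlgHom.commutes, IsScalarTower.algebraMap_apply A B (Localization.Away f), hτ] at ha
    have h1 : Localization.localRingHom p q (algebraMap A B) (q.over_def p)
        (algebraMap A (Localization.AtPrime p) a) = 0 := by
      rw [Localization.localRingHom_to_map]
      exact ha
    have h2 : algebraMap A (Localization.AtPrime p) a = 0 := by
      apply hinj
      rw [h1, map_zero]
    have h3 := Localization.localRingHom_to_map p q' (algebraMap A B') hover a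
    rw [h2, map_zero] at h3
    rw [IsScalarTower.algebraMap_apply A B' (Localization.AtPrime q')]
    exact h3.symm
  have hbot := eq_bot_of_forall_algebraMap A B' q' (RingHom.ker ψ) hJ
  have : algebraMap B' (Localization.AtPrime q') x ∈ RingHom.ker ψ := by
    rw [RingHom.mem_ker, hψ, hx, map_zero]
  rw [hbot] at this
  exact this

end Kernel

end Groth.Agent.H8.Hens.UGU
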