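import Mathlib
import Groth.Agent.Lib.Helper8.Hens.UnramGU3

universe u
open IsLocalRing TensorProduct Polynomial

namespace Groth.Agent.H8.Hens.UGU

/-- **EGA IV 18.10.1 (algebraic form).** Let `A → B` be of finite type, `q` a prime of `B` over `p`
with `A_p` a geometrically unibranch domain, `B` unramified at `q` and `A_p → B_q` injective. If
moreover `B` is finitely presented or `A` is a domain, then `B_g` is étale over `A` for some
`g ∉ q`. -/
theorem exists_etale_away (A B : Type u) [CommRing A] [CommRing B] [Algebra A B]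
    [Algebra.FiniteType A B] (q : Ideal B) [q.IsPrime] (p : Ideal A) [p.IsPrime] [q.LiesOver p]
    [Algebra.IsUnramifiedAt A q]
    (hD : IsDomain (Localization.AtPrime p)) (hG : CAlg2.IsGeomUnibranch (Localization.AtPrime p))
    (hinj : Function.Injective (Localization.localRingHom p q (algebraMap A B) (q.over_def p)))
    (h : Algebra.FinitePresentation A B ∨ IsDomain A) :
    ∃ g : B, g ∉ q ∧ Algebra.Etale A (Localization.Away g) := by
  classical
  obtain ⟨f, hfq, P, φ, hφ⟩ :=
    Algebra.IsUnramifiedAt.exists_hasStandardEtaleSurjectionOn (R := A) q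
  haveI := isPrime_map_away B q f hfq
  let q' : Ideal P.Ring := (q.map (algebraMap B (Localization.Away f))).comap φ.toRingHom
  haveI : q'.IsPrime := Ideal.comap_isPrime _ _
  have hK := algebraMap_eq_zero_of_mem_ker A B P.Ring q p f hfq φ q' rfl hD hG hinj
  have hs₀ : ∃ s₀, s₀ ∉ q' ∧ ∀ x, φ x = 0 → s₀ * x = 0 := by
    rcases h with hfp | hdom
    · haveI : Algebra.FinitePresentation A (Localization.Away f) :=
        Algebra.FinitePresentation.trans A B _
      have hfg : (RingHom.ker φ.toRingHom).FG :=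
        Algebra.FinitePresentation.ker_fG_of_surjective φ hφ
      obtain ⟨T, hT⟩ := hfg
      have hex : ∀ t : P.Ring, t ∈ T → ∃ s : P.Ring, s ∉ q' ∧ s * t = 0 := by
        intro t ht
        have h1 : φ t = 0 := by
          have : t ∈ RingHom.ker φ.toRingHom := by rw [← hT]; exact Ideal.subset_span ht
          exact this
        obtain ⟨s, hs⟩ := (IsLocalization.map_eq_zero_iff q'.primeCompl _ _).mp (hK t h1)
        exact ⟨s, s.2, hs⟩
      choose! σ hσ1 hσ2 using hex
      refine ⟨∏ t ∈ T, σ t, ?_, ?_⟩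
      · intro hmem
        obtain ⟨t, ht, ht'⟩ := (Ideal.IsPrime.prod_mem_iff (hp := ‹q'.IsPrime›)).mp hmem
        exact hσ1 t ht ht'
      · have hall : ∀ x ∈ Ideal.span (T : Set P.Ring), (∏ t ∈ T, σ t) * x = 0 := by
          intro x hxk
          induction hxk using Submodule.span_induction with
          | mem t ht =>
            obtain ⟨c, hc⟩ := Finset.dvd_prod_of_mem σ ht
            rw [hc, mul_right_comm, hσ2 t ht, zero_mul]
          | zero => rw [mul_zero]
          | add y z _ _ hy hz => rw [mul_add, hy, hz, add_zero]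
          | smul c y _ hy => rw [smul_eq_mul, mul_left_comm, hy, mul_zero]
        intro x hx
        apply hall
        rw [hT]
        exact hx
    · obtain ⟨s, hs, hs'⟩ := exists_annihilator_of_etale_domain A P.Ring q'
      exact ⟨s, hs, fun x hx => hs' x (hK x hx)⟩
  obtain ⟨s₀, hs₀q, hs₀k⟩ := hs₀
  obtain ⟨g₀, t, hg₀⟩ := IsLocalization.exists_mk'_eq (Submonoid.powers f) (φ s₀)
  obtain ⟨a, ha⟩ := hφ (algebraMap B _ (t : B))
  have hsφ : φ (s₀ * a) = algebraMap B _ g₀ := by
    rw [map_mul, ha, ← hg₀, IsLocalization.mk'_spec]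
  refine ⟨f * g₀, ?_, etale_away_of_surjective A B P.Ring f φ hφ (s₀ * a)
    (fun x hx => by rw [mul_right_comm, hs₀k x hx, zero_mul]) g₀ hsφ⟩
  intro hmem
  rcases Ideal.IsPrime.mem_or_mem ‹q.IsPrime› hmem with h1 | h1
  · exact hfq h1
  · apply hs₀q
    show φ.toRingHom s₀ ∈ q.map (algebraMap B (Localization.Away f))
    have : φ.toRingHom s₀ = φ s₀ := rfl
    rw [this, ← hg₀, IsLocalization.mk'_eq_mul_mk'_one]
    exact Ideal.mul_mem_right _ _ (Ideal.mem_map_of_mem _ h1)

end Groth.Agent.H8.Hens.UGU
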