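import Mathlib
import Groth.Agent.Lib.Helper8.Hens.UnramGU4

universe u
open IsLocalRing TensorProduct CategoryTheory AlgebraicGeometry

namespace Groth.Agent.H8.Hens.UGU

theorem etale_ι_comp_of_appLE {X Y : Scheme.{u}} (f : X ⟶ Y) {W : X.Opens} (hW : IsAffineOpen W)
    {V : Y.Opens} (hV : IsAffineOpen V) (e : W ≤ f ⁻¹ᵁ V) (h : (f.appLE V W e).hom.Etale) :
    Etale (W.ι ≫ f) := by
  have h1 : Etale (f.resLE V W e) := by
    have : IsAffine _ := hV
    have : IsAffine _ := hW
    rw [HasRingHomProperty.iff_of_isAffine (P := @Etale)]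
    exact (RingHom.Etale.propertyIsLocal.respectsIso.arrow_mk_iso_iff
      (arrowResLEAppIso f V W e)).mpr h
  rw [← Scheme.Hom.resLE_comp_ι f e]
  infer_instance

/-- ring hom version of `exists_etale_away`, for any localization away. -/
theorem exists_etale_comp {A B : Type u} [CommRing A] [CommRing B] (φ : A →+* B)
    (hft : φ.FiniteType) (q : Ideal B) [q.IsPrime] (p : Ideal A) [p.IsPrime]
    (hp : p = q.comap φ) (hunr : φ.FormallyUnramified)
    (hD : IsDomain (Localization.AtPrime p)) (hG : CAlg2.IsGeomUnibranch (Localization.AtPrime p))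
    (hinj : Function.Injective (Localization.localRingHom p q φ hp))
    (h : φ.FinitePresentation ∨ IsDomain A) :
    ∃ g ∉ q, ∀ (T : Type u) [CommRing T] [Algebra B T]
      [IsLocalization.Away g T], ((algebraMap B T).comp φ).Etale := by
  algebraize [φ]
  haveI : q.LiesOver p := ⟨hp⟩
  haveI : Algebra.FormallyUnramified A B := hunr
  have h' : Algebra.FinitePresentation A B ∨ IsDomain A := h.imp (fun h => h) (fun h => h)
  obtain ⟨g, hg, hE⟩ := exists_etale_away A B q p hD hG hinj h'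
  refine ⟨g, hg, fun T _ _ _ => ?_⟩
  let e : Localization.Away g ≃ₐ[B] T := IsLocalization.algEquiv (.powers g) _ _
  have h4 : (algebraMap A (Localization.Away g)).Etale := RingHom.etale_algebraMap.mpr hE
  have h5 : (algebraMap B T).comp φ = (e : Localization.Away g →+* T).comp
      (algebraMap A (Localization.Away g)) := by
    ext a
    simp [IsScalarTower.algebraMap_apply A B (Localization.Away g), RingHom.algebraMap_toAlgebra]
  rw [h5]
  exact RingHom.Etale.stableUnderComposition _ _ h4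
    (RingHom.Etale.of_bijective e.bijective)

/-- **EGA IV 18.10.1**, scheme form. -/
theorem exists_etale_nhd_of_unramified {X Y : Scheme.{u}} (f : X ⟶ Y) [LocallyOfFiniteType f] (x : X)
    (hD : IsDomain (Y.presheaf.stalk (f x))) (hG : CAlg2.IsGeomUnibranch (Y.presheaf.stalk (f x)))
    (U : X.Opens) (hxU : x ∈ U) [hU : FormallyUnramified (U.ι ≫ f)]
    (hinj : Function.Injective (f.stalkMap x))
    (h : LocallyOfFinitePresentation f ∨ IsIntegral Y) :
    ∃ U' : X.Opens, x ∈ U' ∧ Etale (U'.ι ≫ f) := by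
  obtain ⟨_, ⟨V, hV : IsAffineOpen V, rfl⟩, hxV, -⟩ :=
    Y.isBasis_affineOpens.exists_subset_of_mem_open (Set.mem_univ (f x)) isOpen_univ
  let x' : U.toScheme := ⟨x, hxU⟩
  have hx' : U.ι x' = x := rfl
  obtain ⟨_, ⟨W', hW' : IsAffineOpen W', rfl⟩, hxW', hW'V⟩ :=
    U.toScheme.isBasis_affineOpens.exists_subset_of_mem_open
      (show x' ∈ ((U.ι ≫ f) ⁻¹ᵁ V : Set U.toScheme) from hxV) ((U.ι ≫ f) ⁻¹ᵁ V).isOpen
  have e' : W' ≤ (U.ι ≫ f) ⁻¹ᵁ V := hW'V
  have hW : IsAffineOpen (U.ι ''ᵁ W') := hW'.image_of_isOpenImmersion _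
  have hxW : x ∈ U.ι ''ᵁ W' := ⟨x', hxW', hx'⟩
  have e : U.ι ''ᵁ W' ≤ f ⁻¹ᵁ V := by
    rintro _ ⟨z, hz, rfl⟩
    exact e' hz
  have hunr : (f.appLE V (U.ι ''ᵁ W') e).hom.FormallyUnramified := by
    have h0 : ((U.ι ≫ f).appLE V W' e').hom.FormallyUnramified :=
      (U.ι ≫ f).formallyUnramified_appLE hV hW' e'
    have : IsIso (U.ι.appLE (U.ι ''ᵁ W') W' (U.ι.preimage_image_eq _).ge) :=
      inferInstanceAs (IsIso (U.ι.app _ ≫
        U.toScheme.presheaf.map (eqToHom (U.ι.preimage_image_eq _).symm).op))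
    rw [← Scheme.Hom.appLE_comp_appLE _ _ _ (U.ι ''ᵁ W') W' e (U.ι.preimage_image_eq _).ge,
      CommRingCat.hom_comp, RingHom.FormallyUnramified.respectsIso.cancel_right_isIso] at h0
    exact h0
  have hft : (f.appLE V (U.ι ''ᵁ W') e).hom.FiniteType := f.finiteType_appLE hV hW e
  let q := (hW.primeIdealOf ⟨x, hxW⟩).asIdeal
  let p := (hV.primeIdealOf ⟨f x, hxV⟩).asIdeal
  have hp : p = q.comap (f.appLE V (U.ι ''ᵁ W') e).hom := by
    have := IsAffineOpen.comap_primeIdealOf_appLE (f := f) V hV _ hW e hxW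
    exact (congrArg PrimeSpectrum.asIdeal this).symm
  let _ := Y.presheaf.algebra_section_stalk ⟨f x, hxV⟩
  let _ := X.presheaf.algebra_section_stalk ⟨x, hxW⟩
  have h1 : IsLocalization.AtPrime (Y.presheaf.stalk (f x)) p := hV.isLocalization_stalk ⟨f x, hxV⟩
  have h2 : IsLocalization.AtPrime (X.presheaf.stalk x) q := hW.isLocalization_stalk ⟨x, hxW⟩
  let eA : Y.presheaf.stalk (f x) ≃ₐ[Γ(Y, V)] Localization.AtPrime p :=
    IsLocalization.algEquiv p.primeCompl _ _
  have hD' : IsDomain (Localization.AtPrime p) := eA.symm.toMulEquiv.isDomain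
  have hG' : CAlg2.IsGeomUnibranch (Localization.AtPrime p) :=
    isGeomUnibranch_of_ringEquiv eA.toRingEquiv hG
  have hinj' : Function.Injective
      (Localization.localRingHom p q (f.appLE V (U.ι ''ᵁ W') e).hom hp) := by
    let α := IsAffineOpen.arrowStalkMapIso f V hV _ hW e hxW
    have hw := α.inv.w
    have hbl : Function.Bijective α.inv.left :=
      (ConcreteCategory.isIso_iff_bijective α.inv.left).mp inferInstance
    intro a b hab
    apply hbl.1
    apply hinj
    have ha := ConcreteCategory.congr_hom hw a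
    have hb := ConcreteCategory.congr_hom hw b
    simp only [Arrow.mk_hom, CategoryTheory.comp_apply, CommRingCat.hom_ofHom] at ha hb
    rw [ha, hb]
    exact congrArg _ hab
  have hcase : (f.appLE V (U.ι ''ᵁ W') e).hom.FinitePresentation ∨ IsDomain Γ(Y, V) := by
    rcases h with h | h
    · exact Or.inl (f.finitePresentation_appLE hV hW e)
    · right
      have : Nonempty V := ⟨⟨f x, hxV⟩⟩
      infer_instance
  obtain ⟨g, hg, H⟩ := exists_etale_comp (f.appLE V (U.ι ''ᵁ W') e).hom hft q p hp hunr hD' hG'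
    hinj' hcase
  have hxg : x ∈ X.basicOpen g := by
    have h4 : hW.primeIdealOf ⟨x, hxW⟩ ∈ hW.fromSpec ⁻¹ᵁ X.basicOpen g := by
      rw [hW.fromSpec_preimage_basicOpen]
      exact hg
    have h5 : hW.fromSpec (hW.primeIdealOf ⟨x, hxW⟩) = x := hW.fromSpec_primeIdealOf ⟨x, hxW⟩
    rw [← h5]
    exact h4
  refine ⟨X.basicOpen g, hxg, etale_ι_comp_of_appLE f (hW.basicOpen g) hV
    ((X.basicOpen_le g).trans e) ?_⟩
  have : IsLocalization.Away g Γ(X, X.basicOpen g) := hW.isLocalization_basicOpen g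
  have h6 := H Γ(X, X.basicOpen g)
  rw [← f.appLE_map e (homOfLE (X.basicOpen_le g)).op]
  exact h6

end Groth.Agent.H8.Hens.UGU

namespace Groth.Agent.H8.Hens.UGU

theorem injective_of_flat_of_isLocalHom {R S : Type*} [CommRing R] [CommRing S] [IsLocalRing R]
    [IsLocalRing S] (φ : R →+* S) (hφ : φ.Flat) [IsLocalHom φ] : Function.Injective φ := by
  algebraize [φ]
  haveI : IsLocalHom (algebraMap R S) := ‹IsLocalHom φ›
  haveI : Module.FaithfullyFlat R S := Module.FaithfullyFlat.of_flat_of_isLocalHom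
  exact FaithfulSMul.algebraMap_injective R S

theorem injective_stalkMap_of_flat_nhd {X Y : Scheme.{u}} (f : X ⟶ Y) (x : X) (U : X.Opens)
    (hxU : x ∈ U) [Flat (U.ι ≫ f)] : Function.Injective (f.stalkMap x) := by
  let x' : U.toScheme := ⟨x, hxU⟩
  have h1 : ((U.ι ≫ f).stalkMap x').hom.Flat := Flat.stalkMap (U.ι ≫ f) x'
  have h2 : Function.Injective ((U.ι ≫ f).stalkMap x').hom :=
    injective_of_flat_of_isLocalHom _ h1
  have h3 : (U.ι ≫ f).stalkMap x' = f.stalkMap (U.ι x') ≫ U.ι.stalkMap x' :=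
    Scheme.Hom.stalkMap_comp U.ι f x'
  intro a b hab
  apply h2
  have ha : ((U.ι ≫ f).stalkMap x').hom a = (U.ι.stalkMap x').hom ((f.stalkMap x).hom a) :=
    ConcreteCategory.congr_hom h3 a
  have hb : ((U.ι ≫ f).stalkMap x').hom b = (U.ι.stalkMap x').hom ((f.stalkMap x).hom b) :=
    ConcreteCategory.congr_hom h3 b
  rw [ha, hb]
  exact congrArg _ hab

end Groth.Agent.H8.Hens.UGU
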