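import Mathlib
import Groth.Agent.Lib.Helper8.Hens.FibreRing

universe u
open IsLocalRing TensorProduct

namespace Groth.Agent.H8.Hens

section Main

variable {R : Type u} [CommRing R] [IsLocalRing R] [IsNoetherianRing R] {K : Type u} [Field K]
  [Algebra R K] [IsLocalHom (algebraMap R K)]

open Groth.Agent.H4.IndEtCrit in
/-- Residue fields of the fibre rings of `H R K` are separable over `κ(p)`. -/
theorem H.isSeparable_fiber_quotient (p : Ideal R) [p.IsPrime]
    (m : Ideal (p.ResidueField ⊗[R] H R K)) [m.IsMaximal] :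
    letI := Ideal.Quotient.field m
    Algebra.IsSeparable p.ResidueField ((p.ResidueField ⊗[R] H R K) ⧸ m) := by
  letI := Ideal.Quotient.field m
  refine ⟨fun y => ?_⟩
  obtain ⟨f, rfl⟩ := Ideal.Quotient.mk_surjective y
  induction f using TensorProduct.induction_on with
  | zero =>
    rw [map_zero, ← map_zero (algebraMap p.ResidueField _)]
    exact isSeparable_algebraMap 0
  | tmul a h =>
    obtain ⟨C, _, _, _, g, c, hc⟩ := (crit_H (R := R) (K := K)).lift h
    let ψ : p.ResidueField ⊗[R] C →ₐ[p.ResidueField] (p.ResidueField ⊗[R] H R K) ⧸ m :=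
      (Ideal.Quotient.mkₐ p.ResidueField m).comp
        (Algebra.TensorProduct.map (AlgHom.id p.ResidueField p.ResidueField) g)
    have h1 : IsSeparable p.ResidueField (ψ ((1 : p.ResidueField) ⊗ₜ[R] c)) :=
      isSeparable_of_etale_algHom ψ _
    have h2 : ψ ((1 : p.ResidueField) ⊗ₜ[R] c) =
        Ideal.Quotient.mk m ((1 : p.ResidueField) ⊗ₜ[R] h) := by
      simp only [ψ, AlgHom.comp_apply, Algebra.TensorProduct.map_tmul, hc]
      rfl
    rw [h2] at h1
    have e1 : a ⊗ₜ[R] h = algebraMap p.ResidueField (p.ResidueField ⊗[R] H R K) a *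
        ((1 : p.ResidueField) ⊗ₜ[R] h) := by
      rw [Algebra.TensorProduct.algebraMap_apply, Algebra.TensorProduct.tmul_mul_tmul, mul_one,
        one_mul]
      rfl
    rw [e1, map_mul]
    exact Field.isSeparable_mul (isSeparable_algebraMap a) h1
  | add x y hx hy =>
    rw [map_add]
    exact Field.isSeparable_add hx hy

/-- The fibre rings of `H R K` over a Noetherian local ring are finite products of separable
algebraic field extensions. -/
theorem H.exists_fiber_equiv_pi (p : Ideal R) [p.IsPrime] :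
    ∃ (n : ℕ) (L : Fin n → Type u) (_ : ∀ i, Field (L i))
      (_ : ∀ i, Algebra p.ResidueField (L i)),
      (∀ i, Algebra.IsSeparable p.ResidueField (L i)) ∧
      Nonempty ((p.ResidueField ⊗[R] H R K) ≃ₐ[p.ResidueField] (Π i, L i)) := by
  haveI : IsNoetherianRing (p.ResidueField ⊗[R] H R K) := isNoetherianRing_fiber p
  haveI : IsReduced (p.ResidueField ⊗[R] H R K) :=
    isReduced_fiber p (H.isRadical_map p (Ideal.IsPrime.isRadical ‹_›))
  haveI : Ring.KrullDimLE 0 (p.ResidueField ⊗[R] H R K) :=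
    krullDimLE_zero_fiber H.fibresDiscrete p
  haveI : IsArtinianRing (p.ResidueField ⊗[R] H R K) :=
    isArtinianRing_iff_krullDimLE_zero.mpr inferInstance
  let e₀ := (IsArtinianRing.equivPi (p.ResidueField ⊗[R] H R K)).restrictScalars p.ResidueField
  let n := Nat.card (MaximalSpectrum (p.ResidueField ⊗[R] H R K))
  let σ : MaximalSpectrum (p.ResidueField ⊗[R] H R K) ≃ Fin n := Finite.equivFin _
  refine ⟨n, fun i => (p.ResidueField ⊗[R] H R K) ⧸ (σ.symm i).asIdeal,
    fun i => Ideal.Quotient.field _, fun i => inferInstance, ?_, ⟨e₀.trans ?_⟩⟩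
  · intro i
    exact H.isSeparable_fiber_quotient p (σ.symm i).asIdeal
  · exact AlgEquiv.piCongrLeft' p.ResidueField
      (fun m : MaximalSpectrum (p.ResidueField ⊗[R] H R K) =>
        (p.ResidueField ⊗[R] H R K) ⧸ m.asIdeal) σ

/-- Transport along an `R`-algebra isomorphism. -/
theorem exists_fiber_equiv_pi_of_algEquiv {S : Type u} [CommRing S] [Algebra R S]
    (e : H R K ≃ₐ[R] S) (p : Ideal R) [p.IsPrime] :
    ∃ (n : ℕ) (L : Fin n → Type u) (_ : ∀ i, Field (L i))
      (_ : ∀ i, Algebra p.ResidueField (L i)),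
      (∀ i, Algebra.IsSeparable p.ResidueField (L i)) ∧
      Nonempty ((p.ResidueField ⊗[R] S) ≃ₐ[p.ResidueField] (Π i, L i)) := by
  obtain ⟨n, L, _, _, hsep, ⟨ε⟩⟩ := H.exists_fiber_equiv_pi (R := R) (K := K) p
  refine ⟨n, L, inferInstance, inferInstance, hsep, ⟨?_⟩⟩
  exact (Algebra.TensorProduct.congr (AlgEquiv.refl : p.ResidueField ≃ₐ[p.ResidueField] _)
    e).symm.trans ε

end Main

end Groth.Agent.H8.Hens
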