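import Groth.Agent.Lib.Helper8.Hens.Henselization

open IsLocalRing

namespace Groth.Agent.H8.Hens

universe u

variable {R : Type u} [CommRing R] [IsLocalRing R]
variable (S : Type u) [CommRing S] [IsLocalRing S] [Algebra R S] [IsLocalHom (algebraMap R S)]
  [hS : Hensel.IsHenselization R S]

include hS in
theorem exists_sub_mem_map_pow (n : ℕ) (s : S) :
    ∃ r : R, s - algebraMap R S r ∈ (maximalIdeal R ^ n).map (algebraMap R S) := by
  induction n generalizing s with
  | zero => exact ⟨0, by simp [Ideal.map_top]⟩
  | succ n ih =>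
    obtain ⟨r, hr⟩ := ih s
    -- every element of `m^n S` is congruent to an element of `m^n` modulo `m^(n+1) S`
    suffices h : ∀ t ∈ (maximalIdeal R ^ n).map (algebraMap R S),
        ∃ r' : R, t - algebraMap R S r' ∈ (maximalIdeal R ^ (n + 1)).map (algebraMap R S) by
      obtain ⟨r', hr'⟩ := h _ hr
      refine ⟨r + r', ?_⟩
      have : s - algebraMap R S (r + r') = s - algebraMap R S r - algebraMap R S r' := by
        rw [map_add]; ring
      rw [this]; exact hr'
    intro t ht
    induction ht using Submodule.span_induction with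
    | zero => exact ⟨0, by simp⟩
    | add x y _ _ hx hy =>
      obtain ⟨a, ha⟩ := hx
      obtain ⟨b, hb⟩ := hy
      refine ⟨a + b, ?_⟩
      have : x + y - algebraMap R S (a + b) = (x - algebraMap R S a) + (y - algebraMap R S b) := by
        rw [map_add]; ring
      rw [this]; exact add_mem ha hb
    | mem x hx =>
      obtain ⟨a, ha, rfl⟩ := hx
      exact ⟨a, by simp⟩
    | smul c x hxmem hx =>
      obtain ⟨a, ha⟩ := hx
      obtain ⟨c₀, hc₀⟩ := residue_surjective_of_isHenselization (R := R) S c
      refine ⟨c₀ * a, ?_⟩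
      have e : c • x - algebraMap R S (c₀ * a) =
          (c - algebraMap R S c₀) * x + algebraMap R S c₀ * (x - algebraMap R S a) := by
        rw [map_mul, smul_eq_mul]; ring
      rw [e]
      refine add_mem ?_ (Ideal.mul_mem_left _ _ ha)
      rw [← map_maximalIdeal_of_isHenselization (R := R) S] at hc₀
      have hxmem' : x ∈ (maximalIdeal R ^ n).map (algebraMap R S) := hxmem
      have := Ideal.mul_mem_mul hc₀ hxmem'
      rwa [← Ideal.map_mul, ← pow_succ'] at this

include hS in
theorem quotientMap_pow_bijective (n : ℕ) :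
    Function.Bijective (Ideal.quotientMap
      (Ideal.map (algebraMap R S) (maximalIdeal R ^ n)) (algebraMap R S)
      Ideal.le_comap_map) := by
  have := faithfullyFlat_of_isHenselization (R := R) S
  constructor
  · apply Ideal.quotientMap_injective'
    rw [Ideal.comap_map_eq_self_of_faithfullyFlat]
  · intro x
    obtain ⟨s, rfl⟩ := Ideal.Quotient.mk_surjective x
    obtain ⟨r, hr⟩ := exists_sub_mem_map_pow (R := R) S n s
    refine ⟨Ideal.Quotient.mk _ r, ?_⟩
    rw [Ideal.quotientMap_mk]
    exact (Ideal.Quotient.eq.mpr hr).symm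

end Groth.Agent.H8.Hens
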