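import Groth.Agent.Lib.Helper8.Hens.Pointed

open IsLocalRing TensorProduct Polynomial

namespace Groth.Agent.H8.Hens

universe u

section Local

variable {R K : Type*} [CommRing R] [IsLocalRing R] [Field K] [Algebra R K]
  [IsLocalHom (algebraMap R K)]
variable {E : Type*} [CommRing E] [Algebra R E] (σ : E →ₐ[R] K)

instance Loc.isLocalHom_algebraMap : IsLocalHom (algebraMap R (Loc σ)) where
  map_nonunit r hr := by
    rw [Loc.isUnit_iff] at hr
    have h1 : Loc.pt σ (algebraMap R (Loc σ) r) = algebraMap R K r := (Loc.pt σ).commutes r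
    rw [h1] at hr
    exact IsLocalHom.map_nonunit (f := algebraMap R K) r (isUnit_iff_ne_zero.mpr hr)

theorem Loc.map_maximalIdeal [Algebra.Etale R E] :
    (maximalIdeal R).map (algebraMap R (Loc σ)) = maximalIdeal (Loc σ) := by
  have : Algebra.FormallyUnramified R (Loc σ) := Algebra.FormallyUnramified.comp R E _
  have : Algebra.EssFiniteType R (Loc σ) := Algebra.EssFiniteType.comp R E _
  exact Algebra.FormallyUnramified.map_maximalIdeal

instance Loc.flat [Algebra.Etale R E] : Module.Flat R (Loc σ) :=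
  Module.Flat.trans R E (Loc σ)

end Local

/-- The index type: presented étale `R`-algebras with a `K`-point. -/
structure EtPt (R : Type u) (K : Type u) [CommRing R] [Field K] [Algebra R K] : Type u where
  n : ℕ
  I : Ideal (MvPolynomial (Fin n) R)
  etale : Algebra.Etale R (MvPolynomial (Fin n) R ⧸ I)
  pt : (MvPolynomial (Fin n) R ⧸ I) →ₐ[R] K

namespace EtPt

variable {R : Type u} {K : Type u} [CommRing R] [Field K] [Algebra R K]

/-- The underlying étale algebra. -/
abbrev Ring (i : EtPt R K) : Type u := MvPolynomial (Fin i.n) R ⧸ i.I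

instance (i : EtPt R K) : Algebra.Etale R i.Ring := i.etale

/-- The local ring at the point. -/
abbrev Loc (i : EtPt R K) : Type u := Hens.Loc i.pt

/-- The point of the local ring. -/
noncomputable abbrev locPt (i : EtPt R K) : i.Loc →ₐ[R] K := Hens.Loc.pt i.pt

section of

variable (E : Type u) [CommRing E] [Algebra R E] [Algebra.Etale R E] (σ : E →ₐ[R] K)

theorem exists_presentation :
    ∃ (n : ℕ) (f : MvPolynomial (Fin n) R →ₐ[R] E), Function.Surjective f :=
  Algebra.FiniteType.iff_quotient_mvPolynomial''.mp inferInstance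

/-- The index attached to an arbitrary étale algebra with a point. -/
noncomputable def of : EtPt R K :=
  let n := (exists_presentation (R := R) E).choose
  let f := (exists_presentation (R := R) E).choose_spec.choose
  let hf := (exists_presentation (R := R) E).choose_spec.choose_spec
  let e : (MvPolynomial (Fin n) R ⧸ RingHom.ker f.toRingHom) ≃ₐ[R] E :=
    Ideal.quotientKerAlgEquivOfSurjective hf
  { n := n
    I := RingHom.ker f.toRingHom
    etale := Algebra.Etale.of_equiv e.symm
    pt := σ.comp e.toAlgHom }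

/-- The comparison isomorphism. -/
noncomputable def ofEquiv : (of E σ).Ring ≃ₐ[R] E :=
  Ideal.quotientKerAlgEquivOfSurjective (exists_presentation (R := R) E).choose_spec.choose_spec

theorem of_pt : (of E σ).pt = σ.comp (ofEquiv E σ).toAlgHom := rfl

/-- The local ring of `of E σ` receives the local ring of `σ`. -/
noncomputable def toOf : Hens.Loc σ →ₐ[R] (of E σ).Loc :=
  Loc.map σ (of E σ).pt (ofEquiv E σ).symm.toAlgHom (by
    rw [of_pt]; ext x; simp)

theorem locPt_toOf (x : Hens.Loc σ) : (of E σ).locPt (toOf E σ x) = Loc.pt σ x :=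
  Loc.pt_map _ _ _ _ x

/-- The local ring of `of E σ` maps to the local ring of `σ`. -/
noncomputable def fromOf : (of E σ).Loc →ₐ[R] Hens.Loc σ :=
  Loc.map (of E σ).pt σ (ofEquiv E σ).toAlgHom (by rw [of_pt])

theorem pt_fromOf (x : (of E σ).Loc) : Loc.pt σ (fromOf E σ x) = (of E σ).locPt x :=
  Loc.pt_map _ _ _ _ x

end of

instance : Preorder (EtPt R K) where
  le i j := ∃ g : i.Loc →ₐ[R] j.Loc, j.locPt.comp g = i.locPt
  le_refl i := ⟨AlgHom.id _ _, by simp⟩
  le_trans i j k := fun ⟨g, hg⟩ ⟨g', hg'⟩ => ⟨g'.comp g, by rw [← AlgHom.comp_assoc, hg', hg]⟩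

theorem le_def (i j : EtPt R K) : i ≤ j ↔ ∃ g : i.Loc →ₐ[R] j.Loc, j.locPt.comp g = i.locPt :=
  Iff.rfl

/-- The transition map. -/
noncomputable def trans {i j : EtPt R K} (h : i ≤ j) : i.Loc →ₐ[R] j.Loc := h.choose

theorem locPt_comp_trans {i j : EtPt R K} (h : i ≤ j) : j.locPt.comp (trans h) = i.locPt :=
  h.choose_spec

theorem locPt_trans {i j : EtPt R K} (h : i ≤ j) (x : i.Loc) : j.locPt (trans h x) = i.locPt x :=
  congrArg (fun w => w x) (locPt_comp_trans h)

/-- Uniqueness of the transition map. -/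
theorem eq_trans {i j : EtPt R K} (h : i ≤ j) (g : i.Loc →ₐ[R] j.Loc)
    (hg : j.locPt.comp g = i.locPt) : g = trans h :=
  Loc.algHom_ext i.pt j.locPt g (trans h) (by rw [hg, locPt_comp_trans])

theorem trans_self (i : EtPt R K) (h : i ≤ i) : trans h = AlgHom.id R _ :=
  (eq_trans h _ (by simp)).symm

theorem trans_comp {i j k : EtPt R K} (hij : i ≤ j) (hjk : j ≤ k) :
    (trans hjk).comp (trans hij) = trans (hij.trans hjk) :=
  eq_trans _ _ (by rw [← AlgHom.comp_assoc, locPt_comp_trans, locPt_comp_trans])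

/-- An algebra map compatible with points gives an inequality. -/
theorem le_of_algHom {i : EtPt R K} (E : Type u) [CommRing E] [Algebra R E] [Algebra.Etale R E]
    (σ : E →ₐ[R] K) (g : i.Ring →ₐ[R] E) (hg : σ.comp g = i.pt) : i ≤ of E σ := by
  refine ⟨(toOf E σ).comp (Loc.map i.pt σ g hg), ?_⟩
  ext x
  simp only [AlgHom.coe_comp, Function.comp_apply]
  rw [locPt_toOf, Loc.pt_map]

instance : IsDirectedOrder (EtPt R K) where
  directed i j := by
    have : Algebra.Etale R (i.Ring ⊗[R] j.Ring) := Algebra.Etale.comp R i.Ring _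
    let σ : i.Ring ⊗[R] j.Ring →ₐ[R] K := Algebra.TensorProduct.productMap i.pt j.pt
    refine ⟨of (i.Ring ⊗[R] j.Ring) σ, ?_, ?_⟩
    · apply le_of_algHom (i.Ring ⊗[R] j.Ring) σ Algebra.TensorProduct.includeLeft
      ext x; simp [σ]
    · apply le_of_algHom (i.Ring ⊗[R] j.Ring) σ Algebra.TensorProduct.includeRight
      ext x; simp [σ]

instance : Nonempty (EtPt R K) := ⟨of R (Algebra.ofId R K)⟩

end EtPt

end Groth.Agent.H8.Hens
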