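import Mathlib
import Groth.Agent.Lib.Helper8.Hens.EtaleLift

/-!
# Lifting finite étale algebras from the residue field (helper8)

* `etale_adjoinRoot_of_isUnit`, `isUnit_aeval_root_derivative`: `R[X]/(f)` is étale for monic `f`
  with separable reduction.
* `adjoinRootBaseChange`: `T ⊗[R] R[X]/(f) ≃ T[X]/(f)`.
* `exists_finite_etale_lift`: finite étale algebras over the residue field lift.
-/

universe u
open IsLocalRing Polynomial TensorProduct

namespace Groth.Agent.H8.Hens

/-- `R[X]/(f)` is étale when `f` is monic and `f'` is invertible modulo `f`. -/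
theorem etale_adjoinRoot_of_isUnit {R : Type u} [CommRing R] (f : R[X]) (hf : f.Monic)
    (hu : IsUnit (aeval (AdjoinRoot.root f) (derivative f))) :
    Algebra.Etale R (AdjoinRoot f) := by
  let P : StandardEtalePair R := ⟨f, hf, derivative f, ⟨1, 0, 1, by simp⟩⟩
  have hmap : P.HasMap (AdjoinRoot.root f) := ⟨AdjoinRoot.aeval_eq f ▸ AdjoinRoot.mk_self, hu⟩
  let φ : P.Ring →ₐ[R] AdjoinRoot f := P.lift (AdjoinRoot.root f) hmap
  let ψ : AdjoinRoot f →ₐ[R] P.Ring :=
    AdjoinRoot.liftAlgHom f (Algebra.ofId R P.Ring) P.X (by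
      have := P.hasMap_X.1
      rwa [aeval_def] at this)
  have h1 : φ.comp ψ = AlgHom.id R _ := by
    apply AdjoinRoot.algHom_ext
    simp [φ, ψ]
  have h2 : ψ.comp φ = AlgHom.id R _ := by
    apply P.hom_ext
    simp [φ, ψ]
  exact Algebra.Etale.of_equiv (AlgEquiv.ofAlgHom φ ψ h1 h2)

/-- A monic lift of a separable polynomial over the residue field has invertible derivative
modulo itself. -/
theorem isUnit_aeval_root_derivative {R : Type u} [CommRing R] [IsLocalRing R] (f : R[X])
    (hf : f.Monic) (hsep : (f.map (residue R)).Separable) :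
    IsUnit (aeval (AdjoinRoot.root f) (derivative f)) := by
  haveI : Module.Finite R (AdjoinRoot f) := hf.finite_adjoinRoot
  haveI : Algebra.IsIntegral R (AdjoinRoot f) := Algebra.IsIntegral.of_finite R _
  obtain ⟨a, b, hab⟩ := hsep
  obtain ⟨a', rfl⟩ := Polynomial.map_surjective (residue R) residue_surjective a
  obtain ⟨b', rfl⟩ := Polynomial.map_surjective (residue R) residue_surjective b
  set w : R[X] := a' * f + b' * derivative f - 1 with hw
  have hw0 : w.map (residue R) = 0 := by
    rw [hw, Polynomial.map_sub, Polynomial.map_add, Polynomial.map_mul, Polynomial.map_mul,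
      Polynomial.map_one, ← Polynomial.derivative_map, hab, sub_self]
  have hwc : ∀ i, w.coeff i ∈ maximalIdeal R := fun i => by
    rw [← residue_eq_zero_iff, ← Polynomial.coeff_map, hw0, coeff_zero]
  have hmem : AdjoinRoot.mk f w ∈ (maximalIdeal R).map (algebraMap R (AdjoinRoot f)) := by
    rw [w.as_sum_support_C_mul_X_pow, map_sum]
    refine Ideal.sum_mem _ fun i _ => ?_
    rw [map_mul]
    refine Ideal.mul_mem_right _ _ ?_
    exact Ideal.mem_map_of_mem _ (hwc i)
  have hjac := map_maximalIdeal_le_jacobson_bot (A := R) (AdjoinRoot f) hmem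
  have h3 : AdjoinRoot.mk f w = AdjoinRoot.mk f b' * AdjoinRoot.mk f (derivative f) - 1 := by
    rw [hw, map_sub, map_add, map_mul, map_mul, AdjoinRoot.mk_self, mul_zero, zero_add, map_one]
  have h4 : IsUnit (AdjoinRoot.mk f b' * AdjoinRoot.mk f (derivative f)) := by
    have := (Ideal.mem_jacobson_bot.mp hjac) 1
    rw [mul_one, h3, sub_add_cancel] at this
    exact this
  rw [AdjoinRoot.aeval_eq]
  exact isUnit_of_mul_isUnit_right h4

/-- Base change of `R[X]/(f)`. -/
noncomputable def adjoinRootBaseChange {R : Type*} [CommRing R] (T : Type*) [CommRing T]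
    [Algebra R T] (f : R[X]) :
    T ⊗[R] AdjoinRoot f ≃ₐ[T] AdjoinRoot (f.map (algebraMap R T)) := by
  let g := f.map (algebraMap R T)
  have h0 : eval₂ (Algebra.ofId R (AdjoinRoot g) : R →+* AdjoinRoot g) (AdjoinRoot.root g) f = 0 := by
    have : (Algebra.ofId R (AdjoinRoot g) : R →+* AdjoinRoot g) =
        (AdjoinRoot.of g).comp (algebraMap R T) := rfl
    rw [this, ← Polynomial.eval₂_map]
    exact AdjoinRoot.eval₂_root g
  let φ : T ⊗[R] AdjoinRoot f →ₐ[T] AdjoinRoot g :=
    Algebra.TensorProduct.lift (Algebra.ofId T (AdjoinRoot g))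
      (AdjoinRoot.liftAlgHom f (Algebra.ofId R (AdjoinRoot g)) (AdjoinRoot.root g) h0)
      (fun _ _ => Commute.all _ _)
  have h0' : eval₂ (Algebra.ofId T (T ⊗[R] AdjoinRoot f) : T →+* T ⊗[R] AdjoinRoot f)
      ((1 : T) ⊗ₜ[R] AdjoinRoot.root f) g = 0 := by
    show eval₂ _ _ (f.map (algebraMap R T)) = 0
    rw [Polynomial.eval₂_map]
    have : ((Algebra.ofId T (T ⊗[R] AdjoinRoot f) : T →+* T ⊗[R] AdjoinRoot f).comp
        (algebraMap R T)) = algebraMap R (T ⊗[R] AdjoinRoot f) := by
      ext r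
      simp [Algebra.TensorProduct.algebraMap_apply]
    rw [this, ← aeval_def]
    have h5 := Polynomial.aeval_algHom_apply
      (Algebra.TensorProduct.includeRight : AdjoinRoot f →ₐ[R] T ⊗[R] AdjoinRoot f)
      (AdjoinRoot.root f) f
    rw [Algebra.TensorProduct.includeRight_apply] at h5
    rw [h5, AdjoinRoot.aeval_eq, AdjoinRoot.mk_self, map_zero]
  let ψ : AdjoinRoot g →ₐ[T] T ⊗[R] AdjoinRoot f :=
    AdjoinRoot.liftAlgHom g (Algebra.ofId T _) ((1 : T) ⊗ₜ[R] AdjoinRoot.root f) h0'
  have hψ : ψ (AdjoinRoot.root g) = (1 : T) ⊗ₜ[R] AdjoinRoot.root f :=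
    AdjoinRoot.liftAlgHom_root _ _ _ _
  have hφ : φ ((1 : T) ⊗ₜ[R] AdjoinRoot.root f) = AdjoinRoot.root g := by
    show Algebra.TensorProduct.lift _ _ _ _ = _
    rw [Algebra.TensorProduct.lift_tmul, map_one, one_mul, AdjoinRoot.liftAlgHom_root]
  refine AlgEquiv.ofAlgHom φ ψ ?_ ?_
  · apply AdjoinRoot.algHom_ext
    show φ (ψ (AdjoinRoot.root g)) = AdjoinRoot.root g
    rw [hψ, hφ]
  · apply Algebra.TensorProduct.ext
    · ext
    · apply AdjoinRoot.algHom_ext
      show ψ (φ ((1 : T) ⊗ₜ[R] AdjoinRoot.root f)) = (1 : T) ⊗ₜ[R] AdjoinRoot.root f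
      rw [hφ, hψ]

/-- A finite separable field extension is `κ[X]/(p)` for a monic separable `p`. -/
theorem exists_algEquiv_adjoinRoot_of_isSeparable (K : Type u) [Field K] (L : Type u) [Field L]
    [Algebra K L] [FiniteDimensional K L] [Algebra.IsSeparable K L] :
    ∃ p : K[X], p.Monic ∧ p.Separable ∧ Nonempty (AdjoinRoot p ≃ₐ[K] L) := by
  obtain ⟨α, hα⟩ := Field.exists_primitive_element K L
  have hint : IsIntegral K α := Algebra.IsIntegral.isIntegral α
  refine ⟨minpoly K α, minpoly.monic hint, Algebra.IsSeparable.isSeparable K α, ⟨?_⟩⟩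
  exact ((IntermediateField.adjoinRootEquivAdjoin K hint).trans
    (IntermediateField.equivOfEq hα)).trans IntermediateField.topEquiv

/-- Finite étale algebras over the residue field of a local ring lift to finite étale algebras. -/
theorem exists_finite_etale_lift (R : Type u) [CommRing R] [IsLocalRing R] (A : Type u)
    [CommRing A] [Algebra (ResidueField R) A] [Module.Finite (ResidueField R) A]
    [Algebra.Etale (ResidueField R) A] :
    ∃ (S : Type u) (_ : CommRing S) (_ : Algebra R S), Module.Finite R S ∧ Algebra.Etale R S ∧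
      Nonempty (ResidueField R ⊗[R] S ≃ₐ[ResidueField R] A) := by
  classical
  set κ := ResidueField R
  obtain ⟨I, hI, L, _, _, e, hL⟩ :=
    (Algebra.Etale.iff_exists_algEquiv_prod κ A).mp inferInstance
  haveI := hI
  haveI := Fintype.ofFinite I
  have key : ∀ i, ∃ P : R[X], P.Monic ∧ (P.map (residue R)).Separable ∧
      Nonempty (AdjoinRoot (P.map (residue R)) ≃ₐ[κ] L i) := by
    intro i
    haveI := (hL i).1
    haveI := (hL i).2
    obtain ⟨p, hpm, hps, ⟨ep⟩⟩ := exists_algEquiv_adjoinRoot_of_isSeparable κ (L i)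
    have hlift : p ∈ lifts (residue R) :=
      (Polynomial.mem_lifts p).mpr (Polynomial.map_surjective _ residue_surjective p)
    obtain ⟨P, hP, -, hPm⟩ := Polynomial.lifts_and_natDegree_eq_and_monic hlift hpm
    exact ⟨P, hPm, hP ▸ hps, ⟨hP ▸ ep⟩⟩
  choose P hPm hPs eP using key
  let S : Type u := ∀ i, AdjoinRoot (P i)
  haveI : ∀ i, Module.Finite R (AdjoinRoot (P i)) := fun i => (hPm i).finite_adjoinRoot
  haveI : ∀ i, Algebra.Etale R (AdjoinRoot (P i)) := fun i =>
    etale_adjoinRoot_of_isUnit (P i) (hPm i) (isUnit_aeval_root_derivative (P i) (hPm i) (hPs i))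
  refine ⟨S, inferInstance, inferInstance, inferInstance, inferInstance, ⟨?_⟩⟩
  refine (Algebra.TensorProduct.piRight R κ κ (fun i => AdjoinRoot (P i))).trans ?_
  refine (AlgEquiv.piCongrRight fun i => ?_).trans e.symm
  exact (adjoinRootBaseChange κ (P i)).trans (eP i).some

end Groth.Agent.H8.Hens
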