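import Mathlib
import Groth.Agent.Lib.Helper8.Hens.Strict

/-!
# Henselizations are formally étale (helper8)
-/

universe u v
open IsLocalRing

namespace Groth.Agent.H8.Hens

namespace H

variable {R K : Type u} [CommRing R] [Field K] [Algebra R K]

section Glue

variable {B : Type v} [CommRing B] [Algebra R B] (g : ∀ i : EtPt R K, i.Loc →ₐ[R] B)
  (hg : ∀ (i j : EtPt R K) (h : i ≤ j) (x : i.Loc), g j (EtPt.trans h x) = g i x)

/-- Glue a compatible family of maps out of the stages (ring map). -/
noncomputable def glueR : H R K →+* B :=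
  Ring.DirectLimit.lift _ _ B (fun i => (g i).toRingHom) (fun i j hij x => hg i j hij x)

theorem glueR_of (i : EtPt R K) (x : i.Loc) : glueR g hg (of i x) = g i x :=
  Ring.DirectLimit.lift_of _ _ _ _ _

/-- Glue a compatible family of algebra maps out of the stages. -/
noncomputable def glue : H R K →ₐ[R] B :=
  { glueR g hg with
    commutes' := fun r => by
      show glueR g hg (algebraMap R (H R K) r) = _
      rw [algebraMap_eq (Classical.arbitrary _) r, glueR_of]
      exact (g _).commutes r }

@[simp]
theorem glue_of (i : EtPt R K) (x : i.Loc) : glue g hg (of i x) = g i x :=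
  glueR_of g hg i x

end Glue

theorem algHom_ext' {B : Type v} [Semiring B] [Algebra R B] {g₁ g₂ : H R K →ₐ[R] B}
    (h : ∀ i : EtPt R K, g₁.comp (ofₐ i) = g₂.comp (ofₐ i)) : g₁ = g₂ := by
  ext z
  obtain ⟨i, x, rfl⟩ := exists_of z
  exact congrArg (fun w => w x) (h i)

instance formallyEtale : Algebra.FormallyEtale R (H R K) := by
  rw [Algebra.FormallyEtale.iff_comp_bijective]
  intro B _ _ I hI
  constructor
  · intro g₁ g₂ h
    apply algHom_ext'
    intro i
    apply (Algebra.FormallyEtale.comp_bijective R i.Loc I hI).1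
    show (Ideal.Quotient.mkₐ R I).comp (g₁.comp (ofₐ i)) = (Ideal.Quotient.mkₐ R I).comp (g₂.comp (ofₐ i))
    rw [← AlgHom.comp_assoc, ← AlgHom.comp_assoc]
    exact congrArg (fun w => w.comp (ofₐ i)) h
  · intro f
    have hex : ∀ i : EtPt R K, ∃ gi : i.Loc →ₐ[R] B,
        (Ideal.Quotient.mkₐ R I).comp gi = f.comp (ofₐ i) := fun i =>
      (Algebra.FormallyEtale.comp_bijective R i.Loc I hI).2 _
    choose g hgf using hex
    have hg : ∀ (i j : EtPt R K) (h : i ≤ j) (x : i.Loc), g j (EtPt.trans h x) = g i x := by
      intro i j h x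
      have : (g j).comp (EtPt.trans h) = g i := by
        apply (Algebra.FormallyEtale.comp_bijective R i.Loc I hI).1
        show (Ideal.Quotient.mkₐ R I).comp ((g j).comp (EtPt.trans h)) =
          (Ideal.Quotient.mkₐ R I).comp (g i)
        rw [← AlgHom.comp_assoc, hgf, hgf]
        ext y
        simp only [AlgHom.coe_comp, Function.comp_apply, ofₐ_apply, of_trans]
      exact congrArg (fun w => w x) this
    refine ⟨glue g hg, ?_⟩
    apply algHom_ext'
    intro i
    rw [← hgf i]
    ext x
    simp only [AlgHom.coe_comp, Function.comp_apply, ofₐ_apply, glue_of]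

end H

variable {R : Type u} [CommRing R] [IsLocalRing R] (S : Type u) [CommRing S] [IsLocalRing S]
  [Algebra R S] [IsLocalHom (algebraMap R S)]

theorem formallyEtale_of_isHenselization [Hensel.IsHenselization R S] :
    Algebra.FormallyEtale R S :=
  Algebra.FormallyEtale.of_equiv (algEquiv (R := R) S)

theorem formallyEtale_of_isStrictHenselization [Hensel.IsStrictHenselization R S] :
    Algebra.FormallyEtale R S :=
  Algebra.FormallyEtale.of_equiv (algEquivStrict (R := R) S)

end Groth.Agent.H8.Hens
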