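import Mathlib
import Groth.Agent.Lib.Helper8.Hens.EtaleLift

/-!
# Solutions of étale systems over strictly henselian local rings (helper8)
-/

universe u
open IsLocalRing Polynomial TensorProduct

namespace Groth.Agent.H8.Hens

/-- A map from an étale algebra over a separably closed field `K` to a field extension of `K`
factors through `K`. -/
theorem exists_algHom_factor_of_isSepClosed (K : Type u) [Field K] [IsSepClosed K] (B₀ : Type u)
    [CommRing B₀] [Algebra K B₀] [Algebra.Etale K B₀] (L : Type*) [Field L] [Algebra K L]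
    (g : B₀ →ₐ[K] L) :
    ∃ g₀ : B₀ →ₐ[K] K, ∀ y, g y = algebraMap K L (g₀ y) := by
  classical
  let e : B₀ ≃ₐ[K] (PrimeSpectrum B₀ → K) := Algebra.FormallyEtale.equivPiOfIsSepClosed K B₀
  haveI : Module.Finite K B₀ := Algebra.FormallyUnramified.finite_of_free K B₀
  haveI : IsArtinianRing B₀ := isArtinian_of_tower K inferInstance
  haveI : Fintype (PrimeSpectrum B₀) := Fintype.ofFinite _
  let g' : (PrimeSpectrum B₀ → K) →ₐ[K] L := g.comp e.symm.toAlgHom
  let δ : PrimeSpectrum B₀ → (PrimeSpectrum B₀ → K) := fun i => Pi.single i 1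
  have hδ : CompleteOrthogonalIdempotents δ := CompleteOrthogonalIdempotents.single _
  obtain ⟨j, hj⟩ : ∃ j, g' (δ j) = 1 := by
    by_contra hcon
    push Not at hcon
    have h0 : ∀ i, g' (δ i) = 0 := fun i =>
      (IsIdempotentElem.iff_eq_zero_or_one.mp ((hδ.idem i).map g')).resolve_right (hcon i)
    have := congrArg g' hδ.complete
    rw [map_sum, map_one, Finset.sum_eq_zero (fun i _ => h0 i)] at this
    exact zero_ne_one this
  let pj : (PrimeSpectrum B₀ → K) →ₐ[K] K := Pi.evalAlgHom K (fun _ => K) j
  refine ⟨pj.comp e.toAlgHom, fun y => ?_⟩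
  have hy : g y = g' (e y) := by simp [g']
  rw [hy]
  set z := e y
  show g' z = algebraMap K L (z j)
  have h1 : z * δ j = (z j) • δ j := by
    ext k
    by_cases hk : k = j
    · subst hk; simp [δ]
    · simp [δ, Pi.single_eq_of_ne hk]
  calc g' z = g' z * g' (δ j) := by rw [hj, mul_one]
    _ = g' (z * δ j) := (map_mul g' _ _).symm
    _ = g' ((z j) • δ j) := by rw [h1]
    _ = algebraMap K L (z j) := by rw [map_smul, hj, Algebra.smul_def, mul_one]

end Groth.Agent.H8.Hens

namespace Groth.Agent.H8.Hens

open MvPolynomial in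
/-- Solutions of an étale square system over strictly henselian local rings are insensitive to
local base change. -/
theorem bijOn_solutions_of_etale (R : Type u) [CommRing R]
    [HenselianLocalRing R] [IsSepClosed (ResidueField R)] (S : Type u) [CommRing S]
    [HenselianLocalRing S] (φ : R →+* S) [IsLocalHom φ] (n : ℕ)
    (P : Fin n → MvPolynomial (Fin n) R)
    [Algebra.Etale R (MvPolynomial (Fin n) R ⧸ Ideal.span (Set.range P))] :
    Set.BijOn (fun r : Fin n → R => φ ∘ r)
      {r : Fin n → R | ∀ i, MvPolynomial.eval r (P i) = 0}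
      {s : Fin n → S | ∀ i, MvPolynomial.eval s (MvPolynomial.map φ (P i)) = 0} := by
  classical
  letI : Algebra R S := φ.toAlgebra
  haveI : IsLocalHom (algebraMap R S) := ‹IsLocalHom φ›
  set B := MvPolynomial (Fin n) R ⧸ Ideal.span (Set.range P) with hB
  -- algebra maps out of `B`
  have hlift : ∀ (T : Type u) [CommRing T] [Algebra R T] (t : Fin n → T)
      (_ : ∀ i, MvPolynomial.aeval t (P i) = 0),
      ∃ v : B →ₐ[R] T, ∀ i, v (Ideal.Quotient.mk _ (X i)) = t i := by
    intro T _ _ t ht
    refine ⟨Ideal.Quotient.liftₐ _ (MvPolynomial.aeval t) ?_, fun i => ?_⟩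
    · intro q hq
      have hle : Ideal.span (Set.range P) ≤ RingHom.ker (MvPolynomial.aeval t : _ →ₐ[R] T).toRingHom := by
        rw [Ideal.span_le]
        rintro _ ⟨i, rfl⟩
        exact ht i
      exact hle hq
    · show MvPolynomial.aeval t (X i) = t i
      rw [MvPolynomial.aeval_X]
  have hsol : ∀ (T : Type u) [CommRing T] [Algebra R T] (v : B →ₐ[R] T) (i : Fin n),
      MvPolynomial.aeval (fun k => v (Ideal.Quotient.mk _ (X k))) (P i) = 0 := by
    intro T _ _ v i
    let w : MvPolynomial (Fin n) R →ₐ[R] T := v.comp (Ideal.Quotient.mkₐ R _)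
    have h1 : w = MvPolynomial.aeval (fun k => v (Ideal.Quotient.mk _ (X k))) :=
      MvPolynomial.aeval_unique w
    rw [← h1]
    show v (Ideal.Quotient.mk _ (P i)) = 0
    have h2 : Ideal.Quotient.mk (Ideal.span (Set.range P)) (P i) = 0 :=
      Ideal.Quotient.eq_zero_iff_mem.mpr (Ideal.subset_span ⟨i, rfl⟩)
    rw [h2, map_zero]
  have hvext : ∀ (T : Type u) [CommRing T] [Algebra R T] (v v' : B →ₐ[R] T),
      (∀ i, v (Ideal.Quotient.mk _ (X i)) = v' (Ideal.Quotient.mk _ (X i))) → v = v' := by
    intro T _ _ v v' h
    apply Ideal.Quotient.algHom_ext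
    apply MvPolynomial.algHom_ext
    intro i
    exact h i
  have haevR : ∀ (r : Fin n → R) (q : MvPolynomial (Fin n) R),
      MvPolynomial.aeval r q = MvPolynomial.eval r q := fun r q => rfl
  have haevS : ∀ (s : Fin n → S) (q : MvPolynomial (Fin n) R),
      MvPolynomial.aeval s q = MvPolynomial.eval s (MvPolynomial.map φ q) := by
    intro s q
    rw [MvPolynomial.eval_map, MvPolynomial.aeval_def]
    rfl
  refine ⟨?_, ?_, ?_⟩
  · intro r hr i
    show MvPolynomial.eval (φ ∘ r) (MvPolynomial.map φ (P i)) = 0
    rw [MvPolynomial.eval_map]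
    have h1 := MvPolynomial.eval₂_comp_left φ (RingHom.id R) r (P i)
    rw [RingHom.comp_id] at h1
    rw [← h1]
    have : MvPolynomial.eval₂ (RingHom.id R) r (P i) = MvPolynomial.eval r (P i) := rfl
    rw [this, hr i, map_zero]
  · intro r hr r' hr' hrr'
    obtain ⟨v, hv⟩ := hlift R r (fun i => (haevR r _).trans (hr i))
    obtain ⟨v', hv'⟩ := hlift R r' (fun i => (haevR r' _).trans (hr' i))
    have hres : ∀ i, residue R (r i) = residue R (r' i) := by
      intro i
      apply (ResidueField.map φ).injective
      rw [ResidueField.map_residue, ResidueField.map_residue]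
      exact congrArg (residue S) (congrFun hrr' i)
    have hvv' : v = v' := by
      have h2 : (IsScalarTower.toAlgHom R R (ResidueField R)).comp v =
          (IsScalarTower.toAlgHom R R (ResidueField R)).comp v' := by
        apply hvext
        intro i
        show residue R (v _) = residue R (v' _)
        rw [hv, hv', hres]
      apply algHom_ext_of_sub_mem_maximalIdeal
      intro x
      rw [← residue_eq_zero_iff, map_sub, sub_eq_zero]
      exact DFunLike.congr_fun h2 x
    funext i
    rw [← hv i, ← hv' i, hvv']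
  · intro s hs
    obtain ⟨v, hv⟩ := hlift S s (fun i => (haevS s _).trans (hs i))
    -- the point in the residue field of `S`
    letI : Algebra (ResidueField R) (ResidueField S) := (ResidueField.map φ).toAlgebra
    haveI : IsScalarTower R (ResidueField R) (ResidueField S) :=
      IsScalarTower.of_algebraMap_eq (fun r => (ResidueField.map_residue φ r).symm)
    have hintro : True := trivial
    let σ : B →ₐ[R] ResidueField S := (IsScalarTower.toAlgHom R S (ResidueField S)).comp v
    let σ' : ResidueField R ⊗[R] B →ₐ[ResidueField R] ResidueField S :=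
      Algebra.TensorProduct.lift (Algebra.ofId _ _) σ (fun _ _ => Commute.all _ _)
    obtain ⟨g₀, hg₀⟩ := exists_algHom_factor_of_isSepClosed (ResidueField R)
      (ResidueField R ⊗[R] B) (ResidueField S) σ'
    let σ₀ : B →ₐ[R] ResidueField R :=
      (g₀.restrictScalars R).comp Algebra.TensorProduct.includeRight
    have hσ₀ : ∀ x, ResidueField.map φ (σ₀ x) = σ x := by
      intro x
      have := hg₀ ((1 : ResidueField R) ⊗ₜ[R] x)
      simp only [σ', Algebra.TensorProduct.lift_tmul, map_one, one_mul] at this
      rw [this]; rfl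
    obtain ⟨u, hu⟩ := exists_algHom_of_henselian σ₀ (AlgHom.id R (ResidueField R)) (T := R)
    refine ⟨fun i => u (Ideal.Quotient.mk _ (X i)), ?_, ?_⟩
    · intro i
      exact (haevR _ _).symm.trans (hsol R u i)
    · have huv : (Algebra.ofId R S).comp u = v := by
        apply algHom_ext_of_sub_mem_maximalIdeal
        intro x
        rw [← residue_eq_zero_iff, map_sub, sub_eq_zero]
        show residue S (φ (u x)) = residue S (v x)
        rw [← ResidueField.map_residue, hu, AlgHom.id_apply, hσ₀]
        rfl
      funext i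
      show φ (u (Ideal.Quotient.mk _ (X i))) = s i
      rw [← hv i, ← huv]
      rfl

end Groth.Agent.H8.Hens
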