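import Mathlib
import Groth.Agent.Lib.Helper8.Hens.EtaleSolutions
import Groth.Agent.Lib.Helper8.Hens.Pointed

universe u
open IsLocalRing Polynomial TensorProduct

namespace Groth.Agent.H8.Hens.StrictSec

/-- Over a strictly henselian local ring, every prime of an étale algebra over the maximal ideal
is the pullback of the maximal ideal along a section. -/
theorem exists_algHom_comap_eq (A : Type u) [CommRing A] [HenselianLocalRing A]
    [IsSepClosed (ResidueField A)] (B : Type u) [CommRing B] [Algebra A B] [Algebra.Etale A B]
    (q : Ideal B) [q.IsPrime] (hq : q.comap (algebraMap A B) = maximalIdeal A) :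
    ∃ g : B →ₐ[A] A, (maximalIdeal A).comap g.toRingHom = q := by
  let L := q.ResidueField
  have hker : ∀ a ∈ maximalIdeal A, algebraMap A L a = 0 := by
    intro a ha
    rw [IsScalarTower.algebraMap_apply A B L, Ideal.algebraMap_residueField_eq_zero]
    rw [← hq] at ha
    exact ha
  letI : Algebra (ResidueField A) L :=
    (Ideal.Quotient.lift (maximalIdeal A) (algebraMap A L) hker).toAlgebra
  haveI : IsScalarTower A (ResidueField A) L := IsScalarTower.of_algebraMap_eq fun a => rfl
  let g : (ResidueField A ⊗[A] B) →ₐ[ResidueField A] L :=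
    Algebra.TensorProduct.lift (Algebra.ofId _ _) (IsScalarTower.toAlgHom A B L)
      (fun _ _ => Commute.all _ _)
  obtain ⟨g₀, hg₀⟩ := exists_algHom_factor_of_isSepClosed (ResidueField A)
    (ResidueField A ⊗[A] B) L g
  let σ : B →ₐ[A] ResidueField A :=
    (g₀.restrictScalars A).comp (Algebra.TensorProduct.includeRight)
  have hσ : ∀ b, algebraMap (ResidueField A) L (σ b) = algebraMap B L b := by
    intro b
    have := hg₀ ((1 : ResidueField A) ⊗ₜ[A] b)
    have h2 : σ b = g₀ ((1 : ResidueField A) ⊗ₜ[A] b) := rfl
    rw [h2, ← this]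
    simp [g]
  obtain ⟨s, hs⟩ := exists_algHom_of_henselian (R := A) (E := B) (K := ResidueField A) σ
    (T := A) (AlgHom.id A _)
  refine ⟨s, ?_⟩
  ext b
  rw [Ideal.mem_comap]
  change s b ∈ maximalIdeal A ↔ _
  rw [← residue_eq_zero_iff, hs b, AlgHom.id_apply,
    ← (algebraMap (ResidueField A) L).injective.eq_iff, hσ b, map_zero,
    Ideal.algebraMap_residueField_eq_zero]

/-- If every prime of an étale algebra over the maximal ideal is the pullback of the maximal ideal
along a section, standard étale equations with a solution in a residue field extension have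
solutions. -/
theorem exists_root_of_sections (A : Type u) [CommRing A] [IsLocalRing A]
    (H : ∀ (B : Type u) [CommRing B] [Algebra A B] [Algebra.Etale A B] (q : Ideal B) [q.IsPrime],
      q.comap (algebraMap A B) = maximalIdeal A →
        ∃ g : B →ₐ[A] A, (maximalIdeal A).comap g.toRingHom = q)
    (P : StandardEtalePair A) (K : Type u) [Field K] [Algebra A K] [Algebra (ResidueField A) K]
    [IsScalarTower A (ResidueField A) K] (x : K) (hx : P.HasMap x) :
    ∃ a : A, P.f.eval a = 0 ∧ ∀ r : A[X], aeval x r = 0 → r.eval a ∈ maximalIdeal A := by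
  let σ₀ : P.Ring →ₐ[A] K := P.lift x hx
  haveI : (RingHom.ker σ₀).IsPrime := RingHom.ker_isPrime _
  have hq : (RingHom.ker σ₀).comap (algebraMap A P.Ring) = maximalIdeal A := by
    ext a
    rw [Ideal.mem_comap, RingHom.mem_ker, AlgHom.commutes,
      IsScalarTower.algebraMap_apply A (ResidueField A) K,
      (algebraMap (ResidueField A) K).injective.eq_iff' (map_zero _)]
    exact residue_eq_zero_iff a
  obtain ⟨g, hg⟩ := H P.Ring (RingHom.ker σ₀) hq
  refine ⟨g P.X, ?_, ?_⟩
  · have h1 : aeval P.X P.f = 0 := P.hasMap_X.1
    have h2 : g (aeval P.X P.f) = aeval (g P.X) P.f := (Polynomial.aeval_algHom_apply g P.X P.f).symm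
    rw [← Polynomial.coe_aeval_eq_eval, ← h2, h1, map_zero]
  · intro r hr
    have h1 : aeval P.X r ∈ RingHom.ker σ₀ := by
      rw [RingHom.mem_ker]
      have : σ₀ (aeval P.X r) = aeval (σ₀ P.X) r := (Polynomial.aeval_algHom_apply σ₀ P.X r).symm
      rw [this, P.lift_X x hx, hr]
    rw [← hg, Ideal.mem_comap] at h1
    have h2 : g (aeval P.X r) = aeval (g P.X) r := (Polynomial.aeval_algHom_apply g P.X r).symm
    change g (aeval P.X r) ∈ _ at h1
    rw [h2, Polynomial.coe_aeval_eq_eval] at h1
    exact h1

theorem henselian_and_isSepClosed_of_sections (A : Type u) [CommRing A] [IsLocalRing A]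
    (H : ∀ (B : Type u) [CommRing B] [Algebra A B] [Algebra.Etale A B] (q : Ideal B) [q.IsPrime],
      q.comap (algebraMap A B) = maximalIdeal A →
        ∃ g : B →ₐ[A] A, (maximalIdeal A).comap g.toRingHom = q) :
    HenselianLocalRing A ∧ IsSepClosed (ResidueField A) := by
  constructor
  · refine ⟨fun f hf a₀ h1 h2 => ?_⟩
    let P : StandardEtalePair A :=
      { f := f, monic_f := hf, g := derivative f, cond := ⟨1, 0, 1, by simp⟩ }
    have hx : P.HasMap (residue A a₀) := by
      refine ⟨?_, ?_⟩
      · show aeval (residue A a₀) f = 0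
        have : aeval (residue A a₀) f = residue A (f.eval a₀) := by
          rw [← Polynomial.coe_aeval_eq_eval]
          exact Polynomial.aeval_algHom_apply (IsScalarTower.toAlgHom A A (ResidueField A)) a₀ f
        rw [this]
        exact (residue_eq_zero_iff _).mpr h1
      · show IsUnit (aeval (residue A a₀) (derivative f))
        have : aeval (residue A a₀) (derivative f) = residue A ((derivative f).eval a₀) := by
          rw [← Polynomial.coe_aeval_eq_eval]
          exact Polynomial.aeval_algHom_apply (IsScalarTower.toAlgHom A A (ResidueField A)) a₀ _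
        rw [this]
        exact h2.map _
    obtain ⟨a, ha, har⟩ := exists_root_of_sections A H P (ResidueField A) (residue A a₀) hx
    refine ⟨a, ha, ?_⟩
    have := har (X - C a₀) (by simp)
    simpa using this
  · apply IsSepClosed.of_exists_root
    intro p hpm hpi hps
    obtain ⟨F, hF, -, hFm⟩ := Polynomial.lifts_and_degree_eq_and_monic
      (p := p) (f := residue A) (by
        rw [Polynomial.lifts_iff_coeff_lifts]
        intro n
        exact Ideal.Quotient.mk_surjective _) hpm
    haveI : Fact (Irreducible p) := ⟨hpi⟩
    let K := AdjoinRoot p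
    let P : StandardEtalePair A :=
      { f := F, monic_f := hFm, g := derivative F, cond := ⟨1, 0, 1, by simp⟩ }
    have hx : P.HasMap (AdjoinRoot.root p) := by
      refine ⟨?_, ?_⟩
      · show aeval (AdjoinRoot.root p) F = 0
        rw [← Polynomial.aeval_map_algebraMap (ResidueField A)]
        have : F.map (algebraMap A (ResidueField A)) = p := hF
        rw [this]
        exact AdjoinRoot.eval₂_root p
      · show IsUnit (aeval (AdjoinRoot.root p) (derivative F))
        rw [← Polynomial.aeval_map_algebraMap (ResidueField A), ← Polynomial.derivative_map]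
        have : F.map (algebraMap A (ResidueField A)) = p := hF
        rw [this]
        obtain ⟨a, b, hab⟩ := hps
        have h1 := congrArg (aeval (AdjoinRoot.root p)) hab
        rw [map_add, map_mul, map_mul, map_one] at h1
        have h0 : aeval (AdjoinRoot.root p) p = 0 := AdjoinRoot.eval₂_root p
        rw [h0, mul_zero, zero_add] at h1
        exact IsUnit.of_mul_eq_one _ (by rw [mul_comm]; exact h1)
    obtain ⟨a, ha, -⟩ := exists_root_of_sections A H P K (AdjoinRoot.root p) hx
    refine ⟨residue A a, ?_⟩
    have h1 : p.eval (residue A a) = residue A (F.eval a) := by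
      rw [← hF, Polynomial.eval_map, Polynomial.eval₂_hom]
    rw [h1]
    show residue A (P.f.eval a) = 0
    rw [ha, map_zero]

end Groth.Agent.H8.Hens.StrictSec
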