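import Mathlib
import Groth.Agent.Lib.Helper8.Hens.Pointed
import Groth.Agent.Lib.Helper8.Hens.Jacobian

/-!
# Multi-dimensional Hensel lemma for henselian local rings (helper8)
-/

universe u
open IsLocalRing Polynomial MvPolynomial Algebra

namespace Groth.Agent.H8.Hens

/-- Multi-dimensional Hensel lemma for henselian local rings. -/
theorem exists_solution_of_jacobian (A : Type u) [CommRing A] [HenselianLocalRing A] (n : ℕ)
    (P : Fin n → MvPolynomial (Fin n) A) (a₀ : Fin n → A)
    (h₀ : ∀ i, MvPolynomial.eval a₀ (P i) ∈ maximalIdeal A)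
    (hJ : IsUnit (Matrix.of (fun i j => MvPolynomial.eval a₀ (MvPolynomial.pderiv j (P i)))).det) :
    ∃ a : Fin n → A, (∀ i, MvPolynomial.eval a (P i) = 0) ∧
      ∀ j, a j - a₀ j ∈ maximalIdeal A := by
  classical
  set κ := ResidueField A
  let b₀ : Fin n → κ := fun i => residue A (a₀ i)
  let σ₀ : MvPolynomial (Fin n) A →ₐ[A] κ := MvPolynomial.aeval b₀
  have hσ₀ : ∀ q, σ₀ q = residue A (MvPolynomial.eval a₀ q) := by
    intro q
    show MvPolynomial.aeval b₀ q = _
    rw [MvPolynomial.aeval_def, MvPolynomial.eval, MvPolynomial.coe_eval₂Hom,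
      MvPolynomial.eval₂_comp_left (residue A)]
    rfl
  let σ₁ : JacQuot P →ₐ[A] κ := Ideal.Quotient.liftₐ _ σ₀ (by
    intro q hq
    have hle : Ideal.span (Set.range P) ≤ RingHom.ker σ₀.toRingHom := by
      rw [Ideal.span_le]
      rintro _ ⟨i, rfl⟩
      show σ₀ (P i) = 0
      rw [hσ₀, residue_eq_zero_iff]; exact h₀ i
    exact hle hq)
  have hσ₁ : ∀ q, σ₁ (Ideal.Quotient.mk _ q) = σ₀ q := fun q => rfl
  have hjac : σ₁ (jacPre P).jacobian ≠ 0 := by
    rw [jacPre_jacobian, hσ₁, hσ₀, Ne, residue_eq_zero_iff]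
    have : MvPolynomial.eval a₀ (jacDet P) =
        (Matrix.of (fun i j => MvPolynomial.eval a₀ (MvPolynomial.pderiv j (P i)))).det := by
      rw [jacDet, RingHom.map_det]
      rfl
    rw [this]
    exact fun hm => hm hJ
  let σ : JacAlg P →ₐ[A] κ :=
    IsLocalization.liftAlgHom (M := Submonoid.powers (jacPre P).jacobian) (f := σ₁) (by
      rintro ⟨_, k, rfl⟩
      rw [map_pow]
      exact (IsUnit.mk0 _ hjac).pow k)
  have hσ : ∀ y, σ (algebraMap (JacQuot P) (JacAlg P) y) = σ₁ y := fun y => by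
    simp [σ]
  obtain ⟨g, hg⟩ := exists_algHom_of_henselian σ (AlgHom.id A κ) (T := A)
  let φ : MvPolynomial (Fin n) A →ₐ[A] A :=
    g.comp ((IsScalarTower.toAlgHom A (JacQuot P) (JacAlg P)).comp (Ideal.Quotient.mkₐ A _))
  have hφ : ∀ q, φ q = MvPolynomial.eval (fun i => φ (MvPolynomial.X i)) q := by
    intro q
    have h1 := MvPolynomial.aeval_unique φ
    have h2 : φ q = MvPolynomial.aeval (φ ∘ MvPolynomial.X) q := by rw [← h1]
    rw [h2, MvPolynomial.aeval_def, MvPolynomial.eval, MvPolynomial.coe_eval₂Hom]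
    rfl
  refine ⟨fun i => φ (MvPolynomial.X i), ?_, ?_⟩
  · intro i
    rw [← hφ]
    show g (algebraMap (JacQuot P) (JacAlg P) (Ideal.Quotient.mk _ (P i))) = 0
    have : Ideal.Quotient.mk (Ideal.span (Set.range P)) (P i) = 0 :=
      Ideal.Quotient.eq_zero_iff_mem.mpr (Ideal.subset_span ⟨i, rfl⟩)
    rw [this, map_zero, map_zero]
  · intro j
    rw [← residue_eq_zero_iff, map_sub, sub_eq_zero]
    show residue A (g (algebraMap (JacQuot P) (JacAlg P) (Ideal.Quotient.mk _ (MvPolynomial.X j)))) = _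
    rw [hg, AlgHom.id_apply, hσ, hσ₁]
    show MvPolynomial.aeval b₀ (MvPolynomial.X j) = _
    rw [MvPolynomial.aeval_X]

/-- Simple roots of arbitrary (not necessarily monic) polynomials lift over henselian local rings. -/
theorem exists_root_of_simple_root (R : Type u) [CommRing R] [HenselianLocalRing R]
    (f : R[X]) (α : R) (h1 : f.eval α ∈ maximalIdeal R) (h2 : IsUnit (f.derivative.eval α)) :
    ∃ a : R, f.IsRoot a ∧ a - α ∈ maximalIdeal R := by
  let P : Fin 1 → MvPolynomial (Fin 1) R := fun _ => Polynomial.aeval (MvPolynomial.X (0 : Fin 1) : MvPolynomial (Fin 1) R) f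
  have hev : ∀ (g : R[X]) (a : Fin 1 → R),
      MvPolynomial.eval a (Polynomial.aeval (MvPolynomial.X (0 : Fin 1) : MvPolynomial (Fin 1) R) g) = g.eval (a 0) := by
    intro g a
    have := Polynomial.aeval_algHom_apply (MvPolynomial.aeval a : MvPolynomial (Fin 1) R →ₐ[R] R)
      (MvPolynomial.X (0 : Fin 1) : MvPolynomial (Fin 1) R) g
    rw [MvPolynomial.aeval_X] at this
    have h3 : MvPolynomial.eval a (Polynomial.aeval (MvPolynomial.X (0 : Fin 1) : MvPolynomial (Fin 1) R) g) =
        (MvPolynomial.aeval a : MvPolynomial (Fin 1) R →ₐ[R] R)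
          (Polynomial.aeval (MvPolynomial.X (0 : Fin 1) : MvPolynomial (Fin 1) R) g) := rfl
    rw [h3, ← this, Polynomial.coe_aeval_eq_eval]
  have hder : MvPolynomial.pderiv (0 : Fin 1) (Polynomial.aeval (MvPolynomial.X (0 : Fin 1) : MvPolynomial (Fin 1) R) f) =
      Polynomial.aeval (MvPolynomial.X (0 : Fin 1) : MvPolynomial (Fin 1) R) f.derivative := by
    rw [Derivation.map_aeval, MvPolynomial.pderiv_X_self, smul_eq_mul, mul_one]
  obtain ⟨a, ha1, ha2⟩ := exists_solution_of_jacobian R 1 P (fun _ => α)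
    (fun i => by rw [hev]; exact h1)
    (by
      rw [Matrix.det_fin_one]
      show IsUnit (MvPolynomial.eval (fun _ => α) (MvPolynomial.pderiv (0 : Fin 1) (P 0)))
      rw [hder, hev]; exact h2)
  refine ⟨a 0, ?_, ha2 0⟩
  have := ha1 0
  rwa [hev] at this

end Groth.Agent.H8.Hens
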