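import Mathlib

/-!
# Factorisations of polynomials over local rings (helper8)

* `exists_monic_mul_eq`: if `g` divides a monic polynomial over a local ring and its reduction is
  monic of degree `d`, then `(g)` contains a monic polynomial of degree `d`.
* `henselianLocalRing_of_factorization`: lifting of coprime factorisations implies henselian.
-/

universe u
open IsLocalRing Polynomial

namespace Groth.Agent.H8.Hens

/-- If `g` divides a monic polynomial over a local ring and the reduction of `g` is monic of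
degree `d`, then the ideal `(g)` contains a monic polynomial of degree `d`. -/
theorem exists_monic_mul_eq {R : Type u} [CommRing R] [IsLocalRing R] (f g : R[X]) (hf : f.Monic)
    (hgf : g ∣ f) (hg : (g.map (residue R)).Monic) :
    ∃ g₁ u : R[X], g₁.Monic ∧ g₁.natDegree = (g.map (residue R)).natDegree ∧ g₁ = g * u := by
  classical
  set g₀ := g.map (residue R) with hg₀
  set d := g₀.natDegree with hd
  let M := R[X] ⧸ Ideal.span {g}
  let π : R[X] →ₐ[R] M := Ideal.Quotient.mkₐ R _
  have hπ : Function.Surjective π := Ideal.Quotient.mkₐ_surjective R _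
  haveI : Module.Finite R (AdjoinRoot f) := hf.finite_adjoinRoot
  haveI : Module.Finite R M := by
    have hle : Ideal.span {f} ≤ Ideal.span {g} := by
      rw [Ideal.span_singleton_le_span_singleton]; exact hgf
    have : Module.Finite R (R[X] ⧸ Ideal.span {f}) := ‹Module.Finite R (AdjoinRoot f)›
    exact Module.Finite.of_surjective (Ideal.Quotient.factorₐ R hle).toLinearMap
      (Ideal.Quotient.factor_surjective hle)
  let N : Submodule R M := (degreeLT R d).map π.toLinearMap
  have hAll : (⊤ : Submodule R M) ≤ N ⊔ (maximalIdeal R • ⊤ : Submodule R M) := by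
    intro y _
    obtain ⟨p, rfl⟩ := hπ y
    obtain ⟨q, hq⟩ := Polynomial.map_surjective (residue R) residue_surjective
      (p.map (residue R) /ₘ g₀)
    have hr₀ : (p.map (residue R) %ₘ g₀) ∈ lifts (residue R) := by
      rw [Polynomial.mem_lifts]
      exact Polynomial.map_surjective (residue R) residue_surjective _
    obtain ⟨r, hr, hrdeg⟩ := Polynomial.exists_degree_eq_of_mem_lifts hr₀
    have hrlt : r.degree < d := by
      rw [hrdeg]
      calc (p.map (residue R) %ₘ g₀).degree < g₀.degree := degree_modByMonic_lt _ hg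
        _ = d := by rw [hd, degree_eq_natDegree hg.ne_zero]
    set s := p - g * q - r with hs
    have hs0 : s.map (residue R) = 0 := by
      rw [hs, Polynomial.map_sub, Polynomial.map_sub, Polynomial.map_mul, hq, hr, ← hg₀]
      have := Polynomial.modByMonic_add_div (p.map (residue R)) g₀
      rw [sub_sub, sub_eq_zero, add_comm]; exact this.symm
    have hscoeff : ∀ i, s.coeff i ∈ maximalIdeal R := by
      intro i
      rw [← residue_eq_zero_iff, ← Polynomial.coeff_map, hs0, coeff_zero]
    have hps : π p = π r + π s := by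
      have : π (g * q) = 0 := by
        show Ideal.Quotient.mk _ (g * q) = 0
        rw [Ideal.Quotient.eq_zero_iff_mem]
        exact Ideal.mul_mem_right _ _ (Ideal.mem_span_singleton_self g)
      rw [hs, map_sub, map_sub, this]; ring
    rw [hps]
    refine Submodule.add_mem_sup ?_ ?_
    · exact Submodule.mem_map_of_mem (Polynomial.mem_degreeLT.mpr hrlt)
    · rw [s.as_sum_support_C_mul_X_pow, map_sum]
      refine Submodule.sum_mem _ fun i _ => ?_
      rw [← Polynomial.smul_eq_C_mul, map_smul]
      exact Submodule.smul_mem_smul (hscoeff i) Submodule.mem_top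
  have hfinM : (⊤ : Submodule R M).FG := Module.finite_def.mp inferInstance
  have htop := Submodule.le_of_le_smul_of_le_jacobson_bot hfinM
    (IsLocalRing.maximalIdeal_le_jacobson ⊥) hAll
  obtain ⟨r, hr, hrX⟩ : ∃ r ∈ degreeLT R d, π r = π (X ^ d) := by
    have := htop (Submodule.mem_top : π (X ^ d) ∈ ⊤)
    obtain ⟨r, hr, hrX⟩ := Submodule.mem_map.mp this
    exact ⟨r, hr, hrX⟩
  have hmem : X ^ d - r ∈ Ideal.span {g} := by
    rw [← Ideal.Quotient.eq_zero_iff_mem]
    show π (X ^ d - r) = 0
    rw [map_sub, hrX, sub_self]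
  obtain ⟨u, hu⟩ := Ideal.mem_span_singleton'.mp hmem
  have hrdeg : r.degree < d := Polynomial.mem_degreeLT.mp hr
  refine ⟨X ^ d - r, u, monic_X_pow_sub hrdeg, ?_, by rw [← hu, mul_comm]⟩
  apply natDegree_eq_of_degree_eq_some
  rw [degree_sub_eq_left_of_degree_lt, degree_X_pow]
  rwa [degree_X_pow]

/-- Factorisation lifting (with no monicity requirement on the factors) implies henselian. -/
theorem henselianLocalRing_of_factorization (R : Type u) [CommRing R] [IsLocalRing R]
    (h : ∀ f : Polynomial R, f.Monic →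
      ∀ g₀ h₀ : Polynomial (IsLocalRing.ResidueField R), IsCoprime g₀ h₀ →
      Polynomial.map (IsLocalRing.residue R) f = g₀ * h₀ →
      ∃ g h : Polynomial R, f = g * h ∧ Polynomial.map (IsLocalRing.residue R) g = g₀ ∧
        Polynomial.map (IsLocalRing.residue R) h = h₀) :
    HenselianLocalRing R := by
  refine ⟨fun f hf a₀ h1 h2 => ?_⟩
  set κ := ResidueField R
  set b₀ : κ := residue R a₀ with hb₀
  set fb := f.map (residue R) with hfb
  have hfbm : fb.Monic := hf.map _
  have hroot : fb.IsRoot b₀ := by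
    show fb.eval b₀ = 0
    rw [hfb, Polynomial.eval_map, Polynomial.eval₂_at_apply, residue_eq_zero_iff]; exact h1
  set g₀ : κ[X] := X - C b₀ with hg₀
  set h₀ : κ[X] := fb /ₘ g₀ with hh₀
  have hfac : fb = g₀ * h₀ := (mul_divByMonic_eq_iff_isRoot.mpr hroot).symm
  have hg₀m : g₀.Monic := monic_X_sub_C b₀
  have hh₀m : h₀.Monic := hg₀m.of_mul_monic_left (hfac ▸ hfbm)
  have hh₀b : h₀.eval b₀ ≠ 0 := by
    have hd : (derivative fb).eval b₀ = h₀.eval b₀ := by
      rw [hfac, derivative_mul]
      simp [hg₀]
    rw [← hd, hfb, Polynomial.derivative_map, Polynomial.eval_map, Polynomial.eval₂_at_apply, Ne,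
      residue_eq_zero_iff]
    exact fun hm => hm h2
  have hcop : IsCoprime g₀ h₀ := by
    rw [(Polynomial.irreducible_X_sub_C b₀).coprime_iff_not_dvd, Polynomial.dvd_iff_isRoot]
    exact hh₀b
  obtain ⟨g, hh, hfgh, hgmap, hhmap⟩ := h f hf g₀ h₀ hcop hfac
  obtain ⟨g₁, u, hg₁m, hg₁d, hg₁⟩ :=
    exists_monic_mul_eq f g hf ⟨hh, hfgh⟩ (by rw [hgmap]; exact hg₀m)
  obtain ⟨h₁, v, hh₁m, hh₁d, hh₁⟩ :=
    exists_monic_mul_eq f hh hf ⟨g, by rw [hfgh, mul_comm]⟩ (by rw [hhmap]; exact hh₀m)
  rw [hgmap] at hg₁d
  rw [hhmap] at hh₁d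
  have hprod : g₁ * h₁ = f * (u * v) := by rw [hg₁, hh₁, hfgh]; ring
  have hdeg : (g₁ * h₁).natDegree = f.natDegree := by
    rw [hg₁m.natDegree_mul hh₁m, hg₁d, hh₁d, ← hg₀m.natDegree_mul hh₀m, ← hfac, hfb,
      hf.natDegree_map]
  have huv : u * v = 1 := by
    have hm : (f * (u * v)).Monic := hprod ▸ hg₁m.mul hh₁m
    have hne : u * v ≠ 0 := by
      intro h0
      rw [h0, mul_zero] at hm
      exact hm.ne_zero rfl
    have hd0 : (u * v).natDegree = 0 := by
      have := hf.natDegree_mul' hne
      rw [← hprod, hdeg] at this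
      omega
    obtain ⟨c, hc⟩ := natDegree_eq_zero.mp hd0
    have hlc : (f * (u * v)).leadingCoeff = 1 := hm
    rw [← hc, leadingCoeff_monic_mul hf, leadingCoeff_C] at hlc
    rw [← hc, hlc, C_1]
  rw [huv, mul_one] at hprod
  have hg₁X : g₁ = X + C (g₁.coeff 0) := hg₁m.eq_X_add_C (by rw [hg₁d, hg₀, natDegree_X_sub_C])
  set a : R := - g₁.coeff 0 with ha
  have hg₁a : g₁.eval a = 0 := by
    rw [hg₁X, ha]; simp
  refine ⟨a, ?_, ?_⟩
  · show f.eval a = 0
    rw [← hprod, eval_mul, hg₁a, zero_mul]
  · -- reduce mod `m`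
    have hred : (g₁.map (residue R)).eval b₀ = 0 := by
      rw [hg₁, Polynomial.map_mul, hgmap, eval_mul, hg₀]; simp
    rw [hg₁X] at hred
    simp only [Polynomial.map_add, Polynomial.map_X, Polynomial.map_C, eval_add, eval_X,
      eval_C] at hred
    rw [← residue_eq_zero_iff, map_sub, ha, map_neg, ← hb₀]
    linear_combination (-1 : ResidueField R) * hred

/-- A local ring over which étale algebras with a rational point over the closed point have
retractions is henselian. -/
theorem henselianLocalRing_of_etale_retraction (R : Type u) [CommRing R] [IsLocalRing R]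
    (h : ∀ (S : Type u) [CommRing S] [Algebra R S] [Algebra.Etale R S] (q : Ideal S) [q.IsPrime],
      q.LiesOver (IsLocalRing.maximalIdeal R) →
      Function.Surjective (algebraMap R q.ResidueField) → Nonempty (S →ₐ[R] R)) :
    HenselianLocalRing R := by
  refine ⟨fun f hf a₀ h1 h2 => ?_⟩
  set κ := ResidueField R
  set b₀ : κ := residue R a₀ with hb₀
  set fb := f.map (residue R) with hfb
  have hroot : fb.IsRoot b₀ := by
    show fb.eval b₀ = 0
    rw [hfb, Polynomial.eval_map, Polynomial.eval₂_at_apply, residue_eq_zero_iff]; exact h1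
  set g₀ : κ[X] := X - C b₀ with hg₀
  set h₀ : κ[X] := fb /ₘ g₀ with hh₀
  have hfac : fb = g₀ * h₀ := (mul_divByMonic_eq_iff_isRoot.mpr hroot).symm
  have hder : (derivative fb).eval b₀ ≠ 0 := by
    rw [hfb, Polynomial.derivative_map, Polynomial.eval_map, Polynomial.eval₂_at_apply, Ne,
      residue_eq_zero_iff]
    exact fun hm => hm h2
  have hh₀b : h₀.eval b₀ ≠ 0 := by
    have hd : (derivative fb).eval b₀ = h₀.eval b₀ := by
      rw [hfac, derivative_mul]
      simp [hg₀]
    rw [← hd]; exact hder
  obtain ⟨G, hG⟩ := Polynomial.map_surjective (residue R) residue_surjective h₀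
  let P : StandardEtalePair R :=
    { f := f, monic_f := hf, g := derivative f * G, cond := ⟨G, 0, 1, by ring⟩ }
  have haev : ∀ p : R[X], aeval b₀ p = (p.map (residue R)).eval b₀ := fun p => by
    rw [Polynomial.eval_map]; rfl
  have hmap : P.HasMap b₀ := by
    refine ⟨?_, ?_⟩
    · show aeval b₀ f = 0
      rw [haev]; exact hroot
    · show IsUnit (aeval b₀ (derivative f * G))
      rw [haev, Polynomial.map_mul, hG, ← Polynomial.derivative_map, eval_mul]
      exact (IsUnit.mk0 _ hder).mul (IsUnit.mk0 _ hh₀b)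
  let φ : P.Ring →ₐ[R] κ := P.lift b₀ hmap
  have hφ : Function.Surjective φ := fun y => by
    obtain ⟨r, rfl⟩ := residue_surjective y
    exact ⟨algebraMap R _ r, by rw [AlgHom.commutes]; rfl⟩
  let q : Ideal P.Ring := RingHom.ker φ.toRingHom
  haveI hqmax : q.IsMaximal := RingHom.ker_isMaximal_of_surjective _ hφ
  have hlo : q.LiesOver (maximalIdeal R) := by
    refine ⟨?_⟩
    ext r
    rw [Ideal.under_def, Ideal.mem_comap, RingHom.mem_ker]
    show _ ↔ φ (algebraMap R _ r) = 0
    rw [AlgHom.commutes]
    exact (residue_eq_zero_iff r).symm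
  have hsurj : Function.Surjective (algebraMap R q.ResidueField) := by
    intro y
    obtain ⟨z, rfl⟩ := (Ideal.bijective_algebraMap_quotient_residueField q).2 y
    obtain ⟨w, rfl⟩ := Ideal.Quotient.mk_surjective z
    obtain ⟨r, hr⟩ := residue_surjective (φ w)
    refine ⟨r, ?_⟩
    have : (Ideal.Quotient.mk q w) = algebraMap R (P.Ring ⧸ q) r := by
      rw [IsScalarTower.algebraMap_apply R P.Ring (P.Ring ⧸ q), Ideal.Quotient.algebraMap_eq,
        Ideal.Quotient.eq, RingHom.mem_ker]
      show φ (w - algebraMap R _ r) = 0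
      rw [map_sub, AlgHom.commutes, sub_eq_zero, ← hr]; rfl
    rw [this, ← IsScalarTower.algebraMap_apply]
  obtain ⟨s⟩ := h P.Ring q hlo hsurj
  have ha : P.HasMap (s P.X) := P.hasMap_X.map s
  set a : R := s P.X with haa
  have hfa : f.eval a = 0 := by
    have := ha.1
    rwa [Polynomial.coe_aeval_eq_eval] at this
  have hGa : IsUnit (G.eval a) := by
    have := ha.2
    rw [Polynomial.coe_aeval_eq_eval] at this
    have h3 : (derivative f * G).eval a = (derivative f).eval a * G.eval a := eval_mul
    rw [show P.g = derivative f * G from rfl, h3] at this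
    exact isUnit_of_mul_isUnit_right this
  refine ⟨a, hfa, ?_⟩
  rw [← residue_eq_zero_iff, map_sub, ← hb₀]
  have h4 : fb.eval (residue R a) = 0 := by
    rw [hfb, Polynomial.eval_map, Polynomial.eval₂_at_apply, hfa, map_zero]
  have h5 : h₀.eval (residue R a) ≠ 0 := by
    rw [← hG, Polynomial.eval_map, Polynomial.eval₂_at_apply, Ne, residue_eq_zero_iff]
    exact fun hm => hm hGa
  rw [hfac, eval_mul, hg₀, eval_sub, eval_X, eval_C] at h4
  exact (mul_eq_zero.mp h4).resolve_right h5

end Groth.Agent.H8.Hens
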