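import Mathlib
import Groth.Agent.Lib.Helper8.PairHens.IdemLift
import Groth.Agent.Lib.Helper8.HensPair.FactorKey

set_option autoImplicit false
universe u
open IsLocalRing Polynomial

namespace Groth.Agent.H8.HenselFactor

open Groth.Agent.H8.HensPair Groth.Agent.H8.PairHens.ZMT

variable {R : Type u} [CommRing R]

/-- membership in `m S` for `S = R[X]/(f)` is divisibility mod `m`. -/
theorem mk_mem_map_iff (m : Ideal R) (f p : R[X]) :
    AdjoinRoot.mk f p ∈ m.map (algebraMap R (AdjoinRoot f)) ↔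
      f.map (Ideal.Quotient.mk m) ∣ p.map (Ideal.Quotient.mk m) := by
  rw [← Ideal.Quotient.eq_zero_iff_mem]
  have key := AdjoinRoot.quotEquivQuotMap_apply_mk f p m
  constructor
  · intro h
    have h' : Ideal.Quotient.mk (Ideal.map (AdjoinRoot.of f) m) (AdjoinRoot.mk f p) = 0 := h
    rw [h', map_zero] at key
    exact Ideal.mem_span_singleton.mp (Ideal.Quotient.eq_zero_iff_mem.mp key.symm)
  · intro h
    have h2 : Ideal.Quotient.mk (Ideal.span {f.map (Ideal.Quotient.mk m)})
        (p.map (Ideal.Quotient.mk m)) = 0 :=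
      Ideal.Quotient.eq_zero_iff_mem.mpr (Ideal.mem_span_singleton.mpr h)
    rw [h2] at key
    exact (AdjoinRoot.quotEquivQuotMap f m).injective (key.trans (map_zero _).symm)

theorem exists_factorization_of_ne_zero [HenselianLocalRing R]
    (f : R[X]) (g₀ h₀ : (ResidueField R)[X]) (hg : g₀.Monic) (hc : IsCoprime g₀ h₀)
    (hf : f.map (residue R) = g₀ * h₀) (hh₀ : h₀ ≠ 0) :
    ∃ g h : R[X], f = g * h ∧ g.Monic ∧ g.map (residue R) = g₀ ∧ h.map (residue R) = h₀ := by
  classical
  set m := maximalIdeal R with hm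
  have hres : Function.Surjective (residue R) := residue_surjective
  have hredsurj : Function.Surjective (Polynomial.map (residue R)) := map_surjective _ hres
  let S := AdjoinRoot f
  have hfne : f.map (residue R) ≠ 0 := by rw [hf]; exact mul_ne_zero hg.ne_zero hh₀
  haveI : Module.Finite R (S ⧸ m.map (algebraMap R S)) := by
    have e := AdjoinRoot.quotEquivQuotMap f m
    haveI h1 : Module.Finite (ResidueField R) (AdjoinRoot (f.map (residue R))) :=
      (AdjoinRoot.powerBasis hfne).finite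
    haveI h2 : Module.Finite (R ⧸ m) ((R ⧸ m)[X] ⧸ Ideal.span {map (Ideal.Quotient.mk m) f}) := h1
    haveI h3 : Module.Finite R ((R ⧸ m)[X] ⧸ Ideal.span {map (Ideal.Quotient.mk m) f}) :=
      Module.Finite.trans (R ⧸ m) _
    exact Module.Finite.equiv e.symm.toLinearEquiv
  obtain ⟨u₀, v₀, huv⟩ := hc
  obtain ⟨v, hv⟩ := hredsurj v₀
  obtain ⟨h₁, hh₁⟩ := hredsurj h₀
  obtain ⟨g₁, hg₁map, hg₁deg, hg₁mon⟩ := lifts_and_natDegree_eq_and_monic
    ((mem_lifts _).mpr (hredsurj g₀)) hg
  have hL2 : ∀ p : R[X], AdjoinRoot.mk f p ∈ m.map (algebraMap R S) ↔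
      g₀ * h₀ ∣ p.map (residue R) := by
    intro p
    rw [← hf]
    exact mk_mem_map_iff m f p
  -- the idempotent
  have hy₀ : AdjoinRoot.mk f (v * h₁) * AdjoinRoot.mk f (v * h₁) - AdjoinRoot.mk f (v * h₁) ∈
      m.map (algebraMap R S) := by
    rw [← map_mul, ← map_sub, hL2]
    refine ⟨-(u₀ * v₀), ?_⟩
    simp only [Polynomial.map_sub, Polynomial.map_mul, hv, hh₁]
    linear_combination (v₀ * h₀) * huv
  obtain ⟨e, he, hey, hfin⟩ := exists_idempotent_lift_finite R m S _ hy₀
  obtain ⟨E, rfl⟩ := AdjoinRoot.mk_surjective e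
  have hEY : g₀ * h₀ ∣ (E - v * h₁).map (residue R) := by
    rw [← hL2, map_sub]; exact hey
  obtain ⟨z, hz⟩ := hEY
  simp only [Polynomial.map_sub, Polynomial.map_mul, hv, hh₁] at hz
  set Ebar := E.map (residue R) with hEbar
  -- `1 - Ē = g₀ s`, `Ē = h₀ r`
  have hs : 1 - Ebar = g₀ * (u₀ - h₀ * z) := by linear_combination (-1 : (ResidueField R)[X]) * huv - hz
  have hr : Ebar = h₀ * (v₀ + g₀ * z) := by linear_combination hz
  set s₀ := u₀ - h₀ * z with hs₀
  set r₀ := v₀ + g₀ * z with hr₀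
  -- the finite factor `A`
  set e : S := AdjoinRoot.mk f E with he_def
  let A := S ⧸ Ideal.span {1 - e}
  let Φ : R[X] →ₐ[R] A := (Ideal.Quotient.mkₐ R (Ideal.span {1 - e})).comp (AdjoinRoot.mkₐ f)
  have hΦ : ∀ p, Φ p = Ideal.Quotient.mk (Ideal.span {1 - e}) (AdjoinRoot.mk f p) := fun p => rfl
  have hΦsurj : Function.Surjective Φ := by
    intro a
    obtain ⟨x, rfl⟩ := Ideal.Quotient.mk_surjective a
    obtain ⟨p, rfl⟩ := AdjoinRoot.mk_surjective x
    exact ⟨p, rfl⟩
  have hΦaeval : ∀ p, Φ p = aeval (Φ X) p := by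
    intro p
    rw [Polynomial.aeval_algHom_apply, Polynomial.aeval_X_left_apply]
  -- kernel of `Φ`
  have hΦker : ∀ p, Φ p = 0 → ∃ c a : R[X], p = (1 - E) * c + f * a := by
    intro p hp
    rw [hΦ, Ideal.Quotient.eq_zero_iff_mem, Ideal.mem_span_singleton'] at hp
    obtain ⟨c, hc⟩ := hp
    obtain ⟨c', rfl⟩ := AdjoinRoot.mk_surjective c
    have h1 : AdjoinRoot.mk f (p - (1 - E) * c') = 0 := by
      rw [map_sub, map_mul, map_sub, map_one, ← hc]; ring
    obtain ⟨a, ha⟩ := AdjoinRoot.mk_eq_zero.mp h1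
    exact ⟨c', a, by linear_combination ha⟩
  have hΦE : Φ (1 - E) = 0 := by
    rw [hΦ, Ideal.Quotient.eq_zero_iff_mem, map_sub, map_one]
    exact Ideal.mem_span_singleton_self _
  have hΦf : Φ f = 0 := by
    rw [hΦ, AdjoinRoot.mk_self, map_zero]
  -- key lemma
  have hL3a : ∀ p, Φ p ∈ m.map (algebraMap R A) → g₀ ∣ p.map (residue R) := by
    intro p hp
    have h1 : m.map (algebraMap R A) =
        (m.map (algebraMap R S)).map (Ideal.Quotient.mk (Ideal.span {1 - e})) := by
      rw [Ideal.map_map]; rfl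
    rw [h1, hΦ] at hp
    have h2 : AdjoinRoot.mk f p ∈ ((m.map (algebraMap R S)).map
        (Ideal.Quotient.mk (Ideal.span {1 - e}))).comap (Ideal.Quotient.mk (Ideal.span {1 - e})) := hp
    rw [Ideal.comap_map_of_surjective _ Ideal.Quotient.mk_surjective, ← RingHom.ker_eq_comap_bot,
      Ideal.mk_ker, Submodule.mem_sup] at h2
    obtain ⟨x, hx, y, hy, hxy⟩ := h2
    obtain ⟨c, hc⟩ := Ideal.mem_span_singleton'.mp hy
    obtain ⟨c', rfl⟩ := AdjoinRoot.mk_surjective c
    have h3 : AdjoinRoot.mk f (p - c' * (1 - E)) ∈ m.map (algebraMap R S) := by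
      have : AdjoinRoot.mk f (p - c' * (1 - E)) = x := by
        rw [map_sub, map_mul, map_sub, map_one, ← he_def, hc, ← hxy]; ring
      rw [this]; exact hx
    obtain ⟨w, hw⟩ := (hL2 _).mp h3
    simp only [Polynomial.map_sub, Polynomial.map_mul, Polynomial.map_one, ← hEbar] at hw
    refine ⟨h₀ * w + c'.map (residue R) * s₀, ?_⟩
    linear_combination hw + c'.map (residue R) * hs
  have hL3b : ∀ p, g₀ ∣ p.map (residue R) → Φ p ∈ m.map (algebraMap R A) := by
    rintro p ⟨q₀, hq₀⟩
    obtain ⟨q, rfl⟩ := hredsurj q₀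
    obtain ⟨r, hrr⟩ := hredsurj r₀
    have h1 : (p - q * g₁ * (1 - E) - q * r * f).map (Ideal.Quotient.mk m) = 0 := by
      show (p - q * g₁ * (1 - E) - q * r * f).map (residue R) = 0
      simp only [Polynomial.map_sub, Polynomial.map_mul, Polynomial.map_one, ← hEbar, hg₁map, hrr,
        hf, hq₀]
      linear_combination (g₀ * map (residue R) q) * hr
    have h2 := aeval_mem_map_of_map_eq_zero (I := m) (Φ X) h1
    rw [← hΦaeval, map_sub, map_sub, map_mul, map_mul _ _ f, hΦE, hΦf, mul_zero, mul_zero,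
      sub_zero, sub_zero] at h2
    exact h2
  -- Nakayama: `A` is spanned by `1, t, …, t^(d-1)`
  set d := g₀.natDegree with hd
  set t : A := Φ X with ht
  haveI : Nontrivial R := inferInstance
  have hspan : (⊤ : Submodule R A) ≤ Submodule.span R (Set.range fun i : Fin d => t ^ (i : ℕ)) := by
    apply Submodule.le_of_le_smul_of_le_jacobson_bot (I := m) Module.Finite.fg_top
      (maximalIdeal_le_jacobson _)
    intro a _
    obtain ⟨p, rfl⟩ := hΦsurj a
    rw [← modByMonic_add_div p g₁, map_add]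
    apply Submodule.add_mem_sup
    · rw [hΦaeval, aeval_eq_sum_range]
      refine Submodule.sum_mem _ fun i _ => ?_
      by_cases hi : (p %ₘ g₁).coeff i = 0
      · rw [hi, zero_smul]; exact Submodule.zero_mem _
      · have h1 : (i : WithBot ℕ) < d := by
          calc (i : WithBot ℕ) ≤ (p %ₘ g₁).degree := le_degree_of_ne_zero hi
            _ < g₁.degree := degree_modByMonic_lt p hg₁mon
            _ = d := by rw [degree_eq_natDegree hg₁mon.ne_zero, hg₁deg]
        have h2 : i < d := by exact_mod_cast h1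
        exact Submodule.smul_mem _ _ (Submodule.subset_span ⟨⟨i, h2⟩, rfl⟩)
    · rw [Ideal.smul_top_eq_map]
      show Φ (g₁ * (p /ₘ g₁)) ∈ m.map (algebraMap R A)
      rw [map_mul]
      exact Ideal.mul_mem_right _ _ (hL3b g₁ (by rw [hg₁map]))
  have htd : t ^ d ∈ Submodule.span R (Set.range fun i : Fin d => t ^ (i : ℕ)) := hspan trivial
  obtain ⟨c, hc⟩ := (Submodule.mem_span_range_iff_exists_fun R).mp htd
  set g : R[X] := X ^ d - ∑ i : Fin d, C (c i) * X ^ (i : ℕ) with hg_def
  have hgmon : g.Monic := monic_X_pow_sub (degree_sum_fin_lt c)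
  have hgdeg : g.natDegree ≤ d := by
    rw [hg_def]
    refine (natDegree_sub_le _ _).trans (max_le (natDegree_X_pow_le d) ?_)
    have := degree_sum_fin_lt c
    exact natDegree_le_of_degree_le this.le
  have hΦg : Φ g = 0 := by
    rw [hg_def, map_sub, map_pow, map_sum, ← ht, ← hc, sub_eq_zero]
    refine Finset.sum_congr rfl fun i _ => ?_
    rw [Algebra.smul_def, ← AlgHom.commutes Φ, Polynomial.algebraMap_apply, Algebra.algebraMap_self,
      RingHom.id_apply, map_mul, map_pow, ← ht]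
  have hgmap : g.map (residue R) = g₀ := by
    have h1 : g₀ ∣ g.map (residue R) := hL3a g (by rw [hΦg]; exact Ideal.zero_mem _)
    refine eq_of_monic_of_dvd_of_natDegree_le hg (hgmon.map _) h1 ?_
    exact natDegree_map_le.trans hgdeg
  -- final algebra: `g E = f w₁`
  obtain ⟨c', a, hca⟩ := hΦker g hΦg
  have hEE : f ∣ E * (1 - E) := by
    rw [← AdjoinRoot.mk_eq_zero, map_mul, map_sub, map_one, ← he_def]
    have : e * e = e := he
    rw [mul_sub, mul_one, this, sub_self]
  obtain ⟨w₀, hw₀⟩ := hEE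
  set w₁ := a * E + c' * w₀ with hw₁
  have hgE : g * E = f * w₁ := by
    rw [hw₁]; linear_combination E * hca + c' * hw₀
  have hbar : Ebar = h₀ * w₁.map (residue R) := by
    have h1 : g₀ * Ebar = g₀ * (h₀ * w₁.map (residue R)) := by
      have := congrArg (Polynomial.map (residue R)) hgE
      rw [Polynomial.map_mul, Polynomial.map_mul, hgmap, hf, ← hEbar] at this
      rw [this]; ring
    exact mul_left_cancel₀ hg.ne_zero h1
  obtain ⟨s', hs'⟩ := hredsurj s₀
  have hP : (h₁ * w₁ + g * s' - 1).map (Ideal.Quotient.mk m) = 0 := by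
    show (h₁ * w₁ + g * s' - 1).map (residue R) = 0
    simp only [Polynomial.map_sub, Polynomial.map_add, Polynomial.map_mul, Polynomial.map_one,
      hh₁, hgmap, hs']
    linear_combination (-1 : (ResidueField R)[X]) * hbar - hs
  have hPC := aeval_mem_map_of_map_eq_zero (I := m) (AdjoinRoot.root g) hP
  rw [AdjoinRoot.aeval_eq] at hPC
  haveI : Module.Finite R (AdjoinRoot g) := hgmon.finite_adjoinRoot
  haveI : Algebra.IsIntegral R (AdjoinRoot g) := Algebra.IsIntegral.of_finite R _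
  have hjac : AdjoinRoot.mk g (h₁ * w₁ + g * s' - 1) ∈ Ideal.jacobson (⊥ : Ideal (AdjoinRoot g)) :=
    map_le_jacobson_of_isIntegral (maximalIdeal_le_jacobson _) hPC
  have hunit : IsUnit (AdjoinRoot.mk g h₁ * AdjoinRoot.mk g w₁) := by
    have := Ideal.mem_jacobson_bot.mp hjac 1
    have h2 : AdjoinRoot.mk g (h₁ * w₁ + g * s' - 1) * 1 + 1 =
        AdjoinRoot.mk g h₁ * AdjoinRoot.mk g w₁ := by
      rw [map_sub, map_add, map_mul, map_mul, AdjoinRoot.mk_self, map_one]; ring
    rwa [h2] at this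
  have hunit' : IsUnit (AdjoinRoot.mk g w₁) := isUnit_of_mul_isUnit_right hunit
  have hzero : AdjoinRoot.mk g f * AdjoinRoot.mk g w₁ = 0 := by
    rw [← map_mul, ← hgE, map_mul, AdjoinRoot.mk_self, zero_mul]
  have hdvd : g ∣ f := AdjoinRoot.mk_eq_zero.mp (hunit'.mul_left_eq_zero.mp hzero)
  obtain ⟨h, hh⟩ := hdvd
  refine ⟨g, h, hh, hgmon, hgmap, ?_⟩
  have h1 : g₀ * h.map (residue R) = g₀ * h₀ := by
    rw [← hf, hh, Polynomial.map_mul, hgmap]
  exact mul_left_cancel₀ hg.ne_zero h1

/-- Stacks 04GG (6): general Hensel factorization over a henselian local ring. -/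
theorem exists_factorization [HenselianLocalRing R]
    (f : R[X]) (g₀ h₀ : (ResidueField R)[X]) (hg : g₀.Monic) (hc : IsCoprime g₀ h₀)
    (hf : f.map (residue R) = g₀ * h₀) :
    ∃ g h : R[X], f = g * h ∧ g.Monic ∧ g.map (residue R) = g₀ ∧ h.map (residue R) = h₀ := by
  by_cases hh₀ : h₀ = 0
  · subst hh₀
    have h1 : IsUnit g₀ := isCoprime_zero_right.mp hc
    have h2 : g₀ = 1 := hg.eq_one_of_isUnit h1
    subst h2
    refine ⟨1, f, (one_mul f).symm, monic_one, Polynomial.map_one _, ?_⟩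
    rw [hf, mul_zero]
  · exact exists_factorization_of_ne_zero f g₀ h₀ hg hc hf hh₀

end Groth.Agent.H8.HenselFactor
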