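import Mathlib
import Groth.Agent.Lib.Helper8.Hens.MultiHensel
import Groth.Agent.Lib.Helper8.Hens.QuotHens

/-!
# A normal-form criterion for henselian local rings, and henselian valuation rings (helper8)

* `henselianLocalRing_of_normal_form`: a local ring in which all polynomials `1 + X + c₂X² + ⋯`
  (`cᵢ ∈ m`) have roots is henselian.
* `henselianLocalRing_localization_of_valuationRing`: localisations of henselian valuation rings
  at primes are henselian.
-/

universe u
open IsLocalRing Polynomial

namespace Groth.Agent.H8.Hens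

/-- Evaluating a polynomial with coefficients in an ideal gives an element of the ideal. -/
theorem eval_mem_of_coeff_mem {R : Type*} [CommRing R] (I : Ideal R) (q : R[X]) (x : R)
    (hq : ∀ i, q.coeff i ∈ I) : q.eval x ∈ I := by
  rw [Polynomial.eval_eq_sum]
  exact Ideal.sum_mem _ fun i _ => Ideal.mul_mem_right _ _ (hq i)

/-- A normal-form criterion: a local ring is henselian as soon as all polynomials
`1 + X + c₂X² + ⋯` with `cᵢ` in the maximal ideal have a root. -/
theorem henselianLocalRing_of_normal_form (R : Type u) [CommRing R] [IsLocalRing R]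
    (H : ∀ g : R[X], g.coeff 0 = 1 → g.coeff 1 = 1 →
      (∀ i, 2 ≤ i → g.coeff i ∈ maximalIdeal R) → ∃ y, g.IsRoot y) :
    HenselianLocalRing R := by
  refine ⟨fun f _ a₀ h1 h2 => ?_⟩
  set h := f.comp (X + C a₀) with hh
  have hev : ∀ x, h.eval x = f.eval (x + a₀) := fun x => by
    rw [hh, eval_comp, eval_add, eval_X, eval_C]
  set d := h.natDegree with hd
  set e₀ := h.coeff 0 with he₀
  have he₀' : e₀ = f.eval a₀ := by
    rw [he₀, coeff_zero_eq_eval_zero, hev, zero_add]
  have he₁' : h.coeff 1 = f.derivative.eval a₀ := by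
    have h3 : (derivative h).coeff 0 = h.coeff 1 := by
      rw [coeff_derivative]; simp
    rw [← h3, coeff_zero_eq_eval_zero, hh, derivative_comp, eval_mul, eval_comp]
    simp
  obtain ⟨u, hu⟩ := h2.exists_left_inv
  have hu' : h.coeff 1 * u = 1 := by rw [he₁', mul_comm]; exact hu
  have he₀m : e₀ ∈ maximalIdeal R := he₀' ▸ h1
  set t := e₀ * u with ht
  have htm : t ∈ maximalIdeal R := Ideal.mul_mem_right _ _ he₀m
  have hd1 : 1 ≤ d := by
    apply le_natDegree_of_ne_zero
    intro h0
    rw [h0, zero_mul] at hu'
    exact zero_ne_one hu'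
  let γ : ℕ → R := fun i => if i = 0 then 1 else h.coeff i * e₀ ^ (i - 1) * u ^ i
  have hγ : ∀ i, e₀ * γ i = h.coeff i * t ^ i := by
    intro i
    rcases Nat.eq_zero_or_pos i with rfl | hi
    · simp [γ, he₀]
    · have : γ i = h.coeff i * e₀ ^ (i - 1) * u ^ i := by simp [γ, hi.ne']
      rw [this, ht, mul_pow]
      have h4 : e₀ ^ i = e₀ * e₀ ^ (i - 1) := by
        rw [← pow_succ', Nat.sub_add_cancel hi]
      rw [h4]; ring
  set g : R[X] := ∑ i ∈ Finset.range (d + 1), C (γ i) * X ^ i with hg
  have hgc : ∀ k, g.coeff k = if k < d + 1 then γ k else 0 := by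
    intro k
    rw [hg, finsetSum_coeff]
    simp only [coeff_C_mul_X_pow]
    rw [Finset.sum_ite_eq]
    simp
  have hg0 : g.coeff 0 = 1 := by rw [hgc]; simp [γ]
  have hg1 : g.coeff 1 = 1 := by
    rw [hgc, if_pos (by omega)]
    simp only [γ, one_ne_zero, if_false, Nat.sub_self, pow_zero, mul_one, pow_one]
    exact hu'
  have hgi : ∀ i, 2 ≤ i → g.coeff i ∈ maximalIdeal R := by
    intro i hi
    rw [hgc]
    split_ifs with hlt
    · have : γ i = h.coeff i * e₀ ^ (i - 1) * u ^ i := by
        simp only [γ]; rw [if_neg (by omega)]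
      rw [this]
      apply Ideal.mul_mem_right
      apply Ideal.mul_mem_left
      exact Ideal.pow_mem_of_mem _ he₀m _ (by omega)
    · exact zero_mem _
  obtain ⟨y, hy⟩ := H g hg0 hg1 hgi
  have hkey : h.eval (t * y) = e₀ * g.eval y := by
    rw [eval_eq_sum_range, hg, eval_finsetSum, Finset.mul_sum]
    refine Finset.sum_congr rfl fun i _ => ?_
    rw [eval_mul, eval_C, eval_pow, eval_X, ← mul_assoc, hγ, mul_pow]; ring
  refine ⟨t * y + a₀, ?_, ?_⟩
  · show f.eval (t * y + a₀) = 0
    rw [← hev, hkey, hy, mul_zero]
  · rw [add_sub_cancel_right]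
    exact Ideal.mul_mem_right _ _ htm

/-- Elements of the maximal ideal of the localisation of a valuation ring at a prime come from
the valuation ring. -/
theorem exists_algebraMap_eq_of_mem_maximalIdeal {V : Type*} [CommRing V] [IsDomain V]
    [ValuationRing V] (p : Ideal V) [p.IsPrime] (w : Localization.AtPrime p)
    (hw : w ∈ maximalIdeal (Localization.AtPrime p)) :
    ∃ v : V, algebraMap V (Localization.AtPrime p) v = w := by
  obtain ⟨a, s, rfl⟩ := IsLocalization.exists_mk'_eq p.primeCompl w
  rw [IsLocalization.AtPrime.mk'_mem_maximal_iff (Localization.AtPrime p) p] at hw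
  obtain ⟨c, hc | hc⟩ := ValuationRing.cond a (s : V)
  · exact absurd (hc ▸ Ideal.mul_mem_right c p hw) s.2
  · refine ⟨c, ?_⟩
    rw [IsLocalization.eq_mk'_iff_mul_eq, ← map_mul, mul_comm, hc]

/-- Localisations of henselian valuation rings at primes are henselian. -/
theorem henselianLocalRing_localization_of_valuationRing (V : Type u) [CommRing V] [IsDomain V]
    [ValuationRing V] [HenselianLocalRing V] (p : Ideal V) [p.IsPrime] :
    HenselianLocalRing (Localization.AtPrime p) := by
  set W := Localization.AtPrime p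
  have hinj : Function.Injective (algebraMap V W) :=
    IsLocalization.injective W p.primeCompl_le_nonZeroDivisors
  refine henselianLocalRing_of_normal_form W fun g hg0 hg1 hgi => ?_
  have hlift : g ∈ lifts (algebraMap V W) := by
    rw [Polynomial.lifts_iff_coeff_lifts]
    intro k
    rcases Nat.lt_or_ge k 2 with hk | hk
    · interval_cases k
      · exact ⟨1, by rw [map_one, hg0]⟩
      · exact ⟨1, by rw [map_one, hg1]⟩
    · exact exists_algebraMap_eq_of_mem_maximalIdeal p _ (hgi k hk)
  obtain ⟨gt, hgt⟩ := (Polynomial.mem_lifts g).mp hlift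
  have hc : ∀ k, algebraMap V W (gt.coeff k) = g.coeff k := fun k => by
    rw [← hgt, coeff_map]
  have hpm : p ≤ maximalIdeal V := IsLocalRing.le_maximalIdeal (Ideal.IsPrime.ne_top ‹_›)
  let q : V[X] := gt - (1 + X)
  have hq : ∀ i, q.coeff i ∈ maximalIdeal V := by
    intro i
    rcases Nat.lt_or_ge i 2 with hk | hk
    · have : q.coeff i = 0 := by
        apply hinj
        interval_cases i
        · simp [q, hc, hg0]
        · simp [q, hc, hg1, coeff_one]
      rw [this]; exact zero_mem _
    · have h1 : q.coeff i = gt.coeff i := by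
        have h2 : (1 + X : V[X]).coeff i = 0 := by
          rw [coeff_add, coeff_one, coeff_X, if_neg (by omega), if_neg (by omega), add_zero]
        simp only [q, coeff_sub, h2, sub_zero]
      rw [h1]
      apply hpm
      rw [← IsLocalization.AtPrime.to_map_mem_maximal_iff W p, hc]
      exact hgi i hk
  have hgtq : gt = (1 + X) + q := by simp [q]
  have h1 : gt.eval (-1) ∈ maximalIdeal V := by
    rw [hgtq, eval_add]
    have : (1 + X : V[X]).eval (-1) = 0 := by simp
    rw [this, zero_add]
    exact eval_mem_of_coeff_mem _ q _ hq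
  have h2 : IsUnit (gt.derivative.eval (-1)) := by
    rw [hgtq, derivative_add, eval_add]
    have h3 : (derivative (1 + X : V[X])).eval (-1) = 1 := by simp
    rw [h3]
    have h4 : (derivative q).eval (-1) ∈ maximalIdeal V := by
      apply eval_mem_of_coeff_mem
      intro i
      rw [coeff_derivative]
      exact Ideal.mul_mem_right _ _ (hq _)
    by_contra hnu
    have h5 : (1 : V) ∈ maximalIdeal V := by
      have := sub_mem (show 1 + eval (-1) (derivative q) ∈ maximalIdeal V from hnu) h4
      rwa [add_sub_cancel_right] at this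
    exact (Ideal.ne_top_iff_one _).mp (maximalIdeal.isMaximal V).ne_top h5
  obtain ⟨y, hy, -⟩ := exists_root_of_simple_root V gt (-1) h1 h2
  refine ⟨algebraMap V W y, ?_⟩
  show g.eval _ = 0
  rw [← hgt, eval_map, eval₂_at_apply, hy, map_zero]

end Groth.Agent.H8.Hens
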