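import Mathlib
import Groth.Agent.Lib.Helper8.Hens.ShTensorIntegral

open IsLocalRing TensorProduct

namespace Groth.Agent.H8.Hens.ShT

universe u

/-- The local quasi-finiteness hypothesis holds for integral algebras. -/
theorem H_of_isIntegral (R : Type u) [CommRing R] (E : Type u) [CommRing E] [Algebra R E]
    [Algebra.IsIntegral R E] (Q : Ideal E) [Q.IsPrime] :
    ∀ F : Finset E, ∃ (E₀ : Type u) (_ : CommRing E₀) (_ : Algebra R E₀)
      (_ : Algebra.FiniteType R E₀) (φ : E₀ →ₐ[R] E),
      (↑F : Set E) ⊆ Set.range φ ∧ Algebra.QuasiFiniteAt R (Q.comap φ.toRingHom) := by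
  intro F
  let E₀ : Subalgebra R E := Algebra.adjoin R (F : Set E)
  haveI hfin : Module.Finite R E₀ := by
    have := fg_adjoin_of_finite (R := R) F.finite_toSet (fun x _ => Algebra.IsIntegral.isIntegral x)
    exact Module.Finite.of_fg this
  haveI : (Q.comap E₀.val.toRingHom).IsPrime := Ideal.comap_isPrime _ _
  refine ⟨E₀, inferInstance, inferInstance, inferInstance, E₀.val, ?_, inferInstance⟩
  intro x hx
  exact ⟨⟨x, Algebra.subset_adjoin hx⟩, rfl⟩

end Groth.Agent.H8.Hens.ShT
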