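import Mathlib
import Groth.Agent.Lib.Helper8.Hens.ShApps

open IsLocalRing TensorProduct

namespace Groth.Agent.H8.Hens.ShT

universe u

theorem exists_finset_mem_range (A Rh B : Type*) [CommRing A] [CommRing Rh] [Algebra A Rh]
    [CommRing B] [Algebra A B] (x : Rh ⊗[A] B) :
    ∃ s : Finset B, ∀ B₀ : Subalgebra A B, (↑s : Set B) ⊆ ↑B₀ →
      x ∈ Set.range (Algebra.TensorProduct.map (AlgHom.id Rh Rh) B₀.val) := by
  classical
  induction x using TensorProduct.induction_on with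
  | zero => exact ⟨∅, fun B₀ _ => ⟨0, map_zero _⟩⟩
  | tmul a b =>
    refine ⟨{b}, fun B₀ h => ⟨a ⊗ₜ[A] (⟨b, h (by simp)⟩ : B₀), ?_⟩⟩
    simp
  | add x y hx hy =>
    obtain ⟨s₁, h₁⟩ := hx
    obtain ⟨s₂, h₂⟩ := hy
    refine ⟨s₁ ∪ s₂, fun B₀ h => ?_⟩
    obtain ⟨x', hx'⟩ := h₁ B₀ (fun z hz => h (by simp only [Finset.coe_union]; exact Or.inl hz))
    obtain ⟨y', hy'⟩ := h₂ B₀ (fun z hz => h (by simp only [Finset.coe_union]; exact Or.inr hz))
    exact ⟨x' + y', by rw [map_add, hx', hy']⟩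

/-- The local quasi-finiteness hypothesis for a base change of a directed union of
quasi-finite algebras. -/
theorem H_of_directed (A Rh B : Type u) [CommRing A] [CommRing Rh] [Algebra A Rh]
    [CommRing B] [Algebra A B]
    (hB : ∀ s : Finset B, ∃ B₀ : Subalgebra A B, (↑s : Set B) ⊆ ↑B₀ ∧
      Algebra.FiniteType A ↥B₀ ∧ Algebra.QuasiFinite A ↥B₀)
    (Q : Ideal (Rh ⊗[A] B)) [Q.IsPrime] :
    ∀ F : Finset (Rh ⊗[A] B), ∃ (E₀ : Type u) (_ : CommRing E₀) (_ : Algebra Rh E₀)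
      (_ : Algebra.FiniteType Rh E₀) (φ : E₀ →ₐ[Rh] Rh ⊗[A] B),
      (↑F : Set (Rh ⊗[A] B)) ⊆ Set.range φ ∧ Algebra.QuasiFiniteAt Rh (Q.comap φ.toRingHom) := by
  classical
  intro F
  choose sx hsx using exists_finset_mem_range A Rh B
  obtain ⟨B₀, hsB₀, hft, hqf⟩ := hB (F.biUnion sx)
  haveI := hft
  haveI := hqf
  let φ : Rh ⊗[A] B₀ →ₐ[Rh] Rh ⊗[A] B := Algebra.TensorProduct.map (AlgHom.id Rh Rh) B₀.val
  haveI : (Q.comap φ.toRingHom).IsPrime := Ideal.comap_isPrime _ _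
  refine ⟨Rh ⊗[A] B₀, inferInstance, inferInstance, inferInstance, φ, ?_, inferInstance⟩
  intro x hx
  apply hsx x B₀
  intro z hz
  apply hsB₀
  simp only [Finset.coe_biUnion, Set.mem_iUnion]
  exact ⟨x, hx, hz⟩

end Groth.Agent.H8.Hens.ShT
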