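import Mathlib
import Groth.Agent.Lib.Helper8.Hens.ShApps2

open IsLocalRing TensorProduct

namespace Groth.Agent.H8.Hens.ShT

universe u

/-- Transport of the local quasi-finiteness hypothesis along an algebra isomorphism. -/
theorem H_of_algEquiv {R : Type u} [CommRing R] {E E' : Type u} [CommRing E] [Algebra R E]
    [CommRing E'] [Algebra R E'] (e : E ≃ₐ[R] E') (Q' : Ideal E') [Q'.IsPrime]
    (H : ∀ F : Finset E, ∃ (E₀ : Type u) (_ : CommRing E₀) (_ : Algebra R E₀)
      (_ : Algebra.FiniteType R E₀) (φ : E₀ →ₐ[R] E),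
      (↑F : Set E) ⊆ Set.range φ ∧
        Algebra.QuasiFiniteAt R ((Q'.comap e.toAlgHom.toRingHom).comap φ.toRingHom)) :
    ∀ F : Finset E', ∃ (E₀ : Type u) (_ : CommRing E₀) (_ : Algebra R E₀)
      (_ : Algebra.FiniteType R E₀) (φ : E₀ →ₐ[R] E'),
      (↑F : Set E') ⊆ Set.range φ ∧ Algebra.QuasiFiniteAt R (Q'.comap φ.toRingHom) := by
  classical
  intro F
  obtain ⟨E₀, i1, i2, i3, φ, hF, hqf⟩ := H (F.image e.symm)
  refine ⟨E₀, i1, i2, i3, e.toAlgHom.comp φ, ?_, hqf⟩
  intro x hx
  have : e.symm x ∈ (↑(F.image e.symm) : Set E) := by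
    simp only [Finset.coe_image, Set.mem_image]
    exact ⟨x, hx, rfl⟩
  obtain ⟨y, hy⟩ := hF this
  refine ⟨y, ?_⟩
  show e (φ y) = x
  rw [hy, AlgEquiv.apply_symm_apply]

section LocalCase

variable (A B S T : Type u) [CommRing A] [IsLocalRing A] [CommRing B] [IsLocalRing B] [Algebra A B]
  [CommRing S] [IsLocalRing S] [Algebra A S] [IsLocalHom (algebraMap A S)]
  [CommRing T] [IsLocalRing T] [Algebra B T] [IsLocalHom (algebraMap B T)]
  [Algebra A T] [IsScalarTower A B T] [Algebra S T] [IsScalarTower A S T]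
  [IsLocalHom (algebraMap S T)]

attribute [local instance] Algebra.TensorProduct.rightAlgebra

theorem Q_liesOver : (LT.Q A B S T).LiesOver (maximalIdeal S) := by
  refine ⟨?_⟩
  have h1 : (LT.Q A B S T).comap (algebraMap S (B ⊗[A] S)) =
      (maximalIdeal T).comap (algebraMap S T) := by
    ext s
    have h0 : LT.phi A B S T (algebraMap S (B ⊗[A] S) s) = algebraMap S T s := by
      show LT.phi A B S T ((1 : B) ⊗ₜ[A] s) = algebraMap S T s
      simp [LT.phi]
    rw [Ideal.mem_comap, Ideal.mem_comap, Ideal.mem_comap, h0]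
  rw [Ideal.under_def, h1]
  have h2 : (maximalIdeal T).comap (algebraMap S T) = maximalIdeal S :=
    ((local_hom_TFAE (algebraMap S T)).out 0 4).mp ‹_›
  exact h2.symm

/-- Local version: if `B` is a directed union of quasi-finite `A`-algebras of finite type, then
`B^sh` is integral over `A^sh`. -/
theorem isIntegral_of_directed_local
    [hS : Hensel.IsStrictHenselization A S] [hT : Hensel.IsStrictHenselization B T]
    (hB : ∀ s : Finset B, ∃ B₀ : Subalgebra A B, (↑s : Set B) ⊆ ↑B₀ ∧
      Algebra.FiniteType A ↥B₀ ∧ Algebra.QuasiFinite A ↥B₀) :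
    Algebra.IsIntegral S T := by
  haveI : HenselianLocalRing S := hS.henselian
  haveI : IsSepClosed (ResidueField S) := hS.isSepClosure.sep_closed
  haveI := Q_liesOver A B S T
  have H := H_of_algEquiv (Algebra.TensorProduct.commRight A S B) (LT.Q A B S T)
    (H_of_directed A S B hB _)
  obtain ⟨hint, hhens, hsep⟩ := strictHenselian_localization S (B ⊗[A] S) (LT.Q A B S T) H
  have hbij := LT.bijective_vMap A B S T
  refine ⟨fun y => ?_⟩
  obtain ⟨d, rfl⟩ := hbij.2 y
  have hd : IsIntegral S d := Algebra.IsIntegral.isIntegral d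
  refine hd.map_of_comp_eq (RingHom.id S) (LT.vMap A B S T) ?_
  refine RingHom.ext fun r => ?_
  simp only [RingHom.comp_apply, RingHom.id_apply]
  rw [IsScalarTower.algebraMap_apply S (B ⊗[A] S) (Localization.AtPrime (LT.Q A B S T)),
    LT.vMap_algebraMap]
  show _ = LT.phi A B S T ((1 : B) ⊗ₜ[A] r)
  simp [LT.phi]

end LocalCase

end Groth.Agent.H8.Hens.ShT
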