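import Mathlib
import Groth.Agent.Lib.Helper8.HensPair.EtaleLift
import Groth.Agent.Lib.Helper8.HensPair.Integral

universe u
open Polynomial IsLocalRing

namespace Groth.Agent.H8.S12222

theorem main (R : Type u) [CommRing R] [IsLocalRing R]
    (H : ∀ (S : Type u) [CommRing S] [Algebra R S] [Algebra.FiniteType R S],
      ∃ e : S, IsIdempotentElem e ∧ Module.Finite R (S ⧸ Ideal.span ({1 - e} : Set S)) ∧
        ∀ (q : Ideal (S ⧸ Ideal.span ({e} : Set S))) [q.IsPrime],
          q.LiesOver (IsLocalRing.maximalIdeal R) → ¬ Algebra.QuasiFiniteAt R q) :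
    HenselianLocalRing R := by
  refine ⟨fun f hf a₀ h₁ h₂ => ?_⟩
  let B := AdjoinRoot f
  let t : B := AdjoinRoot.root f
  have hft : aeval t f = 0 := AdjoinRoot.aeval_eq f ▸ AdjoinRoot.mk_self
  have hdiv : ∀ p : R[X], ∃ q : R[X], p = (X - C a₀) * q + C (p.eval a₀) := by
    intro p
    refine ⟨p /ₘ (X - C a₀), ?_⟩
    have := modByMonic_add_div p (X - C a₀)
    rw [modByMonic_X_sub_C_eq_C_eval] at this
    linear_combination -this
  obtain ⟨h, hfh⟩ := hdiv f
  have hder : f.derivative.eval a₀ = h.eval a₀ := by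
    conv_lhs => rw [hfh]
    simp
  rw [hder] at h₂
  haveI : Module.Finite R B := (AdjoinRoot.powerBasis' hf).finite
  haveI : Module.Free R B := Module.Free.of_basis (AdjoinRoot.powerBasis' hf).basis
  let y : B := aeval t h
  let S := Localization.Away y
  let k := ResidueField R
  -- the `k`-point
  let χB : B →ₐ[R] k := AdjoinRoot.liftAlgHom f (Algebra.ofId R k) (residue R a₀) (by
      show eval₂ (algebraMap R k) (algebraMap R k a₀) f = 0
      rw [Polynomial.eval₂_at_apply]
      exact (residue_eq_zero_iff _).mpr h₁)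
  have hχBt : χB t = residue R a₀ := AdjoinRoot.liftAlgHom_root f _ _ _
  have hχBy : IsUnit (χB y) := by
    show IsUnit (χB (aeval t h))
    rw [← aeval_algHom_apply, hχBt]
    have : aeval (residue R a₀) h = residue R (h.eval a₀) := by
      show aeval (algebraMap R k a₀) h = algebraMap R k (h.eval a₀)
      rw [aeval_algebraMap_apply, Polynomial.coe_aeval_eq_eval]
    rw [this]
    exact h₂.map _
  let χ : S →ₐ[R] k := IsLocalization.liftAlgHom (M := Submonoid.powers y) (f := χB) (by
    rintro ⟨_, n, rfl⟩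
    rw [map_pow]
    exact hχBy.pow n)
  have hχalg : ∀ b : B, χ (algebraMap B S b) = χB b := fun b =>
    IsLocalization.lift_eq (M := Submonoid.powers y) _ b
  obtain ⟨e, he, hfin, hnq⟩ := H S
  -- `e` does not vanish at the `k`-point
  have hχe : χ e = 1 := by
    have hidem : IsIdempotentElem (χ e) := he.map χ
    rcases (IsIdempotentElem.iff_eq_zero_or_one).mp hidem with h0 | h1
    · exfalso
      let T := S ⧸ Ideal.span ({e} : Set S)
      let χT : T →ₐ[R] k := Ideal.Quotient.liftₐ _ χ (by
        intro x hx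
        obtain ⟨z, rfl⟩ := Ideal.mem_span_singleton'.mp hx
        rw [map_mul, h0, mul_zero])
      let q : Ideal T := RingHom.ker χT.toRingHom
      haveI : q.IsPrime := RingHom.ker_isPrime _
      have hq : q.LiesOver (maximalIdeal R) := by
        refine ⟨?_⟩
        ext x
        rw [Ideal.under, Ideal.mem_comap, RingHom.mem_ker]
        show _ ↔ χT (algebraMap R T x) = 0
        rw [χT.commutes]
        exact (residue_eq_zero_iff x).symm
      exact hnq q hq inferInstance
    · exact h1
  let A₁ := S ⧸ Ideal.span ({1 - e} : Set S)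
  let π₁ : S →ₐ[R] A₁ := Ideal.Quotient.mkₐ R _
  have hπ₁surj : Function.Surjective π₁ := Ideal.Quotient.mkₐ_surjective R _
  have hπ₁e : π₁ e = 1 := by
    have : π₁ (1 - e) = 0 := Ideal.Quotient.eq_zero_iff_mem.mpr (Ideal.mem_span_singleton_self _)
    rw [map_sub, map_one, sub_eq_zero] at this
    exact this.symm
  let χ₁ : A₁ →ₐ[R] k := Ideal.Quotient.liftₐ _ χ (by
    intro x hx
    obtain ⟨z, rfl⟩ := Ideal.mem_span_singleton'.mp hx
    rw [map_mul, map_sub, map_one, hχe, sub_self, mul_zero])
  haveI : Module.Finite R A₁ := hfin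
  haveI : Module.Flat R S := Module.Flat.trans R B S
  haveI : Module.Flat R A₁ := by
    have hker : Ideal.span {1 - e} ≤ LinearMap.ker (LinearMap.mulLeft S e) := by
      rw [Ideal.span_le, Set.singleton_subset_iff]
      show e * (1 - e) = 0
      rw [mul_sub, mul_one, he.eq, sub_self]
    let i : A₁ →ₗ[R] S := (Submodule.liftQ _ (LinearMap.mulLeft S e) hker).restrictScalars R
    have hi : ∀ z : S, i (π₁ z) = e * z := fun z => rfl
    refine Module.Flat.of_retract i π₁.toLinearMap ?_
    ext x
    obtain ⟨z, rfl⟩ := hπ₁surj x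
    show π₁ (i (π₁ z)) = π₁ z
    rw [hi, map_mul, hπ₁e, one_mul]
  -- `S = R + mS`
  set mS := (maximalIdeal R).map (algebraMap R S) with hmS
  have hyunit : IsUnit (algebraMap B S y) := IsLocalization.Away.algebraMap_isUnit y
  have hta : algebraMap B S t - algebraMap R S a₀ ∈ mS := by
    have h1 : (t - algebraMap R B a₀) * y = -algebraMap R B (f.eval a₀) := by
      have := congr_arg (aeval t) hfh
      rw [hft, map_add, map_mul, map_sub, aeval_X, aeval_C, aeval_C] at this
      linear_combination -this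
    have h2 := congr_arg (algebraMap B S) h1
    rw [map_mul, map_sub, map_neg, ← IsScalarTower.algebraMap_apply,
      ← IsScalarTower.algebraMap_apply] at h2
    obtain ⟨v, hv⟩ := hyunit.exists_right_inv
    have h3 : algebraMap B S t - algebraMap R S a₀ = -algebraMap R S (f.eval a₀) * v := by
      rw [← h2, mul_assoc, hv, mul_one]
    rw [h3]
    exact Ideal.mul_mem_right _ _ (neg_mem (Ideal.mem_map_of_mem _ h₁))
  have hB : ∀ p : R[X], algebraMap B S (aeval t p) - algebraMap R S (p.eval a₀) ∈ mS := by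
    intro p
    obtain ⟨q, hq⟩ := hdiv p
    have : aeval t p = (t - algebraMap R B a₀) * aeval t q + algebraMap R B (p.eval a₀) := by
      conv_lhs => rw [hq]
      rw [map_add, map_mul, map_sub, aeval_X, aeval_C, aeval_C]
    rw [this, map_add, map_mul, map_sub, ← IsScalarTower.algebraMap_apply,
      ← IsScalarTower.algebraMap_apply, add_sub_cancel_right]
    exact Ideal.mul_mem_right _ _ hta
  have key : ∀ s : S, ∃ r : R, s - algebraMap R S r ∈ mS := by
    intro s
    obtain ⟨⟨b, ⟨_, n, rfl⟩⟩, hs⟩ := IsLocalization.surj (Submonoid.powers y) s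
    obtain ⟨p, rfl⟩ := AdjoinRoot.mk_surjective b
    have hb := hB p
    rw [AdjoinRoot.aeval_eq] at hb
    have hyn := hB (h ^ n)
    rw [map_pow, eval_pow] at hyn
    obtain ⟨v, hv⟩ := (h₂.pow n).exists_right_inv
    refine ⟨p.eval a₀ * v, ?_⟩
    have hs' : s * algebraMap B S (y ^ n) = algebraMap B S (AdjoinRoot.mk f p) := hs
    have : s - algebraMap R S (p.eval a₀ * v) =
        algebraMap R S v * ((algebraMap B S (AdjoinRoot.mk f p) - algebraMap R S (p.eval a₀)) -
          s * (algebraMap B S (y ^ n) - algebraMap R S (h.eval a₀ ^ n))) := by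
      rw [← hs', map_mul]
      have hv' : algebraMap R S (h.eval a₀ ^ n) * algebraMap R S v = 1 := by
        rw [← map_mul, hv, map_one]
      linear_combination (-s) * hv'
    rw [this]
    exact Ideal.mul_mem_left _ _ (Ideal.sub_mem _ hb (Ideal.mul_mem_left _ _ hyn))
  have hsurj : Function.Surjective (algebraMap R A₁) := by
    have hN : (⊤ : Submodule R A₁) ≤ LinearMap.range (Algebra.linearMap R A₁) := by
      apply Submodule.le_of_le_smul_of_le_jacobson_bot Module.Finite.fg_top
        (IsLocalRing.jacobson_eq_maximalIdeal ⊥ bot_ne_top).ge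
      rintro x -
      obtain ⟨s, rfl⟩ := hπ₁surj x
      obtain ⟨r, hr⟩ := key s
      have : π₁ s = algebraMap R A₁ r + π₁ (s - algebraMap R S r) := by
        rw [map_sub, π₁.commutes]; ring
      rw [this]
      refine Submodule.add_mem_sup ⟨r, rfl⟩ ?_
      rw [Ideal.smul_top_eq_map]
      exact HensPair.map_mem_map_of_algHom π₁ hr
    intro x
    exact hN (Submodule.mem_top (x := x))
  have hker : RingHom.ker (algebraMap R A₁) ≤ Ideal.jacobson ⊥ := by
    rw [IsLocalRing.jacobson_eq_maximalIdeal ⊥ bot_ne_top]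
    intro x hx
    have : χ₁ (algebraMap R A₁ x) = 0 := by rw [RingHom.mem_ker.mp hx, map_zero]
    rw [χ₁.commutes] at this
    exact (residue_eq_zero_iff x).mp this
  have hbij := HensPair.bijective_algebraMap_of_flat_of_surjective hsurj hker
  let E : R ≃ₐ[R] A₁ := AlgEquiv.ofBijective (Algebra.ofId R A₁) hbij
  let ρ : B →ₐ[R] R := ((E.symm : A₁ →ₐ[R] R).comp π₁).comp (IsScalarTower.toAlgHom R B S)
  have hfa : f.eval (ρ t) = 0 := by
    rw [← Polynomial.coe_aeval_eq_eval, aeval_algHom_apply, hft, map_zero]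
  have hha : IsUnit (h.eval (ρ t)) := by
    rw [← Polynomial.coe_aeval_eq_eval, aeval_algHom_apply]
    show IsUnit (E.symm (π₁ (algebraMap B S y)))
    exact (hyunit.map π₁).map E.symm
  refine ⟨ρ t, hfa, ?_⟩
  have h4 : (ρ t - a₀) * h.eval (ρ t) = -f.eval a₀ := by
    have := congr_arg (Polynomial.eval (ρ t)) hfh
    rw [hfa, eval_add, eval_mul, eval_sub, eval_X, eval_C, eval_C] at this
    linear_combination -this
  obtain ⟨v, hv⟩ := hha.exists_right_inv
  have h5 : ρ t - a₀ = -f.eval a₀ * v := by
    rw [← h4, mul_assoc, hv, mul_one]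
  rw [h5]
  exact Ideal.mul_mem_right _ _ (neg_mem h₁)

end Groth.Agent.H8.S12222
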